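import Cfsg.Agent.S0799
import Cfsg.Agent.S0813
import Cfsg.Agent.H452.FprPsl2
import Cfsg.Agent.H436.TTPsl2
import Cfsg.Agent.H884.ElRows_m3
import Cfsg.Agent.H954.TSBridge
import Cfsg.Agent.H946.ExcNum_m3
import Cfsg.Agent.LieClassical.OmegaReindex
import Cfsg.Agent.H884.ElO8
import Cfsg.Agent.H262.ElFourA
import Cfsg.Agent.H925.OrthType
import Cfsg.Agent.H781.Cov9.Perm_m3
import Cfsg.Agent.H781.Cov9.Res
import Cfsg.Agent.H955.QClass
import Cfsg.Agent.H278.Cov.Defs
import Cfsg.Prelude.Def_GeometricClasses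
import Cfsg.Agent.H813.SaxSpK
import Cfsg.Agent.H97.Sp4Ext
import Cfsg.Agent.H159.PF.FieldUniq
import Cfsg.Agent.H16.PSp4.Bridge
import Cfsg.Agent.S5823
import Mathlib
import Cfsg.Agent.H779.DP.ULev
import Cfsg.Agent.H956.SUTorus
import Cfsg.Agent.S2638
import Cfsg.Agent.H771.KTools_m3
import Cfsg.Agent.Lib.Zsigmondy
import Cfsg.Agent.H921.UnitBase
import Cfsg.Agent.FastGrp
import Cfsg.Agent.Prune
set_option linter.all false

section
prune_inst 0x7f00000000000000000000000000000000000000000000000000000000000000000000000000000000000000000000000000000000000000000000000000000000000000000000000000000000000000003fffffffffffffffffffffffffffaeffbdffffffff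

-- part: H248/Cov/Dick
section
set_option linter.all false
open scoped Cfsg.Agent.FastGrp

/-!
# S2499: two subgroups of order `r` of `PSL_2(p ^ N)`, `r` a primitive prime of `p ^ (2 N) - 1`
-/

set_option autoImplicit false
set_option linter.unusedSectionVars false

namespace Cfsg.Agent.H248.Cov

open Cfsg Cfsg.Agent.H884.El
open scoped MatrixGroups

theorem zpowers_eq_of_cyclic {C : Type*} [Group C] [Finite C] [IsCyclic C] {x y : C} (h : orderOf x = orderOf y) :
    Subgroup.zpowers x = Subgroup.zpowers y := by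
  classical
  have : Fintype C := Fintype.ofFinite C
  have key : ∀ z : C, orderOf z = orderOf x → (Subgroup.zpowers z : Set C) = {c : C | c ^ orderOf x = 1} := by
    intro z hz
    refine Set.eq_of_subset_of_ncard_le ?_ ?_ (Set.toFinite _)
    · rintro c ⟨n, rfl⟩
      change (z ^ n) ^ orderOf x = 1
      rw [← hz, ← zpow_natCast, ← zpow_mul, mul_comm, zpow_mul, zpow_natCast, pow_orderOf_eq_one, one_zpow]
    · have h1 := IsCyclic.card_pow_eq_one_le (α := C) (orderOf_pos x)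
      have h2 : ({c : C | c ^ orderOf x = 1} : Set C).ncard = (Finset.univ.filter fun c : C => c ^ orderOf x = 1).card := by
        rw [← Set.ncard_coe_finset]
        congr 1
        ext c
        simp
      rw [h2, ← Nat.card_coe_set_eq, SetLike.coe_sort_coe, Nat.card_zpowers, hz]
      exact h1
  apply SetLike.coe_injective
  rw [key x rfl, key y h.symm]

theorem zpowers_eq_of_mem_cyclic {G : Type*} [Group G] {C : Subgroup G} [Finite C] (hC : IsCyclic C) {x y : G}
    (hx : x ∈ C) (hy : y ∈ C) (h : orderOf x = orderOf y) : Subgroup.zpowers x = Subgroup.zpowers y := by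
  have h1 : orderOf (⟨x, hx⟩ : C) = orderOf (⟨y, hy⟩ : C) := by
    rw [Subgroup.orderOf_mk, Subgroup.orderOf_mk, h]
  have h2 := congrArg (Subgroup.map C.subtype) (zpowers_eq_of_cyclic h1)
  rwa [MonoidHom.map_zpowers, MonoidHom.map_zpowers] at h2

/-- elements of odd prime order of a dihedral group -/
theorem dihedral_zpowers {k r : ℕ} (hk : k ≠ 0) (hr : r.Prime) (hr2 : r ≠ 2) {x y : DihedralGroup k}
    (hx : orderOf x = r) (hy : orderOf y = r) : Subgroup.zpowers x = Subgroup.zpowers y := by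
  have : NeZero k := ⟨hk⟩
  have hfin : Finite (DihedralGroup k) := inferInstance
  have key : ∀ z : DihedralGroup k, orderOf z = r → z ∈ Subgroup.zpowers (DihedralGroup.r 1 : DihedralGroup k) := by
    intro z hz
    rcases z with i | i
    · refine ⟨(i.val : ℤ), ?_⟩
      change (DihedralGroup.r 1 : DihedralGroup k) ^ (i.val : ℤ) = _
      rw [zpow_natCast, DihedralGroup.r_one_pow]
      simp
    · exfalso
      rw [DihedralGroup.orderOf_sr] at hz
      exact hr2 hz.symm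
  exact zpowers_eq_of_mem_cyclic (inferInstance : IsCyclic (Subgroup.zpowers (DihedralGroup.r 1 : DihedralGroup k)))
    (key x hx) (key y hy) (hx.trans hy.symm)

variable {K : Type*} [Field K] [Fintype K] {p N r : ℕ} [hp : Fact p.Prime] [CharP K p]

/-- **two elements of order `r`** -/
theorem dickson_pp (hK : Fintype.card K = p ^ N) (hN : 1 ≤ N) (hr : PP p (2 * N) r) (h7 : 7 ≤ r)
    {x y : Matrix.ProjectiveSpecialLinearGroup (Fin 2) K} (hx : orderOf x = r) (hy : orderOf y = r) :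
    Subgroup.closure {x, y} = ⊤ ∨ Subgroup.zpowers x = Subgroup.zpowers y := by
  classical
  set M := Subgroup.closure {x, y} with hM
  have hxM : x ∈ M := Subgroup.subset_closure (by simp)
  have hyM : y ∈ M := Subgroup.subset_closure (by simp)
  have hrp := Fact.mk hr.prime
  have hfinP : Finite (Matrix.ProjectiveSpecialLinearGroup (Fin 2) K) := Quotient.finite _
  have hrM : r ∣ Nat.card M := by
    rw [← hx, ← Subgroup.orderOf_mk x hxM]
    exact orderOf_dvd_natCard _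
  have hK1 : 1 < Fintype.card K := Fintype.one_lt_card
  have hcardP := Cfsg.Agent.H394.SqPsl2.card_psl (F := K)
  have hrq : ¬ r ∣ Fintype.card K := by
    rw [hK]
    intro h
    exact hr.not_dvd (by omega) (hr.prime.dvd_of_dvd_pow h)
  have hmap : ∀ {x' y' : M}, orderOf x' = orderOf y' → (x' : Matrix.ProjectiveSpecialLinearGroup (Fin 2) K) = x →
      (y' : Matrix.ProjectiveSpecialLinearGroup (Fin 2) K) = y → Subgroup.zpowers x' = Subgroup.zpowers y' →
      Subgroup.zpowers x = Subgroup.zpowers y := by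
    intro x' y' _ hx' hy' h
    have h2 := congrArg (Subgroup.map M.subtype) h
    rw [MonoidHom.map_zpowers, MonoidHom.map_zpowers] at h2
    change Subgroup.zpowers (x' : Matrix.ProjectiveSpecialLinearGroup (Fin 2) K) =
      Subgroup.zpowers (y' : Matrix.ProjectiveSpecialLinearGroup (Fin 2) K) at h2
    rwa [hx', hy'] at h2
  have ox : orderOf (⟨x, hxM⟩ : M) = r := by rw [Subgroup.orderOf_mk, hx]
  have oy : orderOf (⟨y, hyM⟩ : M) = r := by rw [Subgroup.orderOf_mk, hy]
  have htop : Nat.card (Matrix.ProjectiveSpecialLinearGroup (Fin 2) K) ≤ Nat.card M → M = ⊤ := by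
    intro h
    exact Subgroup.eq_top_of_le_card M h
  rcases Cfsg.Agent.S0799.result hK p M with ⟨k, -, hk⟩ | ⟨P, K', hK', ⟨e⟩⟩ | ⟨⟨e⟩⟩ | ⟨⟨e⟩⟩ | ⟨⟨e⟩⟩ | ⟨K', iK, iK', m, hm, he⟩
  · right
    rcases hk with ⟨hc, -⟩ | ⟨⟨e⟩⟩
    · exact hmap (ox.trans oy.symm) rfl rfl (zpowers_eq_of_cyclic (ox.trans oy.symm))
    · have hk0 : k ≠ 0 := by
        rintro rfl
        have h1 : Finite (DihedralGroup 0) := Finite.of_equiv _ e.toEquiv
        have h2 := DihedralGroup.nat_card (n := 0)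
        rw [mul_zero] at h2
        have h3 := Nat.card_pos (α := DihedralGroup 0)
        omega
      have h1 := dihedral_zpowers hk0 hr.prime (by omega) (x := e ⟨x, hxM⟩) (y := e ⟨y, hyM⟩)
        (by rw [MulEquiv.orderOf_eq, ox]) (by rw [MulEquiv.orderOf_eq, oy])
      refine hmap (ox.trans oy.symm) rfl rfl ?_
      have h2 := congrArg (Subgroup.map e.symm.toMonoidHom) h1
      rw [MonoidHom.map_zpowers, MonoidHom.map_zpowers] at h2
      simpa using h2
  · exfalso
    rw [Nat.card_congr e.toEquiv] at hrM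
    have h1 := hrM.trans (Subgroup.card_dvd_of_le hK')
    have h2 := (Subgroup.normalizer ((P : Subgroup (Matrix.ProjectiveSpecialLinearGroup (Fin 2) K)) :
      Set (Matrix.ProjectiveSpecialLinearGroup (Fin 2) K))).card_mul_index
    rw [Cfsg.Agent.H436.TT.index_normalizer p P] at h2
    rw [← h2, Cfsg.Agent.H394.SqPsl2.sub_mul_self hK1.le, ← mul_assoc, mul_comm (Fintype.card K + 1) (Fintype.card K - 1),
      ← mul_assoc] at hcardP
    have h3 := Nat.eq_of_mul_eq_mul_right (by omega) hcardP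
    have h4 : r ∣ Fintype.card K * (Fintype.card K - 1) := by
      rw [← h3]
      exact Dvd.dvd.mul_left h1 _
    rcases hr.prime.dvd_mul.1 h4 with h5 | h5
    · exact hrq h5
    · rw [hK, hr.dvd_iff hp.out.one_lt.le] at h5
      have := Nat.le_of_dvd (by omega) h5
      omega
  · exfalso
    rw [Nat.card_congr e.toEquiv] at hrM
    have h1 : Nat.card (alternatingGroup (Fin 4)) = 12 := by
      rw [Nat.card_eq_fintype_card]; decide
    rw [h1] at hrM
    have := Nat.le_of_dvd (by norm_num) hrM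
    interval_cases r <;> revert hrM <;> first | decide | (intro; exact absurd hr.prime (by norm_num))
  · exfalso
    rw [Nat.card_congr e.toEquiv, Nat.card_perm, Nat.card_fin] at hrM
    have h1 := (hr.prime.dvd_factorial).1 hrM
    omega
  · exfalso
    rw [Nat.card_congr e.toEquiv] at hrM
    have h1 : Nat.card (alternatingGroup (Fin 5)) ∣ Nat.card (Equiv.Perm (Fin 5)) := Subgroup.card_subgroup_dvd_card _
    have h2 := hrM.trans h1
    rw [Nat.card_perm, Nat.card_fin] at h2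
    have h3 := (hr.prime.dvd_factorial).1 h2
    omega
  · left
    obtain ⟨N', -, hN'⟩ : ∃ N' ≤ N, Fintype.card K' = p ^ N' := by
      have h1 : Fintype.card K' ∣ p ^ N := by
        rw [← hm]
        refine dvd_pow_self _ ?_
        rintro rfl
        rw [pow_zero, eq_comm, Nat.pow_eq_one] at hm
        rcases hm with h | h
        · exact hp.out.one_lt.ne' h
        · omega
      exact (Nat.dvd_prime_pow hp.out).1 h1
    have hNm : N = N' * m := by
      rw [hN', ← pow_mul] at hm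
      exact (Nat.pow_right_injective hp.out.two_le hm).symm
    have hK'1 : 1 < Fintype.card K' := Fintype.one_lt_card
    have hrK' : r ∣ Fintype.card K' * (Fintype.card K' ^ 2 - 1) := by
      rcases he with ⟨⟨e⟩⟩ | ⟨⟨e⟩⟩
      · rw [Nat.card_congr e.toEquiv] at hrM
        rw [← Cfsg.Agent.H394.SqPsl2.card_psl (F := K')]
        exact Dvd.dvd.mul_left hrM _
      · rw [Nat.card_congr e.toEquiv] at hrM
        rwa [Cfsg.Agent.H394.SqPsl2.card_pgl] at hrM
    have hN'0 : N' ≠ 0 := by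
      rintro rfl
      rw [pow_zero] at hN'
      omega
    have h3 : N = N' := by
      rcases hr.prime.dvd_mul.1 hrK' with h | h
      · rw [hN'] at h
        exact absurd (hr.prime.dvd_of_dvd_pow h) (hr.not_dvd (by omega))
      · rw [hN', ← pow_mul, hr.dvd_iff hp.out.one_lt.le] at h
        have h4 := Nat.le_of_dvd (by omega) h
        have h5 : m ≠ 0 := by
          rintro rfl
          omega
        have h6 : N' * 1 ≤ N' * m := Nat.mul_le_mul_left _ (by omega)
        omega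
    have hcc : Fintype.card K' = Fintype.card K := by rw [hN', hK, h3]
    apply htop
    have hcK' := Cfsg.Agent.H394.SqPsl2.card_psl (F := K')
    rcases he with ⟨⟨e⟩⟩ | ⟨⟨e⟩⟩
    · rw [Nat.card_congr e.toEquiv]
      rw [hcc, ← hcardP] at hcK'
      exact (Nat.eq_of_mul_eq_mul_left (Nat.gcd_pos_of_pos_left _ (by norm_num)) hcK').symm.le
    · rw [Nat.card_congr e.toEquiv, Cfsg.Agent.H394.SqPsl2.card_pgl, hcc, ← hcardP]
      exact Nat.le_mul_of_pos_left _ (Nat.gcd_pos_of_pos_left _ (by norm_num))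

omit [CharP K p] in
/-- primes dividing `|Aut PSL_2(q)|` -/
theorem dvd_mulAut (hK : Fintype.card K = p ^ N) (h4 : 4 ≤ p ^ N) {s : ℕ} (hs : s.Prime)
    (h : s ∣ Nat.card (MulAut (Matrix.ProjectiveSpecialLinearGroup (Fin 2) K))) :
    s ∣ N ∨ s ∣ p ∨ s ∣ p ^ (2 * N) - 1 := by
  have hN : 1 ≤ N := by
    rcases Nat.eq_zero_or_pos N with rfl | h
    · rw [pow_zero] at h4; omega
    · exact h
  rw [Cfsg.Agent.S0813.result p N hN hK 2 le_rfl (fun _ => h4), if_pos rfl, one_mul, Cfsg.Agent.H394.SqPsl2.card_pgl,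
    hK, ← pow_mul, mul_comm N 2] at h
  rcases hs.dvd_mul.1 h with h | h
  · exact Or.inl h
  · rcases hs.dvd_mul.1 h with h | h
    · exact Or.inr (Or.inl (hs.dvd_of_dvd_pow h))
    · exact Or.inr (Or.inr h)

end Cfsg.Agent.H248.Cov
end

-- part: H375/O8/TypeA
section
prune_inst 0x10000000000000
set_option linter.all false
open scoped Cfsg.Agent.FastGrp

/-!
# COV-O8+ (S2499): elements of type `A`
-/

set_option autoImplicit false

namespace Cfsg.Agent.H375.O8

open Module QuadraticMap Cfsg Cfsg.Geo Cfsg.Agent.LieClassical.OrthCore Cfsg.Agent.H955 Cfsg.Agent.H954.TSing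
open Cfsg.Agent.LieClassical.OmegaReindex Cfsg.Agent.H957 Cfsg.Agent.FooteOrth
open Cfsg.Agent.H951 (fx cm)
open Cfsg.Agent.H884.El
open Cfsg.Agent.H436 (Prim)
open scoped MatrixGroups Matrix

section Gen

variable {F : Type} [Field F]

theorem lin_glOf {ι : Type} [Fintype ι] [DecidableEq ι] (T : (ι → F) ≃ₗ[F] (ι → F)) : lin (glOf T) = (T : Module.End F (ι → F)) := by
  apply LinearMap.ext
  intro v
  change Matrix.toLin' (glOf T : Matrix ι ι F) v = T v
  rw [Matrix.toLin'_apply, glOf_mulVec]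

theorem cm_glOf {ι : Type} [Fintype ι] [DecidableEq ι] (T : (ι → F) ≃ₗ[F] (ι → F)) : cm (lin (glOf T)) = comS T := by
  rw [lin_glOf, cm_coe]

variable {V : Type} [AddCommGroup V] [Module F V] [FiniteDimensional F V] {Q : QuadraticForm F V}

theorem comS_ext1' {W : Submodule F V} (h : Nondeg (res Q W)) (T : W ≃ₗ[F] W) :
    comS (ext1 h T) = (comS T).map W.subtype := by
  ext v
  rw [mem_comS, Submodule.mem_map]
  constructor
  · rintro ⟨y, rfl⟩
    obtain ⟨a, b, rfl⟩ := exists_add_perp h y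
    refine ⟨T a - a, mem_comS.2 ⟨a, rfl⟩, ?_⟩
    rw [map_add, ext1_left, ext1_right h T b.2, add_sub_add_right_eq_sub]
    rfl
  · rintro ⟨x, hx, rfl⟩
    obtain ⟨a, rfl⟩ := mem_comS.1 hx
    exact ⟨(a : V), by rw [ext1_left]; rfl⟩

theorem finrank_comS_ext1 {W : Submodule F V} (h : Nondeg (res Q W)) (T : W ≃ₗ[F] W) :
    finrank F (comS (ext1 h T)) = finrank F (comS T) := by
  rw [comS_ext1']
  exact (Submodule.equivMapOfInjective W.subtype (Submodule.subtype_injective W) (comS T)).finrank_eq.symm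

omit [FiniteDimensional F V] in
theorem siegel_pow {e d : V} (he : Q e = 0) (hd : polar Q e d = 0) (n : ℕ) (hn : polar Q e ((n : F) • d) = 0) :
    siegel Q e d he hd ^ n = siegel Q e ((n : F) • d) he hn := by
  induction n with
  | zero =>
    apply LinearEquiv.ext
    intro v
    rw [pow_zero, siegel_apply]
    simp
  | succ n ih =>
    have hn' : polar Q e ((n : F) • d) = 0 := by rw [polar_smul_right, hd, smul_zero]
    have h : polar Q e ((n : F) • d + d) = 0 := by rw [polar_add_right, hn', hd, add_zero]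
    rw [pow_succ, ih hn', siegel_mul he hn' hd h]
    congr 1
    push_cast
    module

end Gen

variable {F : Type} [Field F] [Fintype F] {p a r : ℕ}

theorem card_ord (hF : Nat.card F = p ^ a) (hp : p.Prime) (ha : 1 ≤ a) (h : Prim p (4 * a) r) :
    orderOf (Fintype.card F : ZMod r) = 4 := by
  have hF' : Fintype.card F = p ^ a := by rw [← Nat.card_eq_fintype_card]; exact hF
  have := Fact.mk h.prime
  have key : ∀ j : ℕ, ((Fintype.card F : ℕ) : ZMod r) ^ j = 1 ↔ 4 ∣ j := by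
    intro j
    have h1 : ((Fintype.card F : ℕ) : ZMod r) ^ j = 1 ↔ r ∣ p ^ (a * j) - 1 := by
      rw [hF']
      rw [← (ZMod.natCast_eq_zero_iff _ _ : ((p ^ (a * j) - 1 : ℕ) : ZMod r) = 0 ↔ _)]
      rw [Nat.cast_sub (Nat.one_le_pow _ _ hp.pos), sub_eq_zero]
      push_cast
      rw [pow_mul]
    rw [h1, h.dvd_iff, mul_comm 4 a]
    exact Nat.mul_dvd_mul_iff_left (by omega)
  apply Nat.dvd_antisymm
  · exact orderOf_dvd_of_pow_eq_one ((key 4).2 dvd_rfl)
  · exact (key _).1 (pow_orderOf_eq_one _)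

theorem exists_typeA_aux (hF : Nat.card F = p ^ a) (hp : p.Prime) (ha : 1 ≤ a) (h : Prim p (4 * a) r) :
    ∃ (u w : GL (Fin 4 ⊕ Fin 4) F) (s : ℕ), u ∈ isometryGroup F (quadFormPlus 4 F) ∧ w ∈ isometryGroup F (quadFormPlus 4 F) ∧
      u ^ r = 1 ∧ u ≠ 1 ∧ finrank F (cm (lin u)) = 4 ∧ u * w = w * u ∧ (∀ v ∈ cm (lin u), lin w v = v) ∧ w ^ s = 1 ∧ Odd s ∧
      Nat.Coprime r s ∧ ((Nat.card F = 2 ∨ Nat.card F = 3) → s = 3 ∧ w ≠ 1) ∧
      (finrank F (LinearMap.range ((lin w - 1) ^ 2)) = 1 ∨ (PP (Nat.card F) 2 s ∧ finrank F (cm (lin w)) = 2)) := by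
  have hF' : Fintype.card F = p ^ a := by rw [← Nat.card_eq_fintype_card]; exact hF
  have hrp := Fact.mk h.prime
  have hpp := Fact.mk hp
  set Q := quadPlus 4 F with hQdef
  have hQ : Nondeg Q := nondeg_of_nondegenerate quadPlus_nondegenerate
  have hcoe : (⇑Q) = quadFormPlus 4 F := coe_quadPlus 4 F
  have h4 := card_ord hF hp ha h
  have hdim : finrank F (Fin 4 ⊕ Fin 4 → F) = 8 := by rw [Module.finrank_fintype_fun_eq_card]; rfl
  have hrF : (r : F) ≠ 0 := natCast_ne_zero_of_not_dvd (by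
    rw [hF]
    exact fun hd => h.not_dvd (h.prime.dvd_of_dvd_pow hd))
  have hr2 : 2 < r := by
    have h1 := h.prime.two_le
    have h2 : orderOf (Fintype.card F : ZMod r) ∣ r - 1 := ZMod.orderOf_dvd_card_sub_one (by
      intro h0
      rw [h0, orderOf_zero] at h4
      omega)
    rw [h4] at h2
    have := Nat.le_of_dvd (by omega) h2
    omega
  obtain ⟨T, hTO, hTr, hT1, hTd, -⟩ := exists_sharp (Q := Q) hr2 hrF (by rw [h4]; decide) hQ (A := 1) le_rfl
    (Or.inl ⟨by rw [hdim]; decide, Or.inl (by rw [h4, hdim]; norm_num)⟩)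
  rw [h4, mul_one] at hTd
  have hfd : finrank F (fixS T) = 4 := by
    have := finrank_fixS_add_comS T
    omega
  have hnc : Nondeg (res Q (comS T)) := nondeg_comS hQ hTO hrF hTr
  have hnf : Nondeg (res Q (fixS T)) := by
    rw [← perp_comS hQ hTO]
    exact nondeg_perp hQ hnc
  have hpf : perp Q (fixS T) = comS T := perp_fixS hQ hTO
  have huO : glOf T ∈ isometryGroup F (quadFormPlus 4 F) := by
    rw [← hcoe, H957.mem_isometryGroup]
    intro v
    rw [glOf_mulVec]
    exact hTO v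
  have hur : glOf T ^ r = 1 := by rw [← glOf_pow, hTr, glOf_one]
  have hu1 : glOf T ≠ 1 := by
    intro h1
    apply hT1
    rw [← eOf_glOf T, h1, eOf_one]
  have hud : finrank F (cm (lin (glOf T))) = 4 := by rw [cm_glOf]; exact hTd
  -- reduction to linear automorphisms
  suffices hmain : ∃ (S : (Fin 4 ⊕ Fin 4 → F) ≃ₗ[F] (Fin 4 ⊕ Fin 4 → F)) (s : ℕ), S ∈ O Q ∧ T * S = S * T ∧ (∀ v ∈ comS T, S v = v) ∧
      S ^ s = 1 ∧ Odd s ∧ Nat.Coprime r s ∧ S ≠ 1 ∧ ((Nat.card F = 2 ∨ Nat.card F = 3) → s = 3) ∧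
      (finrank F (LinearMap.range (((S : Module.End F (Fin 4 ⊕ Fin 4 → F)) - 1) ^ 2)) = 1 ∨
        (PP (Nat.card F) 2 s ∧ finrank F (comS S) = 2)) by
    obtain ⟨S, s, hSO, hTS, hSf, hSs, hso, hrs, hS1, hs3, hsh⟩ := hmain
    refine ⟨glOf T, glOf S, s, huO, ?_, hur, hu1, hud, ?_, ?_, ?_, hso, hrs, fun h1 => ⟨hs3 h1, ?_⟩, ?_⟩
    · rw [← hcoe, H957.mem_isometryGroup]
      intro v
      rw [glOf_mulVec]
      exact hSO v
    · rw [← glOf_mul, ← glOf_mul, hTS]
    · intro v hv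
      rw [cm_glOf] at hv
      rw [lin_glOf]
      exact hSf v hv
    · rw [← glOf_pow, hSs, glOf_one]
    · intro h1
      apply hS1
      rw [← eOf_glOf S, h1, eOf_one]
    · rw [lin_glOf, cm_coe]
      exact hsh
  by_cases h2 : (2 : F) = 0
  · -- even characteristic
    have hp2 : p = 2 := by
      have h3 : ringChar F = 2 := CharP.ringChar_of_prime_eq_zero Nat.prime_two (by exact_mod_cast h2)
      have h4 := FiniteField.even_card_iff_char_two.1 h3
      rw [hF'] at h4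
      have h5 : 2 ∣ p ^ a := Nat.dvd_of_mod_eq_zero h4
      exact ((Nat.prime_dvd_prime_iff_eq Nat.prime_two hp).1 (Nat.prime_two.dvd_of_dvd_pow h5)).symm
    subst hp2
    set l := Nat.minFac (2 ^ a + 1) with hl
    have h1a : 2 ≤ 2 ^ a := by
      calc 2 = 2 ^ 1 := rfl
        _ ≤ 2 ^ a := Nat.pow_le_pow_right (by norm_num) ha
    have hlp : l.Prime := Nat.minFac_prime (by omega)
    have hld : l ∣ 2 ^ a + 1 := Nat.minFac_dvd _
    have hl2 : l ≠ 2 := by
      intro h3
      rw [h3] at hld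
      have h5 : 2 ∣ 2 ^ a := dvd_pow_self 2 (by omega)
      have : 2 ∣ 1 := (Nat.dvd_add_right h5).1 hld
      omega
    have hlo : Odd l := hlp.odd_of_ne_two hl2
    have hfl := Fact.mk hlp
    have hq : ((Fintype.card F : ℕ) : ZMod l) = -1 := by
      rw [hF']
      have h3 : ((2 ^ a + 1 : ℕ) : ZMod l) = 0 := (ZMod.natCast_eq_zero_iff _ _).2 hld
      push_cast at h3 ⊢
      exact eq_neg_of_add_eq_zero_left h3
    have hord : orderOf ((Fintype.card F : ℕ) : ZMod l) = 2 := by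
      rw [hq]
      have h3 : (-1 : ZMod l) ≠ 1 := by
        intro h5
        have h6 : ((2 : ℕ) : ZMod l) = 0 := by
          push_cast
          linear_combination -h5
        have h7 := (ZMod.natCast_eq_zero_iff _ _).1 h6
        exact hl2 ((Nat.prime_dvd_prime_iff_eq hlp Nat.prime_two).1 h7)
      exact orderOf_eq_prime (by ring) h3
    have hlF : (l : F) ≠ 0 := natCast_ne_zero_of_not_dvd (by
      rw [hF]
      intro hd
      exact hl2 ((Nat.prime_dvd_prime_iff_eq hlp Nat.prime_two).1 (hlp.dvd_of_dvd_pow hd)))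
    obtain ⟨S, hSO, hSl, hS1, hSd, -⟩ := exists_sharp (Q := res Q (fixS T)) (r := l) (by
        have := hlp.two_le
        omega) hlF (by rw [hord]; decide) hnf (A := 1) le_rfl
      (Or.inl ⟨by rw [hfd]; decide, Or.inl (by rw [hord, hfd]; norm_num)⟩)
    rw [hord, mul_one] at hSd
    refine ⟨ext1 hnf S, l, ext1_mem_O hnf hSO, ?_, ?_, ext1_pow hnf hSl, hlo, ?_, ?_, ?_, Or.inr ⟨⟨hlp, ?_⟩, ?_⟩⟩
    · apply LinearEquiv.ext
      intro v
      obtain ⟨x, y, rfl⟩ := exists_add_perp hnf v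
      have hy : (y : Fin 4 ⊕ Fin 4 → F) ∈ comS T := by rw [← hpf]; exact y.2
      have hTy : T (y : Fin 4 ⊕ Fin 4 → F) ∈ perp Q (fixS T) := hpf.ge (map_mem_comS hy)
      have e1 : T (x : Fin 4 ⊕ Fin 4 → F) = x := mem_fixS.1 x.2
      have e2 : T (S x : Fin 4 ⊕ Fin 4 → F) = S x := mem_fixS.1 (S x).2
      rw [LinearEquiv.mul_apply, LinearEquiv.mul_apply, map_add, map_add, map_add, map_add, ext1_left, ext1_right hnf S y.2, e1, e2,
        ext1_left, ext1_right hnf S hTy]
    · intro v hv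
      rw [← hpf] at hv
      exact ext1_right hnf S hv
    · rw [Nat.coprime_primes h.prime hlp]
      intro h3
      rw [h3] at h4
      omega
    · intro h3
      apply hS1
      apply LinearEquiv.ext
      intro v
      apply Subtype.ext
      rw [← ext1_left hnf S v, h3]
      rfl
    · rintro (h3 | h3)
      · rw [hF] at h3
        have h5 : 2 ^ a + 1 = 3 := by omega
        rw [hl, h5]
        norm_num
      · rw [hF] at h3
        exfalso
        have h5 : 2 ∣ 2 ^ a := dvd_pow_self 2 (by omega)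
        omega
    · rw [Nat.card_eq_fintype_card]; exact hord
    · rw [finrank_comS_ext1, hSd]
  · -- odd characteristic
    have hp2 : p ≠ 2 := by
      intro h3
      subst h3
      apply h2
      have h5 : CharP F 2 := charP_of_card_eq_prime_pow (f := a) hF'
      exact CharP.cast_eq_zero F 2
    have hcharp : CharP F p := charP_of_card_eq_prime_pow (f := a) hF'
    obtain ⟨e0, he0, hQe⟩ := exists_singular (res Q (fixS T)) (by rw [hfd]; norm_num)
    set e : Fin 4 ⊕ Fin 4 → F := (e0 : Fin 4 ⊕ Fin 4 → F) with he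
    have hee : e ≠ 0 := fun h3 => he0 (Subtype.ext h3)
    have hQe' : Q e = 0 := hQe
    -- a nonsingular vector orthogonal to `e`
    obtain ⟨d, hdT, hed, hQd⟩ : ∃ d ∈ fixS T, polar Q e d = 0 ∧ Q d ≠ 0 := by
      by_contra hcon
      push Not at hcon
      have h3 := two_mul_finrank_le hnf (U := perp (res Q (fixS T)) (Submodule.span F {e0})) (fun u hu => by
        have h5 : polar (res Q (fixS T)) e0 u = 0 := hu e0 (Submodule.mem_span_singleton_self _)
        exact hcon u u.2 h5)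
      have h5 := finrank_add_perp hnf (Submodule.span F {e0})
      rw [finrank_span_singleton he0] at h5
      omega
    have hde : polar Q d e = 0 := by rw [polar_comm]; exact hed
    have hTe : T e = e := mem_fixS.1 e0.2
    have hTd' : T d = d := mem_fixS.1 hdT
    have hee' : polar Q e e = 0 := polar_self_of_sing hQe'
    have hdd : polar Q d d = 2 * Q d := polar_self' d
    have hform : ∀ v, siegel Q e d hQe' hed v = v + polar Q e v • d - polar Q d v • e - (Q d * polar Q e v) • e :=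
      fun v => siegel_apply hQe' hed v
    have hsq : ∀ v, ((((siegel Q e d hQe' hed : Module.End F (Fin 4 ⊕ Fin 4 → F)) - 1 : Module.End F (Fin 4 ⊕ Fin 4 → F)) ^ 2 :
        Module.End F (Fin 4 ⊕ Fin 4 → F)) : Module.End F (Fin 4 ⊕ Fin 4 → F)) v = (- (2 * Q d) * polar Q e v) • e := by
      intro v
      have h3 : ∀ v, ((siegel Q e d hQe' hed : Module.End F (Fin 4 ⊕ Fin 4 → F)) - 1 : Module.End F (Fin 4 ⊕ Fin 4 → F)) v
          = polar Q e v • d - polar Q d v • e - (Q d * polar Q e v) • e := by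
        intro v
        change siegel Q e d hQe' hed v - v = _
        rw [hform]
        abel
      rw [pow_two, Module.End.mul_apply, h3, h3]
      simp only [polar_sub_right, polar_smul_right, hed, hde, hee', hdd, smul_eq_mul, mul_zero, sub_zero, zero_smul, zero_sub]
      module
    refine ⟨siegel Q e d hQe' hed, p, siegel_mem_O hQe' hed, ?_, ?_, ?_, hp.odd_of_ne_two hp2, ?_, ?_, ?_, Or.inl ?_⟩
    · have h3 : T * siegel Q e d hQe' hed * T⁻¹ = siegel Q e d hQe' hed := by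
        rw [siegel_conj hTO hQe' hed (by rw [hTe]; exact hQe') (by rw [hTe, hTd']; exact hed)]
        congr 1
      exact mul_inv_eq_iff_eq_mul.1 h3
    · intro v hv
      have h3 : ∀ x ∈ fixS T, polar Q x v = 0 := by
        intro x hx
        have h5 : v ∈ perp Q (fixS T) := by rw [hpf]; exact hv
        exact h5 x hx
      rw [hform, h3 e e0.2, h3 d hdT]
      simp
    · have h3 : polar Q e (((p : ℕ) : F) • d) = 0 := by rw [polar_smul_right, hed, smul_zero]
      rw [siegel_pow hQe' hed p h3]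
      apply LinearEquiv.ext
      intro v
      rw [siegel_apply, CharP.cast_eq_zero]
      simp
    · rw [Nat.coprime_primes h.prime hp]
      intro h3
      exact h.not_dvd (by rw [h3])
    · intro h3
      obtain ⟨y, hy⟩ := hQ.exists_polar_eq hee 1
      have h5 := hsq y
      rw [h3, hy] at h5
      have h6 : ((((1 : (Fin 4 ⊕ Fin 4 → F) ≃ₗ[F] (Fin 4 ⊕ Fin 4 → F)) : Module.End F (Fin 4 ⊕ Fin 4 → F)) - 1 :
          Module.End F (Fin 4 ⊕ Fin 4 → F)) ^ 2 : Module.End F (Fin 4 ⊕ Fin 4 → F)) y = 0 := by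
        have h7 : (((1 : (Fin 4 ⊕ Fin 4 → F) ≃ₗ[F] (Fin 4 ⊕ Fin 4 → F)) : Module.End F (Fin 4 ⊕ Fin 4 → F)) - 1 :
            Module.End F (Fin 4 ⊕ Fin 4 → F)) = 0 := by
          apply LinearMap.ext
          intro v
          change v - v = 0
          exact sub_self v
        rw [h7]
        simp
      rw [h6] at h5
      have h8 := smul_eq_zero.1 h5.symm
      rcases h8 with h8 | h8
      · rw [mul_one, neg_eq_zero] at h8
        exact mul_ne_zero h2 hQd h8
      · exact hee h8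
    · rintro (h3 | h3)
      · rw [hF] at h3
        exfalso
        have h5 : Odd (p ^ a) := (hp.odd_of_ne_two hp2).pow
        rw [h3] at h5
        exact absurd h5 (by decide)
      · rw [hF] at h3
        have h5 : p ∣ 3 := by rw [← h3]; exact dvd_pow_self p (by omega)
        exact (Nat.prime_dvd_prime_iff_eq hp Nat.prime_three).1 h5
    · have h3 : LinearMap.range (((siegel Q e d hQe' hed : Module.End F (Fin 4 ⊕ Fin 4 → F)) - 1) ^ 2) = Submodule.span F {e} := by
        apply le_antisymm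
        · rintro _ ⟨v, rfl⟩
          rw [hsq]
          exact Submodule.smul_mem _ _ (Submodule.mem_span_singleton_self _)
        · rw [Submodule.span_singleton_le_iff_mem]
          obtain ⟨y, hy⟩ := hQ.exists_polar_eq hee ((- (2 * Q d))⁻¹)
          refine ⟨y, ?_⟩
          rw [hsq, hy, mul_inv_cancel₀ (neg_ne_zero.2 (mul_ne_zero h2 hQd)), one_smul]
      rw [h3, finrank_span_singleton hee]

end Cfsg.Agent.H375.O8
end

section
prune_inst 0xffa9f9b9b839dfff7f7e77f69dcdfc3b911fffa4dff94bbfe021df0bdf030009c5f3ad89e000fe0e96c21410a87843fbffeeffe26bd87ffffd1ff41ffbee4ff5f7b508519488340fbc4ffe83f0778e7f000000000000000000000000000000000200000000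

-- part: H975/Cov/Lin
section
prune_inst 0x54064647c22000800180006220000006c00002200404000b0800a020b0bb042a040000107200912100208802800004001100080424000000e000400000100000082400082080000220006000000000000000000000000000000000000051000000000000
set_option linter.all false
open scoped Cfsg.Agent.FastGrp

/-!
# Isometries commuting with a quadratic field (TEAM COV, helper975)
-/

set_option autoImplicit false
set_option linter.unusedSectionVars false

namespace Cfsg.Agent.H975.Cov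

open Module QuadraticMap Cfsg Cfsg.Geo Cfsg.Agent.LieClassical.OrthCore Cfsg.Agent.H955 Cfsg.Agent.H954.TSing
open Cfsg.Agent.H884.El
open Cfsg.Agent.H951 (fx cm Inv)
open scoped MatrixGroups Matrix Polynomial

universe u v

section Adj

variable {F : Type u} [Field F] {V : Type v} [AddCommGroup V] [Module F V] {Q : QuadraticForm F V}
  {x y J : Module.End F V}

theorem polar_aeval (hx : ∀ u v, polar Q (x u) v = polar Q u (y v)) (P : F[X]) :
    ∀ u v, polar Q (Polynomial.aeval x P u) v = polar Q u (Polynomial.aeval y P v) := by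
  have hpow : ∀ (n : ℕ) (u v : V), polar Q ((x ^ n) u) v = polar Q u ((y ^ n) v) := by
    intro n
    induction n with
    | zero => intro u v; rfl
    | succ n ih =>
      intro u v
      rw [pow_succ, Module.End.mul_apply, ih, hx, ← Module.End.mul_apply, ← pow_succ']
  refine Polynomial.induction_on' (motive := fun P => ∀ u v, polar Q (Polynomial.aeval x P u) v =
    polar Q u (Polynomial.aeval y P v)) P ?_ ?_
  · intro P P' h h' u v
    rw [map_add, map_add, LinearMap.add_apply, LinearMap.add_apply, polar_add_left, polar_add_right, h, h']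
  · intro n c u v
    rw [Polynomial.aeval_monomial, Polynomial.aeval_monomial, Algebra.algebraMap_eq_smul_one,
      smul_mul_assoc, smul_mul_assoc, one_mul, one_mul, LinearMap.smul_apply,
      LinearMap.smul_apply, polar_smul_left, polar_smul_right, hpow]

theorem polar_isom' (h : ∀ v, Q (x v) = Q v) (u v : V) : polar Q (x u) (x v) = polar Q u v := by
  simp only [polar, ← map_add, h]

variable [Fintype F]

theorem expand_pow (k : ℕ) (P : F[X]) : Polynomial.expand F (Nat.card F ^ k) P = P ^ (Nat.card F ^ k) := by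
  induction k with
  | zero => simp
  | succ k ih =>
    rw [pow_succ', Polynomial.expand_mul, ih, map_pow, Nat.card_eq_fintype_card, FiniteField.expand_card, ← pow_mul]

/-- the adjoint of an endomorphism commuting with an irreducible isometry `x`, `x ^ (q ^ k + 1) = 1`. -/
theorem adj_main {U : Submodule F V} (hU : _root_.Cfsg.Agent.H951.Inv x U) (hirr : ∀ W ≤ U, _root_.Cfsg.Agent.H951.Inv x W → W = ⊥ ∨ W = U) (hJU : _root_.Cfsg.Agent.H951.Inv J U)
    (hJx : ∀ v, J (x v) = x (J v)) (hiso : ∀ v, Q (x v) = Q v) {k : ℕ} (hk : x ^ (Nat.card F ^ k + 1) = 1)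
    {u v : V} (hu : u ∈ U) (hv : v ∈ U) : polar Q (J u) v = polar Q u ((J ^ (Nat.card F ^ k)) v) := by
  by_cases hu0 : u = 0
  · rw [hu0, map_zero, polar_zero_left, polar_zero_left]
  -- the cyclic subspace
  let ev : F[X] →ₗ[F] V := (LinearMap.applyₗ u).comp (Polynomial.aeval x).toLinearMap
  have hev : ∀ P : F[X], ev P = Polynomial.aeval x P u := fun P => rfl
  have hcomm : ∀ (P : F[X]) (w : V), J (Polynomial.aeval x P w) = Polynomial.aeval x P (J w) := by
    intro P w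
    have h1 : Commute J x := LinearMap.ext hJx
    have h2 : Commute J (Polynomial.aeval x P) := by
      refine Polynomial.induction_on' (motive := fun P => Commute J (Polynomial.aeval x P)) P ?_ ?_
      · intro P P' h h'
        rw [map_add]; exact h.add_right h'
      · intro n c
        rw [Polynomial.aeval_monomial]
        have h3 : Commute J (algebraMap F (Module.End F V) c) := (Algebra.commutes c J).symm
        exact h3.mul_right (h1.pow_right n)
    exact congrArg (fun f : Module.End F V => f w) h2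
  have hinvP : ∀ (P : F[X]) (w : V), w ∈ U → Polynomial.aeval x P w ∈ U := by
    intro P w hw
    refine Polynomial.induction_on' (motive := fun P => Polynomial.aeval x P w ∈ U) P ?_ ?_
    · intro P P' h h'
      rw [map_add]; exact U.add_mem h h'
    · intro n c
      rw [Polynomial.aeval_monomial, Algebra.algebraMap_eq_smul_one, smul_mul_assoc, one_mul]
      exact U.smul_mem _ (hU.pow n w hw)
  have hrange : LinearMap.range ev = U := by
    have hle : LinearMap.range ev ≤ U := by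
      rintro _ ⟨P, rfl⟩
      exact hinvP P u hu
    have hinv : _root_.Cfsg.Agent.H951.Inv x (LinearMap.range ev) := by
      rintro _ ⟨P, rfl⟩
      refine ⟨Polynomial.X * P, ?_⟩
      rw [hev, hev, map_mul, Polynomial.aeval_X, Module.End.mul_apply]
    rcases hirr (LinearMap.range ev) hle hinv with h | h
    · exfalso
      apply hu0
      have h1 : ev 1 ∈ LinearMap.range ev := ⟨1, rfl⟩
      rw [h, Submodule.mem_bot, hev, map_one] at h1
      exact h1
    · exact h
  obtain ⟨R, hR⟩ : J u ∈ LinearMap.range ev := by rw [hrange]; exact hJU u hu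
  rw [hev] at hR
  have hJR : ∀ w ∈ U, J w = Polynomial.aeval x R w := by
    intro w hw
    rw [← hrange] at hw
    obtain ⟨P, rfl⟩ := hw
    rw [hev, hcomm, ← hR, ← Module.End.mul_apply, ← Module.End.mul_apply, ← map_mul, ← map_mul, mul_comm]
  have hpow : ∀ (n : ℕ) (w : V), w ∈ U → (J ^ n) w = ((Polynomial.aeval x R) ^ n) w ∧ (J ^ n) w ∈ U := by
    intro n
    induction n with
    | zero => intro w hw; exact ⟨rfl, hw⟩
    | succ n ih =>
      intro w hw
      obtain ⟨h1, h2⟩ := ih (J w) (hJU w hw)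
      refine ⟨?_, ?_⟩
      · rw [pow_succ, Module.End.mul_apply, h1, pow_succ, Module.End.mul_apply, hJR w hw]
      · rw [pow_succ, Module.End.mul_apply]
        exact h2
  have hadj : ∀ u v, polar Q (x u) v = polar Q u ((x ^ (Nat.card F ^ k)) v) := by
    have hpowiso : ∀ (n : ℕ) (v : V), Q ((x ^ n) v) = Q v := by
      intro n
      induction n with
      | zero => intro v; rfl
      | succ n ih => intro v; rw [pow_succ, Module.End.mul_apply, ih, hiso]
    intro u v
    rw [← polar_isom' (hpowiso (Nat.card F ^ k)) (x u) v, ← Module.End.mul_apply, ← pow_succ, hk]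
    rfl
  rw [hJR u hu, polar_aeval hadj, (hpow _ v hv).1, ← Polynomial.expand_aeval, expand_pow, map_pow]

end Adj

section Field

variable {ι : Type} [Fintype ι] [DecidableEq ι] {F : Type u} [Field F] [Fintype F] {Q : QuadraticForm F (ι → F)}

/-- elements of order prime to `s` commute with a normalised field of prime degree `s`. -/
theorem comm_field' [Nonempty ι] {s : ℕ} {K : Subalgebra F (Matrix ι ι F)} (hK : IsFieldSubalgebra s K)
    {g : GL ι F} (hgK : g ∈ subalgebraNormalizer K) {r : ℕ} (hrs : Nat.Coprime r s) (hgr : g ^ r = 1) :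
    ∀ x ∈ K, (g : Matrix ι ι F) * x = x * (g : Matrix ι ι F) := by
  have hN : H912.NormAlg (subalgebraNormalizer K) K := fun _ hh a ha => (hh a).mp ha
  let _ : Field K := (H912.isField_of_fieldSub hK).toField
  have hfd : Module.Finite F K := inferInstance
  have hKfin : Finite K := Module.finite_of_finite F
  have hgal : IsGalois F K := inferInstance
  let σ : K ≃ₐ[F] K := H912.conjSub hN ⟨g, hgK⟩
  have hσk : ∀ (k : ℕ) (x : K), (((σ ^ k) x : K) : Matrix ι ι F) =
      ((g ^ k : GL ι F) : Matrix ι ι F) * x * (((g ^ k)⁻¹ : GL ι F) : Matrix ι ι F) := by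
    intro k
    induction k with
    | zero => intro x; simp
    | succ k ih =>
      intro x
      rw [pow_succ, AlgEquiv.mul_apply, ih, H912.conjSub_coe, pow_succ, _root_.mul_inv_rev, Units.val_mul,
        Units.val_mul]
      simp only [Matrix.mul_assoc]
  have hσs : σ ^ r = 1 := by
    apply AlgEquiv.ext
    intro x
    apply Subtype.ext
    rw [hσk, hgr]
    simp
  have hσ1 : σ = 1 := by
    have h1 : orderOf σ ∣ r := orderOf_dvd_of_pow_eq_one hσs
    have h2 : orderOf σ ∣ s := by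
      have h3 : Nat.card (K ≃ₐ[F] K) = s := by
        rw [IsGalois.card_aut_eq_finrank, hK.finrank_eq]
      rw [← h3]
      exact orderOf_dvd_natCard σ
    have h4 : orderOf σ ∣ 1 := by
      rw [← Nat.Coprime.gcd_eq_one hrs]
      exact Nat.dvd_gcd h1 h2
    exact orderOf_eq_one_iff.1 (Nat.dvd_one.1 h4)
  intro x hx
  have h1 := H912.conjSub_coe hN ⟨g, hgK⟩ ⟨x, hx⟩
  have h2 : (H912.conjSub hN ⟨g, hgK⟩ ⟨x, hx⟩ : K) = ⟨x, hx⟩ := by
    change σ ⟨x, hx⟩ = ⟨x, hx⟩
    rw [hσ1]; rfl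
  rw [h2] at h1
  have h3 : x = (g : Matrix ι ι F) * x * ((g⁻¹ : GL ι F) : Matrix ι ι F) := h1
  conv_rhs => rw [h3]
  rw [Matrix.mul_assoc, ← Units.val_mul, inv_mul_cancel, Units.val_one, Matrix.mul_one]

theorem comm_lin {K : Subalgebra F (Matrix ι ι F)} {g : GL ι F} (h : ∀ x ∈ K, (g : Matrix ι ι F) * x = x * (g : Matrix ι ι F))
    {J : Matrix ι ι F} (hJ : J ∈ K) (v : ι → F) : Matrix.toLin' J (lin g v) = lin g (Matrix.toLin' J v) := by
  rw [lin, Matrix.toLin'_apply, Matrix.toLin'_apply, Matrix.toLin'_apply, Matrix.toLin'_apply,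
    Matrix.mulVec_mulVec, Matrix.mulVec_mulVec, h J hJ]

/-- a quadratic field commutes with `g` and `g` has a canonical subspace of odd dimension: impossible. -/
theorem no_field_of_odd [Nonempty ι] {K : Subalgebra F (Matrix ι ι F)} (hK : IsFieldSubalgebra 2 K)
    {g : GL ι F} (hgK : g ∈ subalgebraNormalizer K) {r : ℕ} (hr : Odd r) (hgr : g ^ r = 1) (k : ℕ)
    (hd : Odd (finrank F (LinearMap.range ((lin g - 1) ^ k)))) : False := by
  have hc := comm_field' hK hgK (Nat.coprime_two_right.2 hr) hgr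
  refine (Nat.not_even_iff_odd.2 hd) (even_of_field hK fun J hJ w hw => ?_)
  obtain ⟨v, rfl⟩ := hw
  refine ⟨Matrix.toLin' J v, ?_⟩
  have h1 : Commute (Matrix.toLin' J) (lin g - 1) := by
    apply Commute.sub_right
    · exact LinearMap.ext fun v => comm_lin hc hJ v
    · exact Commute.one_right _
  have h2 := congrArg (fun f : Module.End F (ι → F) => f v) (h1.pow_right k).eq
  change Matrix.toLin' J (((lin g - 1) ^ k) v) = ((lin g - 1) ^ k) (Matrix.toLin' J v) at h2
  rw [← h2, Matrix.toLin'_apply]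

/-- **the field case**: no quadratic field is normalised by both `a` (irreducible, `a ^ (q⁴ + 1) = 1`) and `b`
(irreducible on `U`, `b ^ (q³ + 1) = 1`). -/
theorem field_false [Nonempty ι] {K : Subalgebra F (Matrix ι ι F)} (hK : IsFieldSubalgebra 2 K)
    {a b : GL ι F} (haK : a ∈ subalgebraNormalizer K) (hbK : b ∈ subalgebraNormalizer K)
    (ha : ∀ v, Q (lin a v) = Q v) (hb : ∀ v, Q (lin b v) = Q v) {k l : ℕ} (hk : Even k) (hl : Odd l)
    (hak : a ^ (Nat.card F ^ k + 1) = 1) (hbl : b ^ (Nat.card F ^ l + 1) = 1)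
    {m n : ℕ} (hm : Odd m) (hn : Odd n) (ham : a ^ m = 1) (hbn : b ^ n = 1)
    (hairr : ∀ W : Submodule F (ι → F), _root_.Cfsg.Agent.H951.Inv (lin a) W → W = ⊥ ∨ W = ⊤)
    {U : Submodule F (ι → F)} (hU : Nondeg (res Q U)) (hU0 : U ≠ ⊥) (hbU : _root_.Cfsg.Agent.H951.Inv (lin b) U)
    (hbirr : ∀ W ≤ U, _root_.Cfsg.Agent.H951.Inv (lin b) W → W = ⊥ ∨ W = U)
    (hJU : ∀ J : Module.End F (ι → F), (∀ v, J (lin b v) = lin b (J v)) → _root_.Cfsg.Agent.H951.Inv J U) : False := by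
  have hca := comm_field' hK haK (Nat.coprime_two_right.2 hm) ham
  have hcb := comm_field' hK hbK (Nat.coprime_two_right.2 hn) hbn
  let _ : Field K := (H912.isField_of_fieldSub hK).toField
  have hfd : Module.Finite F K := inferInstance
  have hKfin : Finite K := Module.finite_of_finite F
  let _ : Fintype K := Fintype.ofFinite K
  have hcard : Fintype.card K = Nat.card F ^ 2 := by
    rw [Module.card_eq_pow_finrank (K := F) (V := K), hK.finrank_eq, Nat.card_eq_fintype_card]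
  have hq := one_lt_q F
  have hlin : ∀ (J : Matrix ι ι F) (n : ℕ), Matrix.toLin' (J ^ n) = (Matrix.toLin' J) ^ n := by
    intro J n
    exact map_pow (Matrix.toLinAlgEquiv' : Matrix ι ι F ≃ₐ[F] _) J n
  have hpow : ∀ J ∈ K, J ^ (Nat.card F ^ 2) = J := by
    intro J hJ
    have h1 := FiniteField.pow_card (⟨J, hJ⟩ : K)
    rw [hcard] at h1
    exact congrArg Subtype.val h1
  have hpow2 : ∀ J ∈ K, ∀ j : ℕ, J ^ (Nat.card F ^ (2 * j)) = J := by
    intro J hJ j
    induction j with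
    | zero => simp
    | succ j ih => rw [show 2 * (j + 1) = 2 * j + 2 by ring, pow_add, pow_mul, ih, hpow J hJ]
  have hmain : ∀ J ∈ K, J ^ (Nat.card F) = J := by
    intro J hJ
    set T : Module.End F (ι → F) := Matrix.toLin' J with hT
    have hTa : ∀ v, T (lin a v) = lin a (T v) := fun v => comm_lin hca hJ v
    have hTb : ∀ v, T (lin b v) = lin b (T v) := fun v => comm_lin hcb hJ v
    have hTU := hJU T hTb
    have hlinpow : ∀ (g : GL ι F) (n : ℕ), g ^ n = 1 → (lin g) ^ n = 1 := by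
      intro g n h
      rw [← H251.GeoCard.toLin_pow, h]; exact lin_one
    obtain ⟨k', rfl⟩ := hk
    obtain ⟨l', rfl⟩ := hl
    have h1 : ∀ u v, polar Q (T u) v = polar Q u (T v) := by
      intro u v
      have h := adj_main (Q := Q) (x := lin a) (J := T) (U := ⊤) H951.inv_top (fun W _ hW => hairr W hW)
        H951.inv_top hTa ha (hlinpow a _ hak) (u := u) (v := v) Submodule.mem_top Submodule.mem_top
      rw [h, hT, ← hlin, show k' + k' = 2 * k' by ring, hpow2 J hJ]
    have h2 : ∀ u ∈ U, ∀ v ∈ U, polar Q (T u) v = polar Q u (Matrix.toLin' (J ^ (Nat.card F)) v) := by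
      intro u hu v hv
      have h := adj_main (Q := Q) (x := lin b) (J := T) (U := U) hbU hbirr
        hTU hTb hb (hlinpow b _ hbl) (u := u) (v := v) hu hv
      rw [h, hT, ← hlin, pow_add, pow_mul, hpow2 J hJ, pow_one]
    have hJqU : ∀ v ∈ U, Matrix.toLin' (J ^ (Nat.card F)) v ∈ U := by
      intro v hv
      rw [hlin]
      exact hTU.pow _ v hv
    have h3 : ∀ v ∈ U, Matrix.toLin' (J ^ (Nat.card F) - J) v = 0 := by
      intro v hv
      have h4 : Matrix.toLin' (J ^ (Nat.card F) - J) v = Matrix.toLin' (J ^ (Nat.card F)) v - T v := by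
        rw [map_sub, LinearMap.sub_apply]
      have h5 : Matrix.toLin' (J ^ (Nat.card F) - J) v ∈ U := by
        rw [h4]; exact U.sub_mem (hJqU v hv) (hTU v hv)
      have h6 := hU ⟨_, h5⟩ fun w => by
        rw [polar_res]
        change polar Q (Matrix.toLin' (J ^ (Nat.card F) - J) v) w = 0
        rw [polar_comm, h4, polar_sub_right, ← h2 w w.2 v hv, h1, sub_self]
      exact congrArg Subtype.val h6
    obtain ⟨v, hv, hv0⟩ := (Submodule.ne_bot_iff U).1 hU0
    by_contra hne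
    have hJ2 : J ^ (Nat.card F) - J ∈ K := K.sub_mem (K.pow_mem hJ _) hJ
    have hne2 : (⟨_, hJ2⟩ : K) ≠ 0 := fun h => hne (sub_eq_zero.1 (congrArg Subtype.val h))
    have h7 : (⟨_, hJ2⟩ : K)⁻¹ * ⟨_, hJ2⟩ = 1 := inv_mul_cancel₀ hne2
    have h8 : (((⟨_, hJ2⟩ : K)⁻¹ : K) : Matrix ι ι F) * (J ^ (Nat.card F) - J) = 1 := congrArg Subtype.val h7
    apply hv0
    have h9 : Matrix.toLin' (1 : Matrix ι ι F) v = v := by simp
    rw [← h9, ← h8, Matrix.toLin'_mul, LinearMap.comp_apply, h3 v hv, map_zero]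
  -- all elements of `K` are roots of `X ^ q - X`
  have hroots : ∀ z : K, z ∈ ((Polynomial.X ^ (Nat.card F) - Polynomial.X : K[X]).roots :) := by
    intro z
    rw [Polynomial.mem_roots (FiniteField.X_pow_card_sub_X_ne_zero K hq)]
    rw [Polynomial.IsRoot.def, Polynomial.eval_sub, Polynomial.eval_pow, Polynomial.eval_X, sub_eq_zero]
    exact Subtype.ext (hmain z z.2)
  have h1 : Fintype.card K ≤ Nat.card F := by
    classical
    have h2 : (Finset.univ : Finset K) ⊆ ((Polynomial.X ^ (Nat.card F) - Polynomial.X : K[X]).roots.toFinset :) := by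
      intro z _
      exact Multiset.mem_toFinset.2 (hroots z)
    calc Fintype.card K = (Finset.univ : Finset K).card := rfl
      _ ≤ _ := Finset.card_le_card h2
      _ ≤ Multiset.card (Polynomial.X ^ (Nat.card F) - Polynomial.X : K[X]).roots := Multiset.toFinset_card_le _
      _ ≤ (Polynomial.X ^ (Nat.card F) - Polynomial.X : K[X]).natDegree := Polynomial.card_roots' _
      _ = Nat.card F := FiniteField.X_pow_card_sub_X_natDegree_eq K hq
  rw [hcard, pow_two] at h1
  nlinarith only [hq, h1]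

end Field

end Cfsg.Agent.H975.Cov
end

-- part: H118/BS/Quad
section
prune_inst 0x10000000000000
set_option linter.all false
open scoped Cfsg.Agent.FastGrp

/-!
# S5733, BS-R3: quadratic extension fields and even exponents

`x` of prime order `r`, `|F|^j = -1` modulo `r`; `W = [V, x]` irreducible.  Every `T` commuting with `x` satisfies
`f (T u) v = f u (T ^ (|F|^j) v)` on `W`, for every `x`-invariant form `f`.
-/

set_option autoImplicit false

namespace Cfsg.Agent.H118.BS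

open Cfsg Cfsg.Geo Module Polynomial
open Cfsg.Agent.H951 (fx cm Inv Irr mem_cm)
open scoped Matrix MatrixGroups

universe u v

section frob

variable {F : Type u} [Field F] [Fintype F]

theorem aeval_pow_card {A : Type v} [Ring A] [Algebra F A] (x : A) (P : F[X]) (j : ℕ) :
    aeval (x ^ (Fintype.card F ^ j)) P = (aeval x P) ^ (Fintype.card F ^ j) := by
  induction j with
  | zero => simp
  | succ j ih =>
    have h1 : ∀ y : A, aeval (y ^ Fintype.card F) P = (aeval y P) ^ Fintype.card F := by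
      intro y
      rw [← map_pow, ← FiniteField.expand_card, Polynomial.expand_aeval]
    rw [pow_succ, pow_mul, h1, ih, ← pow_mul]

variable {V : Type v} [AddCommGroup V] [Module F V] {x T : Module.End F V} {W : Submodule F V}

omit [Fintype F] in
/-- an operator which commutes with `x` is a polynomial in `x` on an irreducible subspace which it preserves -/
theorem exists_poly (hW : Irr x W) (hT : T * x = x * T) (hTW : ∀ w ∈ W, T w ∈ W) :
    ∃ P : F[X], ∀ w ∈ W, T w = aeval x P w := by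
  obtain ⟨hW0, hWi, hWm⟩ := hW
  obtain ⟨u, huW, hu0⟩ := (Submodule.ne_bot_iff _).1 hW0
  let L : F[X] →ₗ[F] V :=
    { toFun := fun P => aeval x P u
      map_add' := fun P Q => by rw [map_add, LinearMap.add_apply]
      map_smul' := fun c P => by rw [map_smul, LinearMap.smul_apply]; rfl }
  have hL : ∀ P, L P = aeval x P u := fun _ => rfl
  have hS : LinearMap.range L = W := by
    refine (hWm _ ?_ ?_).resolve_left ?_
    · rintro _ ⟨P, rfl⟩
      exact hWi.aeval P u huW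
    · rintro _ ⟨P, rfl⟩
      refine ⟨X * P, ?_⟩
      rw [hL, hL, map_mul, aeval_X, Module.End.mul_apply]
    · intro h
      apply hu0
      rw [← Submodule.mem_bot F, ← h]
      exact ⟨1, by rw [hL, map_one, Module.End.one_apply]⟩
  have hcm : ∀ R : F[X], T * aeval x R = aeval x R * T := by
    intro R
    induction R using Polynomial.induction_on' with
    | add p q hp hq => rw [map_add, mul_add, add_mul, hp, hq]
    | monomial n a =>
      rw [aeval_monomial, ← mul_assoc, ← Algebra.commutes, mul_assoc, mul_assoc,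
        ((show Commute T x from hT).pow_right n).eq]
  obtain ⟨P, hP⟩ : T u ∈ LinearMap.range L := by
    rw [hS]
    exact hTW u huW
  refine ⟨P, fun w hw => ?_⟩
  rw [← hS] at hw
  obtain ⟨R, rfl⟩ := hw
  rw [hL, ← Module.End.mul_apply, hcm, Module.End.mul_apply, ← hP, hL, ← Module.End.mul_apply,
    ← Module.End.mul_apply, ← map_mul, ← map_mul, mul_comm]

/-- the adjoint of `T` -/
theorem adj (hW : Irr x W) (hT : T * x = x * T) (hTW : ∀ w ∈ W, T w ∈ W) {j : ℕ}
    (hj : x ^ (Fintype.card F ^ j) * x = 1) (c : LinearMap.BilinForm F V) (hc : ∀ u v, c (x u) (x v) = c u v) :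
    ∀ u ∈ W, ∀ v ∈ W, c (T u) v = c u ((T ^ (Fintype.card F ^ j)) v) := by
  obtain ⟨P, hP⟩ := exists_poly hW hT hTW
  set y : Module.End F V := x ^ (Fintype.card F ^ j) with hy
  have hxy : x * y = 1 := by
    rw [← hj, hy, ← pow_succ, ← pow_succ']
  have h1 : ∀ n : ℕ, ∀ u v, c ((x ^ n) u) v = c u ((y ^ n) v) := by
    intro n
    induction n with
    | zero => intro u v; simp
    | succ n ih =>
      intro u v
      rw [pow_succ', Module.End.mul_apply, pow_succ, Module.End.mul_apply, ← ih]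
      have h2 : v = x (y v) := by
        rw [← Module.End.mul_apply, hxy, Module.End.one_apply]
      conv_lhs => rw [h2]
      rw [hc]
  have h2 : ∀ (R : F[X]) (u v : V), c (aeval x R u) v = c u (aeval y R v) := by
    intro R u v
    induction R using Polynomial.induction_on' with
    | add p q hp hq => rw [map_add, map_add, LinearMap.add_apply, LinearMap.add_apply, map_add, LinearMap.add_apply,
        map_add, hp, hq]
    | monomial n a =>
      rw [aeval_monomial, aeval_monomial, Module.End.mul_apply, Module.End.mul_apply, Module.algebraMap_end_apply,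
        Module.algebraMap_end_apply, map_smul, LinearMap.smul_apply, map_smul, h1]
  have h3 : ∀ n : ℕ, ∀ v ∈ W, (T ^ n) v = ((aeval x P) ^ n) v ∧ (T ^ n) v ∈ W := by
    intro n
    induction n with
    | zero => intro v hv; exact ⟨rfl, by simpa using hv⟩
    | succ n ih =>
      intro v hv
      obtain ⟨h4, h5⟩ := ih v hv
      rw [pow_succ', Module.End.mul_apply, pow_succ', Module.End.mul_apply, ← h4]
      exact ⟨hP _ h5, hTW _ h5⟩
  intro u hu v hv
  rw [hP u hu, h2, hy, aeval_pow_card, (h3 _ v hv).1]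

end frob

section field

open Cfsg.Agent

variable {ι : Type} [Fintype ι] [DecidableEq ι] {F : Type u} [Field F] [Fintype F]

theorem pow_card_sq [Nonempty ι] {K : Subalgebra F (Matrix ι ι F)} (hK : IsFieldSubalgebra 2 K) {k : Matrix ι ι F}
    (hk : k ∈ K) : k ^ (Fintype.card F ^ 2) = k := by
  let _ : Field K := (H912.isField_of_fieldSub hK).toField
  have hfin : Finite K := Module.finite_of_finite F
  have : Fintype K := Fintype.ofFinite K
  have h1 : Fintype.card K = Fintype.card F ^ 2 := by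
    rw [Module.card_eq_pow_finrank (K := F) (V := K), hK.finrank_eq]
  have h2 := FiniteField.pow_card (⟨k, hk⟩ : K)
  rw [h1] at h2
  exact congrArg Subtype.val h2

theorem exists_pow_ne [Nonempty ι] {K : Subalgebra F (Matrix ι ι F)} (hK : IsFieldSubalgebra 2 K) :
    ∃ k ∈ K, k ^ Fintype.card F ≠ k := by
  by_contra hcon
  push Not at hcon
  let _ : Field K := (H912.isField_of_fieldSub hK).toField
  have hfin : Finite K := Module.finite_of_finite F
  have : Fintype K := Fintype.ofFinite K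
  have h1 : Fintype.card K = Fintype.card F ^ 2 := by
    rw [Module.card_eq_pow_finrank (K := F) (V := K), hK.finrank_eq]
  obtain ⟨g, hg⟩ := IsCyclic.exists_ofOrder_eq_natCard (α := Kˣ)
  have h2 : Nat.card Kˣ = Fintype.card F ^ 2 - 1 := by
    rw [Nat.card_units, Nat.card_eq_fintype_card, h1]
  have h3 : (g : K) ^ Fintype.card F = g := by
    apply Subtype.ext
    exact hcon _ (g : K).2
  have h4 : g ^ (Fintype.card F - 1) = 1 := by
    have h5 : g ^ Fintype.card F = g := Units.ext (by rw [Units.val_pow_eq_pow_val, h3])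
    have h6 : 1 ≤ Fintype.card F := Fintype.card_pos
    rw [← Nat.sub_add_cancel h6, pow_succ] at h5
    exact mul_eq_right.1 h5
  have h5 := orderOf_dvd_of_pow_eq_one h4
  rw [hg, h2] at h5
  have h6 : 1 < Fintype.card F := Fintype.one_lt_card
  have h7 := Nat.le_of_dvd (by omega) h5
  have h8 : Fintype.card F * 2 ≤ Fintype.card F ^ 2 := by
    rw [sq]
    exact Nat.mul_le_mul_left _ h6
  omega

theorem pow_even [Nonempty ι] {K : Subalgebra F (Matrix ι ι F)} (hK : IsFieldSubalgebra 2 K) {k : Matrix ι ι F}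
    (hk : k ∈ K) (i : ℕ) : k ^ (Fintype.card F ^ (2 * i)) = k := by
  induction i with
  | zero => simp
  | succ i ih => rw [mul_add, mul_one, pow_add, pow_mul, ih, pow_card_sq hK hk]

end field

section main

open Cfsg.Agent Cfsg.Agent.H884.El Cfsg.Agent.H262.El
open Cfsg.Agent.ClassicalGeometry.SympBasic Cfsg.Agent.H876 Cfsg.Agent.H931

variable {F : Type u} [Field F] [Fintype F] {m : ℕ}

theorem quad_core {g : GL (Fin m ⊕ Fin m) F} (hg : g ∈ spGL m F) {r j : ℕ}
    (hr : PP (Nat.card F) (2 * j) r) (hj : 1 ≤ j) (hm : m < 2 * j) (hgr : g ^ r = 1) (hg1 : g ≠ 1)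
    {K : Subalgebra F (Matrix (Fin m ⊕ Fin m) (Fin m ⊕ Fin m) F)} (hK : IsFieldSubalgebra 2 K)
    (hgK : g ∈ subalgebraNormalizer K) :
    ∃ W : Submodule F (Fin m ⊕ Fin m → F), W ≠ ⊥ ∧ (∀ v ∈ W, (∀ u ∈ W, sympForm m F u v = 0) → v = 0) ∧
      (∀ k ∈ K, ∀ w ∈ W, k *ᵥ w ∈ W) ∧
      ∀ k ∈ K, ∀ u ∈ W, ∀ v ∈ W, sympForm m F (k *ᵥ u) v = sympForm m F u ((k ^ (Fintype.card F ^ j)) *ᵥ v) := by
  have hne : Nonempty (Fin m ⊕ Fin m) := by
    by_contra h
    rw [not_nonempty_iff] at h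
    exact hg1 (Subsingleton.elim _ _)
  have hr2 : r ≠ 2 := by have := hr.lt (by omega); omega
  have hrF : (r : F) ≠ 0 := hr.ne0 (by omega)
  have hprime := Fact.mk hr.prime
  have hcomm := comm_field Nat.prime_two hK hgK hr.prime hr2 hgr
  set x : Module.End F (Fin m ⊕ Fin m → F) := lin g with hxdef
  have hx : x ^ r = 1 := by rw [hxdef, ← H251.GeoCard.toLin_pow, hgr]; exact lin_one
  have hfx : ∀ u v, sympForm m F (x u) (x v) = sympForm m F u v := by
    intro u v
    rw [hxdef, lin, Matrix.toLin'_apply, Matrix.toLin'_apply]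
    exact mem_spGL_iff.1 hg u v
  obtain ⟨W, hWcm, hirr⟩ := H951.exists_irr (x := x) H951.inv_cm (cm_ne_bot (lin_ne_one hg1))
  have hWd : finrank F W = 2 * j := by rw [hirr.finrank_eq hrF hx hWcm, ord_eq hr]
  have hV : finrank F (Fin m ⊕ Fin m → F) = 2 * m := by
    rw [Module.finrank_fintype_fun_eq_card, card_sum_fin]
  have hcmd : finrank F (cm x) = 2 * j := by
    have h1 := H951.ord_dvd_finrank hx H951.inv_cm (H951.inf_fx_of_le_cm hrF hx le_rfl)
    rw [ord_eq hr] at h1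
    obtain ⟨c, hc⟩ := h1
    have h2 : finrank F (cm x) ≤ 2 * m := hV ▸ Submodule.finrank_le _
    have h3 := Submodule.finrank_mono hWcm
    rw [hWd] at h3
    have h4 : c = 1 := by
      have h5 : c < 2 := by
        by_contra hcon
        have := Nat.mul_le_mul_left (2 * j) (not_lt.1 hcon)
        omega
      have h6 : c ≠ 0 := by
        rintro rfl
        omega
      omega
    rw [hc, h4, mul_one]
  have hWeq : W = cm x := Submodule.eq_of_le_of_finrank_eq hWcm (by rw [hWd, hcmd])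
  -- `x ^ (q ^ j) = x⁻¹`
  have hxj : x ^ (Fintype.card F ^ j) * x = 1 := by
    have h1 : r ∣ Fintype.card F ^ j + 1 := by
      rw [← ZMod.natCast_eq_zero_iff]
      have h2 := hr.ord
      rw [Nat.card_eq_fintype_card] at h2
      have h3 : ((Fintype.card F : ZMod r) ^ j) ^ 2 = 1 := by
        rw [← pow_mul, mul_comm, ← h2, pow_orderOf_eq_one]
      have h3' : (((Fintype.card F : ZMod r) ^ j) - 1) * (((Fintype.card F : ZMod r) ^ j) + 1) = 0 := by
        linear_combination h3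
      rcases mul_eq_zero.1 h3' with h4 | h4
      · exfalso
        have h5 := orderOf_dvd_of_pow_eq_one (sub_eq_zero.1 h4)
        rw [h2] at h5
        have := Nat.le_of_dvd (by omega) h5
        omega
      · push_cast
        exact h4
    obtain ⟨c, hc⟩ := h1
    rw [← pow_succ, hc, pow_mul, hx, one_pow]
  have hTx : ∀ k ∈ K, Matrix.toLin' k * x = x * Matrix.toLin' k := by
    intro k hk
    apply LinearMap.ext
    intro v
    rw [Module.End.mul_apply, Module.End.mul_apply, hxdef, lin, Matrix.toLin'_apply, Matrix.toLin'_apply,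
      Matrix.toLin'_apply, Matrix.toLin'_apply, Matrix.mulVec_mulVec, Matrix.mulVec_mulVec, hcomm k hk]
  have hTW : ∀ k ∈ K, ∀ w ∈ W, Matrix.toLin' k w ∈ W := by
    intro k hk w hw
    rw [hWeq] at hw ⊢
    obtain ⟨u, rfl⟩ := mem_cm.1 hw
    refine mem_cm.2 ⟨Matrix.toLin' k u, ?_⟩
    have h1 := LinearMap.congr_fun (hTx k hk) u
    rw [Module.End.mul_apply, Module.End.mul_apply] at h1
    rw [← h1, map_sub]
  refine ⟨W, hirr.1, ?_, fun k hk w hw => by
    have := hTW k hk w hw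
    rwa [Matrix.toLin'_apply] at this, ?_⟩
  · -- nondegenerate
    let N : Submodule F (Fin m ⊕ Fin m → F) :=
      { carrier := {v | v ∈ W ∧ ∀ u ∈ W, sympForm m F u v = 0}
        add_mem' := fun {a b} ha hb => ⟨W.add_mem ha.1 hb.1, fun u hu => by
          rw [sympForm_add_right, ha.2 u hu, hb.2 u hu, add_zero]⟩
        zero_mem' := ⟨W.zero_mem, fun u _ => by
          have := sympForm_smul_right (F := F) (m := m) (0 : F) u 0
          rwa [zero_smul, zero_mul] at this⟩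
        smul_mem' := fun a v hv => ⟨W.smul_mem a hv.1, fun u hu => by
          rw [sympForm_smul_right, hv.2 u hu, mul_zero]⟩ }
    have hNW : N ≤ W := fun v hv => hv.1
    have hNi : Inv x N := by
      rintro v ⟨hv, hv2⟩
      refine ⟨hirr.2.1 v hv, fun u hu => ?_⟩
      obtain ⟨u', hu', rfl⟩ : ∃ u' ∈ W, x u' = u := by
        refine ⟨(x ^ (r - 1)) u, hirr.2.1.pow _ u hu, ?_⟩
        rw [← Module.End.mul_apply, ← pow_succ', Nat.sub_add_cancel hr.prime.one_le, hx]
        rfl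
      rw [hfx]
      exact hv2 u' hu'
    rcases hirr.2.2 N hNW hNi with hN | hN
    · intro v hv hv2
      have : v ∈ N := ⟨hv, hv2⟩
      rw [hN] at this
      exact (Submodule.mem_bot F).1 this
    · exfalso
      have h1 := two_mul_finrank_le (m := m) (U := W) (fun u hu v hv => by
        rw [← hN] at hv
        exact hv.2 u hu)
      omega
  · intro k hk u hu v hv
    have h1 := adj hirr (hTx k hk) (hTW k hk) hxj (bf m F) (fun u v => hfx u v) u hu v hv
    rw [bf_apply, bf_apply, Matrix.toLin'_apply] at h1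
    rw [h1]
    congr 1
    rw [← Matrix.toLin'_apply, ← Matrix.toLin'_pow]

/-- a self-adjoint quadratic field excludes `e = 2 j`, `j` odd -/
theorem no_quad_odd {g : GL (Fin m ⊕ Fin m) F} (hg : g ∈ spGL m F) {r j : ℕ}
    (hr : PP (Nat.card F) (2 * j) r) (hj : Odd j) (hm : m < 2 * j) (hgr : g ^ r = 1) (hg1 : g ≠ 1)
    {K : Subalgebra F (Matrix (Fin m ⊕ Fin m) (Fin m ⊕ Fin m) F)} (hK : IsFieldSubalgebra 2 K)
    (hsa : IsSelfAdjointFor (sympForm m F) K)
    (hgK : g ∈ subalgebraNormalizer K) : False := by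
  have hne : Nonempty (Fin m ⊕ Fin m) := by
    by_contra h
    rw [not_nonempty_iff] at h
    exact hg1 (Subsingleton.elim _ _)
  obtain ⟨W, hW0, hnd, hKW, hadj⟩ := quad_core hg hr hj.pos hm hgr hg1 hK hgK
  obtain ⟨w, hw, hw0⟩ := (Submodule.ne_bot_iff _).1 hW0
  obtain ⟨k, hk, hne'⟩ := exists_pow_ne hK
  apply hne'
  obtain ⟨i, rfl⟩ := hj
  have h1 : k ^ (Fintype.card F ^ (2 * i + 1)) = k := by
    by_contra hcon
    have h2 : k ^ (Fintype.card F ^ (2 * i + 1)) - k ∈ K := K.sub_mem (K.pow_mem hk _) hk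
    obtain ⟨y, hy, hy1⟩ := hK.inv _ h2 (sub_ne_zero.2 hcon)
    have h3 : (k ^ (Fintype.card F ^ (2 * i + 1)) - k) *ᵥ w = 0 := by
      apply hnd _ (hKW _ h2 w hw)
      intro u hu
      rw [Matrix.sub_mulVec, sub_eq_add_neg, sympForm_add_right, ← hadj k hk u hu w hw, hsa k hk u w,
        ← neg_one_smul F, sympForm_smul_right]
      ring
    apply hw0
    rw [← Matrix.one_mulVec w, ← hy1, hK.comm _ h2 y hy, ← Matrix.mulVec_mulVec, h3, Matrix.mulVec_zero]
  rwa [pow_succ, pow_mul, pow_even hK hk] at h1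

/-- a quadratic field closed under adjoints but not self-adjoint excludes `e = 2 j`, `j` even -/
theorem no_quad_even {g : GL (Fin m ⊕ Fin m) F} (hg : g ∈ spGL m F) {r j : ℕ}
    (hr : PP (Nat.card F) (2 * j) r) (hj : Even j) (hm : m < 2 * j) (hgr : g ^ r = 1) (hg1 : g ≠ 1)
    {K : Subalgebra F (Matrix (Fin m ⊕ Fin m) (Fin m ⊕ Fin m) F)} (hK : IsFieldSubalgebra 2 K)
    (hac : IsAdjointClosedFor (sympForm m F) K) (hsa : ¬ IsSelfAdjointFor (sympForm m F) K)
    (hgK : g ∈ subalgebraNormalizer K) : False := by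
  have hne : Nonempty (Fin m ⊕ Fin m) := by
    by_contra h
    rw [not_nonempty_iff] at h
    exact hg1 (Subsingleton.elim _ _)
  obtain ⟨W, hW0, hnd, hKW, hadj⟩ := quad_core hg hr (by omega) hm hgr hg1 hK hgK
  obtain ⟨w, hw, hw0⟩ := (Submodule.ne_bot_iff _).1 hW0
  apply hsa
  intro k hk u v
  obtain ⟨k', hk', h1⟩ := hac k hk
  have h2 : k' = k := by
    by_contra hcon
    have h2 : k' - k ∈ K := K.sub_mem hk' hk
    obtain ⟨y, hy, hy1⟩ := hK.inv _ h2 (sub_ne_zero.2 hcon)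
    have h3 : (k' - k) *ᵥ w = 0 := by
      apply hnd _ (hKW _ h2 w hw)
      intro u hu
      obtain ⟨i, hi⟩ := hj
      have h4 : k ^ (Fintype.card F ^ j) = k := by
        have h5 : j = 2 * i := by omega
        rw [h5]
        exact pow_even hK hk i
      have h5 := hadj k hk u hu w hw
      rw [h4, h1] at h5
      rw [Matrix.sub_mulVec, sub_eq_add_neg, sympForm_add_right, h5, ← neg_one_smul F, sympForm_smul_right]
      ring
    apply hw0
    rw [← Matrix.one_mulVec w, ← hy1, hK.comm _ h2 y hy, ← Matrix.mulVec_mulVec, h3, Matrix.mulVec_zero]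
  rw [h1, h2]

end main

end Cfsg.Agent.H118.BS
end

-- part: H781/Cov9/Main
section
prune_inst 0x50060246c4000080000008001201c02a2000420000b0400244202000f894c2080802660a33001060200808500310040000000000000000000000000011900a080000200b16c0004000011000000000000000000000000000000000000000000000000000
set_option linter.all false
open scoped Cfsg.Agent.FastGrp

-- part: H781/Cov9/Geo
section
/-!
# S2499, row `Ω_9(q)`: isometries of prime order and their invariant subspaces (helper781)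
-/

set_option autoImplicit false
set_option linter.unusedSectionVars false

namespace Cfsg.Agent.H781.Cov9

open Module QuadraticMap Cfsg Cfsg.Geo Cfsg.Agent.LieClassical.OrthCore Cfsg.Agent.H955 Cfsg.Agent.H954.TSing
open Cfsg.Agent.H884.El
open Cfsg.Agent.H951 (fx cm Inv)
open scoped MatrixGroups Matrix

universe u

variable {ι : Type} [Fintype ι] [DecidableEq ι] {F : Type u} [Field F] [Fintype F] {Q : QuadraticForm F (ι → F)}

/-- an isometry of odd prime order `r` with commutator space of dimension `d` -/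
structure Elt (Q : QuadraticForm F (ι → F)) (x : GL ι F) (r d : ℕ) : Prop where
  mem : x ∈ isometryGroup F (⇑Q)
  iso : Iso Q (lin x) r
  pow : x ^ r = 1
  ne : x ≠ 1
  dim : finrank F (cm (lin x)) = d

theorem lin_mul (x y : GL ι F) : lin (x * y) = lin x * lin y := by
  rw [lin, Units.val_mul, Matrix.toLin'_mul]; rfl

theorem lin_apply (x : GL ι F) (v : ι → F) : lin x v = (x : Matrix ι ι F) *ᵥ v := Matrix.toLin'_apply _ _

theorem lin_mul_apply (x y : GL ι F) (v : ι → F) : lin (x * y) v = lin x (lin y v) := by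
  rw [lin_mul]; rfl

theorem lin_inv_apply (x : GL ι F) (v : ι → F) : lin x⁻¹ (lin x v) = v := by
  rw [← lin_mul_apply, inv_mul_cancel, lin_one]; rfl

theorem lin_inv_apply' (x : GL ι F) (v : ι → F) : lin x (lin x⁻¹ v) = v := by
  rw [← lin_mul_apply, mul_inv_cancel, lin_one]; rfl

theorem lin_pow (x : GL ι F) (n : ℕ) : lin x ^ n = lin (x ^ n) := (H251.GeoCard.toLin_pow x n).symm

theorem Elt.of {x : GL ι F} {e r d : ℕ} (hr : PP (Nat.card F) e r) (he : 2 ≤ e) (hx : x ∈ isometryGroup F (⇑Q))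
    (hxr : x ^ r = 1) (hx1 : x ≠ 1) (hd : finrank F (cm (lin x)) = d) : Elt Q x r d := by
  refine ⟨hx, Iso.mk' hr he ?_ (lin_iso le_rfl hx), hxr, hx1, hd⟩
  rw [lin_pow, hxr, lin_one]

variable {x y u : GL ι F} {e r d p : ℕ}

theorem Elt.conj (h : Elt Q x r d) {c : GL ι F} (hc : c ∈ isometryGroup F (⇑Q)) : Elt Q (c * x * c⁻¹) r d := by
  have hm : c * x * c⁻¹ ∈ isometryGroup F (⇑Q) := Subgroup.mul_mem _ (Subgroup.mul_mem _ hc h.mem) (Subgroup.inv_mem _ hc)
  have hp : (c * x * c⁻¹) ^ r = 1 := by rw [conj_pow, h.pow, mul_one, mul_inv_cancel]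
  refine ⟨hm, ⟨h.iso.prime, h.iso.two_lt, h.iso.ne0, ?_, lin_iso le_rfl hm⟩, hp, ?_, ?_⟩
  · rw [lin_pow, hp, lin_one]
  · intro h1
    apply h.ne
    have : x = c⁻¹ * (c * x * c⁻¹) * c := by group
    rw [this, h1]
    group
  · rw [finrank_cm_conj, h.dim]

theorem Elt.dvd_card (h : Elt Q x r d) {M : Subgroup (GL ι F)} (hx : x ∈ M) : r ∣ Nat.card M := by
  have := Fact.mk h.iso.prime
  have h1 : orderOf x = r := orderOf_eq_prime h.pow h.ne
  rw [← h1, ← Subgroup.orderOf_mk x hx]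
  exact orderOf_dvd_natCard _

theorem not_scalar (hx1 : x ≠ 1) {v : ι → F} (hv : v ≠ 0) (hxv : lin x v = v) : x ∉ scalars ι F := by
  intro h
  obtain ⟨c, hc⟩ := (mem_scalars_iff x).1 h
  rw [lin_apply, hc, Matrix.smul_mulVec, Matrix.one_mulVec] at hxv
  have h1 : ((c : F) - 1) • v = 0 := by rw [sub_smul, one_smul, hxv, sub_self]
  have h2 : (c : F) = 1 := by
    rcases smul_eq_zero.1 h1 with h | h
    · exact sub_eq_zero.1 h
    · exact absurd h hv
  apply hx1
  apply Units.ext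
  rw [hc, h2, one_smul]
  rfl

theorem Elt.finrank_add (h : Elt Q x r d) : finrank F ↥(fx (lin x)) + d = Fintype.card ι := by
  have h1 := h.iso.finrank_add
  rw [h.dim, finrank_V] at h1
  exact h1

theorem exists_mem_ne {W : Submodule F (ι → F)} (h : finrank F W ≠ 0) : ∃ v ∈ W, v ≠ 0 := by
  by_contra hcon
  push Not at hcon
  apply h
  rw [Submodule.finrank_eq_zero, Submodule.eq_bot_iff]
  exact hcon

theorem Elt.not_scalar (h : Elt Q x r d) (hd : d < Fintype.card ι) : x ∉ scalars ι F := by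
  have h1 := h.finrank_add
  obtain ⟨v, hv, hv0⟩ := exists_mem_ne (W := fx (lin x)) (by omega)
  exact Cov9.not_scalar h.ne hv0 (H951.mem_fx.1 hv)

theorem nondeg_of_geo {W : Submodule F (ι → F)} (h : IsNondegenerateOn (QuadraticMap.polar (⇑Q)) W) :
    Nondeg (res Q W) := by
  rw [nondeg_res_iff]
  intro v hv hvw
  by_contra hne
  obtain ⟨-, w, hw, hw0⟩ := h v hv hne
  exact hw0 (hvw w hw)

theorem inv_perp {f : Module.End F (ι → F)} (hf : ∀ v, Q (f v) = Q v) {r : ℕ} (hr : 0 < r) (hfr : f ^ r = 1)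
    {W : Submodule F (ι → F)} (hW : _root_.Cfsg.Agent.H951.Inv f W) : _root_.Cfsg.Agent.H951.Inv f (perp Q W) := by
  intro v hv w hw
  have h1 : w = f ((f ^ (r - 1)) w) := by
    rw [← Module.End.mul_apply, ← pow_succ', Nat.sub_add_cancel hr, hfr]; rfl
  rw [h1, polar_isom hf]
  exact hv _ (hW.pow _ w hw)

/-- `3 ∣ dim fx` for an element centralising a cubic field -/
theorem Elt.three_dvd [Nonempty ι] (h : Elt Q x r d) (hr3 : r ≠ 3) {K : Subalgebra F (Matrix ι ι F)}
    (hK : IsFieldSubalgebra 3 K) (hxK : x ∈ subalgebraNormalizer K) : 3 ∣ finrank F (fx (lin x)) := by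
  have hc := comm_field Nat.prime_three hK hxK h.iso.prime hr3 h.pow
  apply H925.finrank_dvd_of_invariant hK
  intro k hk w hw
  rw [H951.mem_fx, lin_apply] at hw ⊢
  rw [Matrix.mulVec_mulVec, hc k hk, ← Matrix.mulVec_mulVec, hw]

/-- an element with a seven-dimensional fixed space does not normalise a cubic field -/
theorem no_cubic [Nonempty ι] (h9 : Fintype.card ι = 9) (hd : finrank F (fx (lin u)) = 7)
    {K : Subalgebra F (Matrix ι ι F)} (hK : IsFieldSubalgebra 3 K) (huK : u ∈ subalgebraNormalizer K) : False := by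
  by_cases hall : ∀ k ∈ K, (u : Matrix ι ι F) * k = k * (u : Matrix ι ι F)
  · have h3 : 3 ∣ finrank F (fx (lin u)) := by
      apply H925.finrank_dvd_of_invariant hK
      intro k hk w hw
      rw [H951.mem_fx, lin_apply] at hw ⊢
      rw [Matrix.mulVec_mulVec, hall k hk, ← Matrix.mulVec_mulVec, hw]
    rw [hd] at h3
    omega
  · push Not at hall
    obtain ⟨k, hk, hku⟩ := hall
    set! k' : Matrix ι ι F := (u : Matrix ι ι F) * k * ((u⁻¹ : GL ι F) : Matrix ι ι F) with hk'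
    have hk'K : k' ∈ K := (huK k).1 hk
    have huu : ((u⁻¹ : GL ι F) : Matrix ι ι F) * (u : Matrix ι ι F) = 1 := by
      rw [← Units.val_mul, inv_mul_cancel, Units.val_one]
    have hk'u : k' * (u : Matrix ι ι F) = (u : Matrix ι ι F) * k := by
      rw [hk', Matrix.mul_assoc, huu, Matrix.mul_one]
    have hne : k' - k ≠ 0 := by
      intro h
      apply hku
      rw [← hk'u, sub_eq_zero.1 h]
    have hk0 : k ≠ 0 := by
      rintro rfl
      apply hku
      rw [Matrix.mul_zero, Matrix.zero_mul]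
    have hinj : ∀ z ∈ K, z ≠ 0 → ∀ v : ι → F, z *ᵥ v = 0 → v = 0 := by
      intro z hz hz0 v hv
      obtain ⟨z', hz', hzz⟩ := hK.inv z hz hz0
      have h1 : (z' * z) *ᵥ v = v := by rw [hK.comm z' hz' z hz, hzz, Matrix.one_mulVec]
      rw [← h1, ← Matrix.mulVec_mulVec, hv, Matrix.mulVec_zero]
    have hkinj : Function.Injective (Matrix.toLin' k) := by
      rw [← LinearMap.ker_eq_bot, LinearMap.ker_eq_bot']
      intro v hv
      rw [Matrix.toLin'_apply] at hv
      exact hinj k hk hk0 v hv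
    have hdk : finrank F ((fx (lin u)).map (Matrix.toLin' k)) = 7 := by
      rw [← hd]
      exact (Submodule.equivMapOfInjective _ hkinj _).finrank_eq.symm
    have hsum := Submodule.finrank_sup_add_finrank_inf_eq (fx (lin u)) ((fx (lin u)).map (Matrix.toLin' k))
    have hle : finrank F ↥(fx (lin u) ⊔ (fx (lin u)).map (Matrix.toLin' k)) ≤ 9 := by
      rw [← h9, ← finrank_V (F := F) (ι := ι)]
      exact Submodule.finrank_le _
    obtain ⟨w, ⟨hw1, hw2⟩, hw0⟩ := exists_mem_ne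
      (W := fx (lin u) ⊓ (fx (lin u)).map (Matrix.toLin' k)) (by omega)
    obtain ⟨v, hv, rfl⟩ := hw2
    rw [SetLike.mem_coe, H951.mem_fx, lin_apply] at hv
    rw [SetLike.mem_coe, H951.mem_fx, lin_apply, Matrix.toLin'_apply, Matrix.mulVec_mulVec, ← hk'u,
      ← Matrix.mulVec_mulVec, hv] at hw1
    have h1 : (k' - k) *ᵥ v = 0 := by rw [Matrix.sub_mulVec, hw1, sub_self]
    have h2 := hinj _ (K.sub_mem hk'K hk) hne v h1
    apply hw0
    rw [h2, map_zero]

/-- the second witness: a commuting pair `y`, `u` -/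
structure BElt (Q : QuadraticForm F (ι → F)) (y u : GL ι F) (r d p : ℕ) : Prop where
  elt : Elt Q y r d
  mem : u ∈ isometryGroup F (⇑Q)
  prime : p.Prime
  charP : CharP F p
  pow : u ^ p = 1
  ne : u ≠ 1
  comm : y * u = u * y
  dim : finrank F (fx (lin u)) = 7
  sing : ∀ v, lin y v = v → lin u v = v → Q v = 0

theorem finrank_fx_conj (c g : GL ι F) : finrank F (fx (lin (c * g * c⁻¹))) = finrank F (fx (lin g)) := by
  have h1 : fx (lin (c * g * c⁻¹)) = (fx (lin g)).map (LieClassical.OrthFinite.glEquiv ι F c : (ι → F) →ₗ[F] (ι → F)) := by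
    ext v
    rw [H951.mem_fx, Submodule.mem_map]
    constructor
    · intro h
      refine ⟨lin c⁻¹ v, H951.mem_fx.2 ?_, ?_⟩
      · rw [lin_mul_apply, lin_mul_apply] at h
        have := congrArg (lin c⁻¹) h
        rwa [lin_inv_apply] at this
      · change LieClassical.OrthFinite.glEquiv ι F c _ = v
        rw [LieClassical.OrthFinite.glEquiv_apply, ← lin_apply, lin_inv_apply']
    · rintro ⟨w, hw, rfl⟩
      change lin _ (LieClassical.OrthFinite.glEquiv ι F c _) = LieClassical.OrthFinite.glEquiv ι F c _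
      rw [LieClassical.OrthFinite.glEquiv_apply, ← lin_apply, lin_mul_apply, lin_mul_apply, lin_inv_apply,
        H951.mem_fx.1 hw]
  rw [h1]
  exact LinearEquiv.finrank_map_eq _ _

theorem BElt.conj (h : BElt Q y u r d p) {c : GL ι F} (hc : c ∈ isometryGroup F (⇑Q)) :
    BElt Q (c * y * c⁻¹) (c * u * c⁻¹) r d p := by
  refine ⟨h.elt.conj hc, Subgroup.mul_mem _ (Subgroup.mul_mem _ hc h.mem) (Subgroup.inv_mem _ hc), h.prime, h.charP,
    by rw [conj_pow, h.pow, mul_one, mul_inv_cancel], ?_, ?_, by rw [finrank_fx_conj, h.dim], ?_⟩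
  · intro h1
    apply h.ne
    have : u = c⁻¹ * (c * u * c⁻¹) * c := by group
    rw [this, h1]
    group
  · have h1 : c * y * c⁻¹ * (c * u * c⁻¹) = c * (y * u) * c⁻¹ := by group
    have h2 : c * u * c⁻¹ * (c * y * c⁻¹) = c * (u * y) * c⁻¹ := by group
    rw [h1, h2, h.comm]
  · intro v hv hv2
    have key : ∀ z : GL ι F, lin (c * z * c⁻¹) v = v → lin z (lin c⁻¹ v) = lin c⁻¹ v := by
      intro z hz
      rw [lin_mul_apply, lin_mul_apply] at hz
      have := congrArg (lin c⁻¹) hz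
      rwa [lin_inv_apply] at this
    have h1 := h.sing (lin c⁻¹ v) (key y hv) (key u hv2)
    rwa [lin_iso le_rfl (Subgroup.inv_mem _ hc)] at h1

/-- `y` and `u` are powers of `y u` -/
theorem BElt.mem_of_mul (h : BElt Q y u r d p) (hrp : r ≠ p) {M : Subgroup (GL ι F)} (hM : y * u ∈ M) :
    y ∈ M ∧ u ∈ M := by
  have hc : Commute y u := h.comm
  have hcop : Nat.Coprime r p := (Nat.coprime_primes h.elt.iso.prime h.prime).2 hrp
  have h1 : y ^ p ∈ M := by
    have := M.pow_mem hM p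
    rwa [hc.mul_pow, h.pow, mul_one] at this
  have hy : y ∈ M := by
    obtain ⟨k, hk⟩ := Nat.exists_mul_mod_eq_one_of_coprime hcop.symm h.elt.iso.prime.one_lt
    have h2 : y ^ (p * k) = y := by
      rw [← Nat.mod_add_div (p * k) r, hk.2, pow_add, pow_one, pow_mul, h.elt.pow, one_pow, mul_one]
    rw [← h2, pow_mul]
    exact M.pow_mem h1 k
  refine ⟨hy, ?_⟩
  have := M.mul_mem (M.inv_mem hy) hM
  rwa [inv_mul_cancel_left] at this

/-- the pair leaves no nonsingular line invariant -/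
theorem BElt.no_line (h : BElt Q y u r d p) (hr : PP (Nat.card F) e r) (he : 2 ≤ e) {W : Submodule F (ι → F)}
    (hW1 : finrank F W = 1) (hWy : _root_.Cfsg.Agent.H951.Inv (lin y) W) (hWu : _root_.Cfsg.Agent.H951.Inv (lin u) W) : TS Q W := by
  have hle := h.elt.iso.le_fx hr hWy (by omega)
  intro v hv
  by_cases hv0 : v = 0
  · rw [hv0, QuadraticMap.map_zero]
  apply h.sing v (H951.mem_fx.1 (hle hv))
  obtain ⟨c, hc⟩ := (finrank_eq_one_iff_of_nonzero' (⟨v, hv⟩ : W) (by
        intro h; exact hv0 (congrArg Subtype.val h))).1 hW1 ⟨lin u v, hWu v hv⟩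
  have hc1 : c • v = lin u v := congrArg Subtype.val hc
  have hpow : ∀ n : ℕ, (lin u ^ n) v = c ^ n • v := by
    intro n
    induction n with
    | zero => rw [pow_zero, pow_zero, one_smul]; rfl
    | succ n ih => rw [pow_succ', Module.End.mul_apply, ih, map_smul, ← hc1, smul_smul, pow_succ]
  have h1 := hpow p
  rw [lin_pow, h.pow, lin_one] at h1
  have h2 : c ^ p = 1 := by
    have h3 : (c ^ p - 1) • v = 0 := by
      rw [sub_smul, one_smul, ← h1]
      exact sub_self _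
    rcases smul_eq_zero.1 h3 with h | h
    · exact sub_eq_zero.1 h
    · exact absurd h hv0
  have hcp := h.charP
  have hpf := Fact.mk h.prime
  have h4 : (c - 1) ^ p = 0 := by rw [sub_pow_char, h2, one_pow, sub_self]
  have h5 : c = 1 := sub_eq_zero.1 (pow_eq_zero_iff h.prime.ne_zero |>.1 h4)
  rw [← hc1, h5, one_smul]

end Cfsg.Agent.H781.Cov9
end

-- part: H781/Cov9/ResNine
section
/-!
# S2499, row `Ω_9(q)`: the residual class (S5836) over the two witnesses (helper781)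
-/

set_option autoImplicit false
set_option linter.unusedSectionVars false

namespace Cfsg.Agent.H781.Cov9

open Module QuadraticMap Cfsg Cfsg.Geo
open Cfsg.Agent.H884.El
open scoped MatrixGroups Matrix

universe u

/-! ### Numbers -/

theorem num8 {p a r : ℕ} (h : PP p (a * 8) r) (ha : 1 ≤ a) : 17 ≤ r := by
  have h1 := h.dvd_sub_one (by omega)
  have h2 : 8 ∣ r - 1 := (Dvd.intro_left a rfl).trans h1
  have h3 := h.prime.two_le
  have h4 : r ≠ 9 := by
    rintro rfl
    exact absurd h.prime (by norm_num)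
  omega

theorem num6 {p a r : ℕ} (h : PP p (a * 6) r) (ha : 1 ≤ a) : r % 6 = 1 ∧ 7 ≤ r := by
  have h1 := h.dvd_sub_one (by omega)
  have h2 : 6 ∣ r - 1 := (Dvd.intro_left a rfl).trans h1
  have h3 := h.prime.two_le
  omega

theorem num4 {p a r : ℕ} (h : PP p (a * 4) r) (ha : 1 ≤ a) : r % 4 = 1 ∧ 5 ≤ r := by
  have h1 := h.dvd_sub_one (by omega)
  have h2 : 4 ∣ r - 1 := (Dvd.intro_left a rfl).trans h1
  have h3 := h.prime.two_le
  omega

/-- `r_6 = 7` implies `q = p` of order `6` modulo `7` -/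
theorem num7 {p a : ℕ} (h : PP p (a * 6) 7) (ha : 1 ≤ a) : a = 1 := by
  have h1 := h.dvd_sub_one (by omega)
  have h2 := Nat.le_of_dvd (by norm_num) h1
  omega

theorem pp_ne {p r e : ℕ} (h : PP p e r) {i : ℕ} (hi : p ^ i % r = 1 % r) (hei : ¬ e ∣ i) : False := by
  apply hei
  rw [← h.ord, orderOf_dvd_iff_pow_eq_one]
  have := (ZMod.natCast_eq_natCast_iff' (p ^ i) 1 r).2 hi
  rw [Nat.cast_pow, Nat.cast_one] at this
  exact this

theorem not_dvd_psl {p a j e r : ℕ} (h : PP p (a * e) r) (hp : p.Prime) (ha : 1 ≤ a) (hj : 1 ≤ j) (hje : 2 * j < e) :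
    ¬ r ∣ (a * j) * (p ^ (a * j) * ((p ^ (a * j)) ^ 2 - 1)) := by
  have hlt := h.lt (Nat.mul_pos ha (by omega))
  intro hd
  rcases (h.prime.dvd_mul).1 hd with h1 | h1
  · have h2 := Nat.le_of_dvd (Nat.mul_pos ha hj) h1
    have h3 : a * j ≤ a * e := Nat.mul_le_mul_left a (by omega)
    omega
  · rcases (h.prime.dvd_mul).1 h1 with h2 | h2
    · exact h.not_dvd (Nat.mul_pos ha (by omega)) (h.prime.dvd_of_dvd_pow h2)
    · rw [← pow_mul, h.dvd_iff hp.one_le, mul_assoc] at h2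
      have h3 := Nat.le_of_dvd (by omega) (Nat.dvd_of_mul_dvd_mul_left (by omega) h2)
      omega

theorem of_dvd_23 {r i j c : ℕ} (hr : r.Prime) (h : r ∣ 2 ^ i * (3 ^ j * c)) : r = 2 ∨ r = 3 ∨ r ∣ c := by
  rcases (hr.dvd_mul).1 h with h1 | h1
  · exact Or.inl ((Nat.prime_dvd_prime_iff_eq hr Nat.prime_two).1 (hr.dvd_of_dvd_pow h1))
  · rcases (hr.dvd_mul).1 h1 with h2 | h2
    · exact Or.inr (Or.inl ((Nat.prime_dvd_prime_iff_eq hr Nat.prime_three).1 (hr.dvd_of_dvd_pow h2)))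
    · exact Or.inr (Or.inr h2)

/-! ### The residual class -/

section

variable {F : Type u} [Field F] [Fintype F]

/-- the conclusion of S5836 -/
def ResCases (H : Subgroup (GL (Unit ⊕ (Fin 4 ⊕ Fin 4)) F)) : Prop :=
    ∃ (P : Subgroup (Matrix.GeneralLinearGroup (Unit ⊕ (Fin 4 ⊕ Fin 4)) F)) (p : ℕ), Cfsg.Geo.IsResidualCore H P ∧ p.Prime ∧ CharP F p ∧
    (((∃ (K : Type) (_ : Field K) (_ : Fintype K), Fintype.card K = 8 ∧ Nonempty ((P ⧸ (Cfsg.Geo.scalars (Unit ⊕ (Fin 4 ⊕ Fin 4)) F).subgroupOf P) ≃* Matrix.ProjectiveSpecialLinearGroup (Fin 2) K)) ∧ ((Fintype.card F = p ∧ (p % 7 = 1 ∨ p % 7 = 6)) ∨ (Fintype.card F = p ^ 3 ∧ (p % 7 = 2 ∨ p % 7 = 5 ∨ p % 7 = 3 ∨ p % 7 = 4)))) ∨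
     (Nonempty ((P ⧸ (Cfsg.Geo.scalars (Unit ⊕ (Fin 4 ⊕ Fin 4)) F).subgroupOf P) ≃* Matrix.ProjectiveSpecialLinearGroup (Fin 2) (ZMod 17)) ∧ ((Fintype.card F = p ∧ (p % 17 = 1 ∨ p % 17 = 16 ∨ p % 17 = 2 ∨ p % 17 = 15 ∨ p % 17 = 4 ∨ p % 17 = 13 ∨ p % 17 = 8 ∨ p % 17 = 9)) ∨ (Fintype.card F = p ^ 2 ∧ (p % 17 = 3 ∨ p % 17 = 14 ∨ p % 17 = 5 ∨ p % 17 = 12 ∨ p % 17 = 6 ∨ p % 17 = 11 ∨ p % 17 = 7 ∨ p % 17 = 10)))) ∨
     (Nonempty ((P ⧸ (Cfsg.Geo.scalars (Unit ⊕ (Fin 4 ⊕ Fin 4)) F).subgroupOf P) ≃* alternatingGroup (Fin 10)) ∧ Fintype.card F = p ∧ p ≠ 5 ∧ p ≠ 11) ∨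
     (Nonempty ((P ⧸ (Cfsg.Geo.scalars (Unit ⊕ (Fin 4 ⊕ Fin 4)) F).subgroupOf P) ≃* alternatingGroup (Fin 11)) ∧ Fintype.card F = 11) ∨
     (Nonempty ((P ⧸ (Cfsg.Geo.scalars (Unit ⊕ (Fin 4 ⊕ Fin 4)) F).subgroupOf P) ≃* Matrix.ProjectiveSpecialLinearGroup (Fin 2) F) ∧ 11 ≤ p) ∨
     ((∃ (K : Type) (_ : Field K) (_ : Fintype K), Fintype.card K = Fintype.card F ^ 2 ∧ Nonempty ((P ⧸ (Cfsg.Geo.scalars (Unit ⊕ (Fin 4 ⊕ Fin 4)) F).subgroupOf P) ≃* Matrix.ProjectiveSpecialLinearGroup (Fin 2) K)) ∧ Fintype.card F ≠ 3))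

/-- all prime orders of non-scalar elements of `H` divide `N` -/
def Bd (H : Subgroup (GL (Unit ⊕ (Fin 4 ⊕ Fin 4)) F)) (N : ℕ) : Prop :=
  ∀ (g : GL (Unit ⊕ (Fin 4 ⊕ Fin 4)) F) (s : ℕ), g ∈ H → g ∉ scalars _ F → s.Prime → g ^ s = 1 → s ∣ N

theorem Bd.of_core {H P : Subgroup (GL (Unit ⊕ (Fin 4 ⊕ Fin 4)) F)} (h : IsResidualCore H P) {N : ℕ}
    (hN : Nat.card (MulAut (P ⧸ (scalars (Unit ⊕ (Fin 4 ⊕ Fin 4)) F).subgroupOf P)) ∣ N) : Bd H N :=
  fun _ _ hg hgs hs hgr => (dvd_aut_core h hg hgs hs hgr).trans hN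

/-- the bounds on the prime orders -/
theorem ResCases.bd {H : Subgroup (GL (Unit ⊕ (Fin 4 ⊕ Fin 4)) F)} (h : ResCases H) {p a : ℕ} (hp : p.Prime)
    (ha : 1 ≤ a) (hF : Fintype.card F = p ^ a) :
    (Bd H (2 ^ 3 * (3 ^ 3 * 7)) ∧ (p % 7 = 1 ∨ p % 7 = 6 ∨ a = 3)) ∨
    Bd H (2 ^ 5 * (3 ^ 2 * 17)) ∨
    (Bd H (Nat.factorial 10) ∧ a = 1 ∧ p ≠ 5) ∨
    (Bd H (Nat.factorial 11) ∧ Fintype.card F = 11) ∨
    Bd H ((a * 1) * (p ^ (a * 1) * ((p ^ (a * 1)) ^ 2 - 1))) ∨
    Bd H ((a * 2) * (p ^ (a * 2) * ((p ^ (a * 2)) ^ 2 - 1))) := by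
  obtain ⟨P, p', hcore, hp', hch, h⟩ := h
  have hpf := Fact.mk hp
  have hch2 : CharP F p := charP_of_card_eq_prime_pow hF
  have hpp : p' = p := CharP.eq F hch hch2
  subst hpp
  rcases h with ⟨⟨K, _, _, hK, ⟨e⟩⟩, h1⟩ | ⟨⟨e⟩, h1⟩ | ⟨⟨e⟩, h1, h5, -⟩ | ⟨⟨e⟩, h1⟩ | ⟨⟨e⟩, h1⟩ | ⟨⟨K, _, _, hK, ⟨e⟩⟩, h1⟩
  · left
    refine ⟨Bd.of_core hcore ?_, ?_⟩
    · rw [card_mulAut_congr e, card_mulAut_psl (K := K) (p := 2) (f := 3) Nat.prime_two (by norm_num)
        (by rw [hK]; norm_num) (by norm_num)]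
      norm_num
    · rcases h1 with ⟨-, h1 | h1⟩ | ⟨h1, -⟩
      · exact Or.inl h1
      · exact Or.inr (Or.inl h1)
      · right; right
        rw [hF] at h1
        exact Nat.pow_right_injective hp.two_le h1
  · right; left
    refine Bd.of_core hcore ?_
    have h17 : Fact (Nat.Prime 17) := ⟨by norm_num⟩
    rw [card_mulAut_congr e, card_mulAut_psl (K := ZMod 17) (p := 17) (f := 1) (by norm_num) (by norm_num)
        (by rw [ZMod.card, pow_one]) (by norm_num)]
    norm_num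
  · right; right; left
    refine ⟨Bd.of_core hcore ?_, ?_, h5⟩
    · rw [card_mulAut_congr e]
      exact card_mulAut_alt 10 (by norm_num)
    · rw [hF] at h1
      have h2 : p' ^ a = p' ^ 1 := by rw [h1, pow_one]
      exact Nat.pow_right_injective hp.two_le h2
  · right; right; right; left
    refine ⟨Bd.of_core hcore ?_, h1⟩
    rw [card_mulAut_congr e]
    exact card_mulAut_alt 11 (by norm_num)
  · right; right; right; right; left
    refine Bd.of_core hcore ?_
    rw [card_mulAut_congr e, card_mulAut_psl (K := F) (p := p') (f := a * 1) hp (by omega)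
        (by rw [hF, mul_one]) ?_]
    have h2 : p' ^ 1 ≤ p' ^ (a * 1) := Nat.pow_le_pow_right hp.one_le (by omega)
    rw [pow_one] at h2
    omega
  · right; right; right; right; right
    refine Bd.of_core hcore ?_
    rw [card_mulAut_congr e, card_mulAut_psl (K := K) (p := p') (f := a * 2) hp (by omega)
        (by rw [hK, hF, ← pow_mul]) ?_]
    have h2 : p' ^ 2 ≤ p' ^ (a * 2) := Nat.pow_le_pow_right hp.one_le (by omega)
    have h3 : 2 ^ 2 ≤ p' ^ 2 := Nat.pow_le_pow_left hp.two_le 2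
    omega

variable {Q : QuadraticForm F (Unit ⊕ (Fin 4 ⊕ Fin 4) → F)}

theorem card_nine : Fintype.card (Unit ⊕ (Fin 4 ⊕ Fin 4)) = 9 := by decide

/-- residual groups over the first witness -/
theorem res_a {H : Subgroup (GL (Unit ⊕ (Fin 4 ⊕ Fin 4)) F)} (h : ResCases H) {p a r : ℕ} (hp : p.Prime)
    (ha : 1 ≤ a) (hF : Fintype.card F = p ^ a) (hr : PP p (a * 8) r) {x : GL (Unit ⊕ (Fin 4 ⊕ Fin 4)) F}
    (hx : Elt Q x r 8) (hxH : x ∈ H) : r = 17 ∧ Bd H (2 ^ 5 * (3 ^ 2 * 17)) := by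
  have h17 := num8 hr ha
  have hns := hx.not_scalar (by rw [card_nine]; norm_num)
  rcases h.bd hp ha hF with ⟨h1, -⟩ | h1 | ⟨h1, -, -⟩ | ⟨h1, -⟩ | h1 | h1
  · exfalso
    rcases of_dvd_23 hr.prime (h1 x r hxH hns hr.prime hx.pow) with h2 | h2 | h2
    · omega
    · omega
    · have := Nat.le_of_dvd (by norm_num) h2
      omega
  · refine ⟨?_, h1⟩
    rcases of_dvd_23 hr.prime (h1 x r hxH hns hr.prime hx.pow) with h2 | h2 | h2
    · omega
    · omega
    · have := Nat.le_of_dvd (by norm_num) h2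
      omega
  · exfalso
    have := (hr.prime.dvd_factorial).1 (h1 x r hxH hns hr.prime hx.pow)
    omega
  · exfalso
    have := (hr.prime.dvd_factorial).1 (h1 x r hxH hns hr.prime hx.pow)
    omega
  · exact absurd (h1 x r hxH hns hr.prime hx.pow) (not_dvd_psl hr hp ha le_rfl (by norm_num))
  · exact absurd (h1 x r hxH hns hr.prime hx.pow) (not_dvd_psl hr hp ha (by norm_num) (by norm_num))

/-- residual groups over the second witness -/
theorem res_b {H : Subgroup (GL (Unit ⊕ (Fin 4 ⊕ Fin 4)) F)} (h : ResCases H) {p a r : ℕ} (hp : p.Prime)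
    (hp2 : p ≠ 2) (ha : 1 ≤ a) (hF : Fintype.card F = p ^ a) (hr : PP p (a * 6) r)
    {y u : GL (Unit ⊕ (Fin 4 ⊕ Fin 4)) F} (hb : BElt Q y u r 6 p) (hyH : y ∈ H) (huH : u ∈ H) :
    Fintype.card F = 3 ∧ Bd H (Nat.factorial 10) := by
  obtain ⟨h6, h7⟩ := num6 hr ha
  have hns := hb.elt.not_scalar (by rw [card_nine]; norm_num)
  have hyp := hb.elt.pow
  have h35 : 3 ≤ p := by have := hp.two_le; omega
  rcases h.bd hp ha hF with ⟨h1, h2⟩ | h1 | ⟨h1, h2, h3⟩ | ⟨h1, h2⟩ | h1 | h1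
  · exfalso
    rcases of_dvd_23 hr.prime (h1 y r hyH hns hr.prime hyp) with h3 | h3 | h3
    · omega
    · omega
    · have h4 := Nat.le_of_dvd (by norm_num) h3
      have h5 : r = 7 := by omega
      subst h5
      have ha1 := num7 hr ha
      subst ha1
      rcases h2 with h2 | h2 | h2
      · exact pp_ne hr (i := 1) (by rw [pow_one]; exact h2) (by norm_num)
      · exact pp_ne hr (i := 2) (by rw [Nat.pow_mod, h2]) (by norm_num)
      · omega
  · exfalso
    rcases of_dvd_23 hr.prime (h1 y r hyH hns hr.prime hyp) with h3 | h3 | h3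
    · omega
    · omega
    · have h4 := (Nat.prime_dvd_prime_iff_eq hr.prime (by norm_num)).1 h3
      omega
  · have h4 := (hr.prime.dvd_factorial).1 (h1 y r hyH hns hr.prime hyp)
    have h5 : r = 7 := by omega
    obtain ⟨v, hv, hv0⟩ := exists_mem_ne (W := Cfsg.Agent.H951.fx (lin u)) (by rw [hb.dim]; norm_num)
    have h8 := (hp.dvd_factorial).1 (h1 u p huH (not_scalar hb.ne hv0 (H951.mem_fx.1 hv)) hp hb.pow)
    have h9 : p ≠ 7 := by
      rintro rfl
      rw [h5] at hr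
      exact hr.not_dvd (by omega) dvd_rfl
    have h10 : p = 3 := by
      interval_cases p <;> first | rfl | exact absurd rfl h3 | exact absurd rfl h9 | (revert hp; norm_num)
    refine ⟨?_, h1⟩
    rw [hF, h2, h10, pow_one]
  · exfalso
    have h4 := (hr.prime.dvd_factorial).1 (h1 y r hyH hns hr.prime hyp)
    have h5 : r = 7 := by
      have := hr.prime
      have : r ≠ 13 := by omega
      omega
    subst h5
    have ha1 := num7 hr ha
    subst ha1
    rw [hF, pow_one] at h2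
    subst h2
    exact pp_ne hr (i := 3) (by norm_num) (by norm_num)
  · exact absurd (h1 y r hyH hns hr.prime hyp) (not_dvd_psl hr hp ha le_rfl (by norm_num))
  · exact absurd (h1 y r hyH hns hr.prime hyp) (not_dvd_psl hr hp ha (by norm_num) (by norm_num))

end

end Cfsg.Agent.H781.Cov9
end

-- part: H781/Cov9/Over
section
/-!
# S2499, row `Ω_9(q)`: the maximal overgroups of the two witnesses (helper781)
-/

set_option autoImplicit false
set_option linter.unusedSectionVars false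

namespace Cfsg.Agent.H781.Cov9

open Module QuadraticMap Cfsg Cfsg.Geo Cfsg.Agent.LieClassical.OrthCore Cfsg.Agent.H955 Cfsg.Agent.H954.TSing
open Cfsg.Agent.H884.El
open Cfsg.Agent.H951 (fx cm Inv)
open scoped MatrixGroups Matrix

universe u

/-- the nine coordinates -/
abbrev I9 : Type := Unit ⊕ (Fin 4 ⊕ Fin 4)

variable {F : Type u} [Field F] [Fintype F] {Q : QuadraticForm F (I9 → F)}

/-- the conclusion of S5835 -/
def GeoCases (Q : (I9 → F) → F) (H : Subgroup (GL I9 F)) : Prop :=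
    (∃ W : Submodule F (I9 → F), W ≠ ⊥ ∧ Cfsg.Geo.IsTotallySingularQuad Q W ∧ H = Cfsg.Geo.subspaceStabilizer W ⊓ Cfsg.Geo.omegaGL Q) ∨
    (∃ W : Submodule F (I9 → F), W ≠ ⊥ ∧ Even (Module.finrank F W) ∧ Cfsg.Geo.IsNondegenerateOn (QuadraticMap.polar Q) W ∧ ¬ (Fintype.card F = 3 ∧ Module.finrank F W = 2 ∧ Cfsg.Geo.IsPlusTypeOn Q W) ∧ H = Cfsg.Geo.subspaceStabilizer W ⊓ Cfsg.Geo.omegaGL Q) ∨
    ((Fintype.card F).Prime ∧ ∃ D : Fin 9 → Submodule F (I9 → F), Cfsg.Geo.IsOrthogonalMDecomposition Q 1 D ∧ H = Cfsg.Geo.decompositionStabilizer D ⊓ Cfsg.Geo.omegaGL Q) ∨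
    (5 ≤ Fintype.card F ∧ ∃ D : Fin 3 → Submodule F (I9 → F), Cfsg.Geo.IsOrthogonalMDecomposition Q 3 D ∧ H = Cfsg.Geo.decompositionStabilizer D ⊓ Cfsg.Geo.omegaGL Q) ∨
    (∃ K : Subalgebra F (Matrix I9 I9 F), Cfsg.Geo.IsFieldSubalgebra 3 K ∧ Cfsg.Geo.IsSelfAdjointFor (QuadraticMap.polar Q) K ∧ H = Cfsg.Geo.subalgebraNormalizer K ⊓ Cfsg.Geo.omegaGL Q) ∨
    (∃ (F₀ : Subfield F) (r : ℕ) (P : Matrix.GeneralLinearGroup I9 F), r.Prime ∧ Fintype.card F = Nat.card F₀ ^ r ∧ Cfsg.Geo.IsQuadFormRationalStructure Q F₀ P ∧ H = Cfsg.Geo.subfieldSubgroup F₀ P ⊓ Cfsg.Geo.omegaGL Q) ∨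
    (5 ≤ Fintype.card F ∧ ∃ (e : I9 ≃ (Fin 2 → Fin 3)) (P : Matrix.GeneralLinearGroup I9 F) (f₁ : (Fin 3 → F) → (Fin 3 → F) → F), Cfsg.Geo.IsSymmetricForm f₁ ∧ Cfsg.Geo.IsTensorPowerFormStructure id (QuadraticMap.polar Q) f₁ e P ∧ H = Cfsg.Geo.tensorWreathSubgroup 3 2 e P ⊓ Cfsg.Geo.omegaGL Q) ∨
    ResCases H

/-- three classes killed by one large prime -/
theorem kill {H : Subgroup (GL I9 F)} {p a e r d : ℕ} (hp : p.Prime) (ha : 1 ≤ a) (hF : Fintype.card F = p ^ a)
    (hr : PP p (a * e) r) (he : 5 ≤ e) {x : GL I9 F} (hx : Elt Q x r d) (hxH : x ∈ H) :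
    (∀ D : Fin 9 → Submodule F (I9 → F), IsOrthogonalMDecomposition (⇑Q) 1 D →
      H ≤ decompositionStabilizer D → r ≤ 9) ∧
    (∀ D : Fin 3 → Submodule F (I9 → F), IsOrthogonalMDecomposition (⇑Q) 3 D →
      H ≤ decompositionStabilizer D → r ≤ 3) ∧
    (∀ (F₀ : Subfield F) (s : ℕ) (P : GL I9 F), s.Prime → Fintype.card F = Nat.card F₀ ^ s →
      H ≤ subfieldSubgroup F₀ P → False) ∧
    (∀ (i : I9 ≃ (Fin 2 → Fin 3)) (P : GL I9 F), H ≤ tensorWreathSubgroup 3 2 i P → r ≤ 2) := by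
  have hdvd := hx.dvd_card hxH
  have hrq : PP (Nat.card F) e r := by rw [Nat.card_eq_fintype_card, hF]; exact hr.of_pow ha
  have hq := one_lt_q F
  refine ⟨fun D hD hle => ?_, fun D hD hle => ?_, fun F₀ s P hs hc hle => ?_, fun i P hle => ?_⟩
  · exact decomp_le hD.decomp.decomp hle hrq (by omega) hdvd
  · exact decomp_le hD.decomp.decomp hle hrq (by omega) hdvd
  · exact kill_subfield hle hs (by rw [Nat.card_eq_fintype_card]; exact hc) hp
      (by rw [Nat.card_eq_fintype_card]; exact hF) hr (by rw [card_nine]; omega) (by omega) hdvd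
  · rcases H251.GeoCard.wreath i P hr.prime (hrq.not_dvd (by omega))
      (hdvd.trans (Subgroup.card_dvd_of_le hle)) with h | h
    · exact h
    · have := le_of_div hrq hq.le h
      omega

theorem le_left {G : Type*} [Group G] {H A B : Subgroup G} (h : H = A ⊓ B) : H ≤ A := h.le.trans inf_le_left

/-- **the maximal overgroups of the first witness** -/
theorem over_a (hQ : Nondeg Q) {H : Subgroup (GL I9 F)} (h : GeoCases (⇑Q) H) {p a r : ℕ} (hp : p.Prime)
    (ha : 1 ≤ a) (hF : Fintype.card F = p ^ a) (hr : PP p (a * 8) r) {x : GL I9 F}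
    (hx : Elt Q x r 8) (hxH : x ∈ H) :
    (∃ W : Submodule F (I9 → F), finrank F W = 8 ∧ Nondeg (res Q W) ∧ ¬ IsPlus (res Q W) ∧
      H ≤ subspaceStabilizer W) ∨ (r = 17 ∧ Bd H (2 ^ 5 * (3 ^ 2 * 17))) := by
  have h17 := num8 hr ha
  have hrq : PP (Nat.card F) 8 r := by rw [Nat.card_eq_fintype_card, hF]; exact hr.of_pow ha
  obtain ⟨k1, k2, k3, k4⟩ := kill hp ha hF hr (by norm_num) hx hxH
  have hfin : finrank F (I9 → F) = 9 := by rw [finrank_V, card_nine]
  have hadd := hx.finrank_add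
  rw [card_nine] at hadd
  obtain ⟨hcm, hcmP⟩ := hx.iso.even_case hQ (lin_ne_one hx.ne) hrq (by decide) (by rw [hfin]; norm_num)
  have hnfx := nondeg_fx hQ hx.iso.iso hx.iso.ne0 hx.iso.pow
  have hncm := nondeg_cm hQ hx.iso.iso hx.iso.ne0 hx.iso.pow
  rcases h with ⟨W, hW0, hWs, hH⟩ | ⟨W, hW0, hWe, hWn, -, hH⟩ | ⟨-, D, hD, hH⟩ | ⟨-, D, hD, hH⟩ | ⟨K, hK, -, hH⟩ |
    ⟨F₀, s, P, hs, hc, -, hH⟩ | ⟨-, i, P, f₁, -, -, hH⟩ | h
  · exfalso
    have h1 := hx.iso.ts_le hQ (lin_ne_one hx.ne) hrq hcm (inv_of_mem (le_left hH hxH)) hWs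
    have h2 := Submodule.finrank_mono h1
    have h3 : finrank F W ≠ 0 := fun h => hW0 (Submodule.finrank_eq_zero.1 h)
    have h4 : W = fx (lin x) := Submodule.eq_of_le_of_finrank_eq h1 (by omega)
    refine ts_not_nondeg (Q := Q) (W := W) (U := fx (lin x)) hWs (by rw [h4]) ?_ hnfx
    rw [← h4]; exact hW0
  · left
    rcases hx.iso.le_or hrq hcm (inv_of_mem (le_left hH hxH)) with h1 | h1
    · exfalso
      have h2 := Submodule.finrank_mono h1
      have h3 : finrank F W ≠ 0 := fun h => hW0 (Submodule.finrank_eq_zero.1 h)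
      obtain ⟨k, hk⟩ := hWe
      omega
    · have h2 := Submodule.finrank_mono h1
      have h3 : finrank F W ≤ 9 := by rw [← hfin]; exact Submodule.finrank_le _
      obtain ⟨k, hk⟩ := hWe
      have h4 : cm (lin x) = W := Submodule.eq_of_le_of_finrank_eq h1 (by omega)
      refine ⟨W, by omega, nondeg_of_geo hWn, ?_, le_left hH⟩
      rw [← h4]
      exact hcmP
  · have := k1 D hD (le_left hH)
    omega
  · have := k2 D hD (le_left hH)
    omega
  · exfalso
    have h1 := hx.three_dvd (by omega) hK (le_left hH hxH)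
    omega
  · exact (k3 F₀ s P hs hc (le_left hH)).elim
  · have := k4 i P (le_left hH)
    omega
  · right
    exact res_a h hp ha hF hr hx hxH

/-- **the maximal overgroups of the second witness** -/
theorem over_b (hQ : Nondeg Q) {H : Subgroup (GL I9 F)} (h : GeoCases (⇑Q) H) {p a r : ℕ} (hp : p.Prime)
    (hp2 : p ≠ 2) (ha : 1 ≤ a) (hF : Fintype.card F = p ^ a) (hr : PP p (a * 6) r) {y u : GL I9 F}
    (hb : BElt Q y u r 6 p) (hyH : y ∈ H) (huH : u ∈ H) :
    (∃ W : Submodule F (I9 → F), ((finrank F W = 1 ∧ TS Q W) ∨ finrank F W = 6) ∧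
      H ≤ subspaceStabilizer W) ∨ (Fintype.card F = 3 ∧ Bd H (Nat.factorial 10)) := by
  obtain ⟨h6, h7⟩ := num6 hr ha
  have hx := hb.elt
  have hrq : PP (Nat.card F) 6 r := by rw [Nat.card_eq_fintype_card, hF]; exact hr.of_pow ha
  obtain ⟨k1, k2, k3, k4⟩ := kill hp ha hF hr (by norm_num) hx hyH
  have hfin : finrank F (I9 → F) = 9 := by rw [finrank_V, card_nine]
  have hadd := hx.finrank_add
  rw [card_nine] at hadd
  obtain ⟨hcm, hcmP⟩ := hx.iso.even_case hQ (lin_ne_one hx.ne) hrq (by decide) (by rw [hfin]; norm_num)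
  have hnfx := nondeg_fx hQ hx.iso.iso hx.iso.ne0 hx.iso.pow
  have hncm := nondeg_cm hQ hx.iso.iso hx.iso.ne0 hx.iso.pow
  have hup : 0 < p := hp.pos
  have hlu : lin u ^ p = 1 := by rw [lin_pow, hb.pow, lin_one]
  have hiu : ∀ v, Q (lin u v) = Q v := lin_iso le_rfl hb.mem
  rcases h with ⟨W, hW0, hWs, hH⟩ | ⟨W, hW0, hWe, hWn, -, hH⟩ | ⟨-, D, hD, hH⟩ | ⟨-, D, hD, hH⟩ | ⟨K, hK, -, hH⟩ |
    ⟨F₀, s, P, hs, hc, -, hH⟩ | ⟨-, i, P, f₁, -, -, hH⟩ | h
  · left
    refine ⟨W, Or.inl ⟨?_, hWs⟩, le_left hH⟩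
    have h1 := hx.iso.ts_le hQ (lin_ne_one hx.ne) hrq hcm (inv_of_mem (le_left hH hyH)) hWs
    have h3 : finrank F W ≠ 0 := fun h => hW0 (Submodule.finrank_eq_zero.1 h)
    -- a totally singular subspace of a nondegenerate 3-space
    have h2 := finrank_inf_perp hnfx h1
    have h4 : W ≤ fx (lin y) ⊓ perp Q W := fun w hw => ⟨h1 hw, fun v hv => TS.polar hWs hv hw⟩
    have h5 := Submodule.finrank_mono h4
    omega
  · have hWy := inv_of_mem (le_left hH hyH)
    have hWu := inv_of_mem (le_left hH huH)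
    have hWn' := nondeg_of_geo hWn
    have hev := hWe
    obtain ⟨k, hk⟩ := hWe
    have h3 : finrank F W ≠ 0 := fun h => hW0 (Submodule.finrank_eq_zero.1 h)
    have h9 : finrank F W ≤ 9 := by rw [← hfin]; exact Submodule.finrank_le _
    have hW8 : finrank F W ≠ 8 := by
      intro h8
      have h1 := finrank_add_perp hQ W
      rw [hfin] at h1
      have h2 := hb.no_line (W := perp Q W) hrq (by norm_num) (by omega)
        (inv_perp hx.iso.iso hx.iso.prime.pos hx.iso.pow hWy) (inv_perp hiu hup hlu hWu)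
      refine ts_not_nondeg (Q := Q) (W := perp Q W) (U := perp Q W) h2 le_rfl ?_ (nondeg_perp hQ hWn')
      intro h4
      rw [h4, finrank_bot] at h1
      omega
    rcases hx.iso.le_or hrq hcm hWy with h1 | h1
    · exfalso
      have h2 := Submodule.finrank_mono h1
      have hW2 : finrank F W = 2 := by omega
      have h4 := finrank_inf_perp hnfx h1
      have hfu : _root_.Cfsg.Agent.H951.Inv (lin u) (fx (lin y)) := by
        intro v hv
        rw [H951.mem_fx] at hv ⊢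
        rw [← lin_mul_apply, hb.comm, lin_mul_apply, hv]
      have hfy : _root_.Cfsg.Agent.H951.Inv (lin y) (fx (lin y)) := by
        intro v hv
        rw [H951.mem_fx] at hv ⊢
        rw [hv, hv]
      have h5 := hb.no_line (W := fx (lin y) ⊓ perp Q W) hrq (by norm_num) (by omega)
        (hfy.inf (inv_perp hx.iso.iso hx.iso.prime.pos hx.iso.pow hWy)) (hfu.inf (inv_perp hiu hup hlu hWu))
      -- but `fx y = W ⊥ (fx y ⊓ W^⊥)`
      obtain ⟨v, hv, hv0⟩ := exists_mem_ne (W := fx (lin y) ⊓ perp Q W) (by omega)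
      apply hv0
      have hline : ∀ w ∈ fx (lin y) ⊓ perp Q W, polar Q v w = 0 := fun w hw => TS.polar h5 hv hw
      have hsup : W ⊔ (fx (lin y) ⊓ perp Q W) = fx (lin y) := by
        apply Submodule.eq_of_le_of_finrank_eq (sup_le h1 inf_le_left)
        have h6 := Submodule.finrank_sup_add_finrank_inf_eq W (fx (lin y) ⊓ perp Q W)
        have h7 : W ⊓ (fx (lin y) ⊓ perp Q W) = ⊥ := by
          rw [eq_bot_iff]
          rintro w ⟨hw, -, hw2⟩
          rw [Submodule.mem_bot]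
          refine nondeg_res_iff.1 hWn' w hw fun z hz => ?_
          rw [polar_comm]
          exact hw2 z hz
        rw [h7, finrank_bot] at h6
        omega
      refine nondeg_res_iff.1 hnfx v hv.1 fun z hz => ?_
      rw [← hsup] at hz
      obtain ⟨z1, hz1, z2, hz2, rfl⟩ := Submodule.mem_sup.1 hz
      rw [polar_add_right, hline z2 hz2, add_zero, polar_comm]
      exact hv.2 z1 hz1
    · left
      have h2 := Submodule.finrank_mono h1
      exact ⟨W, Or.inr (by omega), le_left hH⟩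
  · exfalso
    have h1 := k1 D hD (le_left hH)
    have h2 : r = 7 := by omega
    have hp7 : p ≠ 7 := by
      rintro rfl
      rw [h2] at hr
      exact hr.not_dvd (by omega) dvd_rfl
    exact no_nine hD hx.mem hb.mem (le_left hH hyH) (le_left hH huH) hb.comm (by rw [← h2]; exact hx.pow) hx.ne
      hp hp2 hp7 hb.pow hb.ne
  · have := k2 D hD (le_left hH)
    omega
  · exact (no_cubic card_nine hb.dim hK (le_left hH huH)).elim
  · exact (k3 F₀ s P hs hc (le_left hH)).elim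
  · have := k4 i P (le_left hH)
    omega
  · right
    exact res_b h hp hp2 ha hF hr hb hyH huH

/-- the pair is not in the stabiliser of an eight-dimensional nondegenerate subspace -/
theorem BElt.not_eight (hQ : Nondeg Q) {y u : GL I9 F} {e r d p : ℕ} (hb : BElt Q y u r d p)
    (hr : PP (Nat.card F) e r) (he : 2 ≤ e) {W : Submodule F (I9 → F)} (hW8 : finrank F W = 8)
    (hWn : Nondeg (res Q W)) (hyW : y ∈ subspaceStabilizer W) (huW : u ∈ subspaceStabilizer W) : False := by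
  have hfin : finrank F (I9 → F) = 9 := by rw [finrank_V, card_nine]
  have h1 := finrank_add_perp hQ W
  rw [hfin] at h1
  have hlu : lin u ^ p = 1 := by rw [lin_pow, hb.pow, lin_one]
  have h2 := hb.no_line (W := perp Q W) hr he (by omega)
    (inv_perp hb.elt.iso.iso hb.elt.iso.prime.pos hb.elt.iso.pow (inv_of_mem hyW))
    (inv_perp (lin_iso le_rfl hb.mem) hb.prime.pos hlu (inv_of_mem huW))
  refine ts_not_nondeg (Q := Q) (W := perp Q W) (U := perp Q W) h2 le_rfl ?_ (nondeg_perp hQ hWn)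
  intro h4
  rw [h4, finrank_bot] at h1
  omega

/-- dimensions of the invariant subspaces of the third witness -/
theorem dims_c {x : GL I9 F} {r : ℕ} (hr : PP (Nat.card F) 4 r) (hx : Elt Q x r 8)
    {W : Submodule F (I9 → F)} (hW : x ∈ subspaceStabilizer W) :
    4 ∣ finrank F ↥(W ⊓ cm (lin x)) ∧ finrank F ↥(W ⊓ fx (lin x)) ≤ 1 ∧
      finrank F W = finrank F ↥(W ⊓ fx (lin x)) + finrank F ↥(W ⊓ cm (lin x)) := by
  have hinv := inv_of_mem hW
  have hadd := hx.finrank_add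
  rw [card_nine] at hadd
  refine ⟨hx.iso.dvd hr hinv, ?_, ?_⟩
  · have := Submodule.finrank_mono (R := F) (inf_le_right : W ⊓ fx (lin x) ≤ fx (lin x))
    omega
  · have h1 := H951.inf_fx_sup_inf_cm hx.iso.ne0 hx.iso.pow hinv
    have h2 := Submodule.finrank_sup_add_finrank_inf_eq (W ⊓ fx (lin x)) (W ⊓ cm (lin x))
    have h3 : (W ⊓ fx (lin x)) ⊓ (W ⊓ cm (lin x)) = ⊥ := by
      rw [eq_bot_iff]
      rintro v ⟨⟨-, hv1⟩, -, hv2⟩
      have h4 := (H951.isCompl_fx_cm hx.iso.ne0 hx.iso.pow).inf_eq_bot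
      rw [← h4]
      exact ⟨hv1, hv2⟩
    rw [h1, h3, finrank_bot] at h2
    omega

/-- the third witness is in none of the stabilisers -/
theorem not_c (hQ : Nondeg Q) {x : GL I9 F} {r : ℕ} (hr : PP (Nat.card F) 4 r) (hx : Elt Q x r 8)
    {W : Submodule F (I9 → F)} (hW : x ∈ subspaceStabilizer W) :
    ¬ (finrank F W = 8 ∧ ¬ IsPlus (res Q W)) ∧ ¬ (finrank F W = 1 ∧ TS Q W) ∧ finrank F W ≠ 6 := by
  obtain ⟨h1, h2, h3⟩ := dims_c hr hx hW
  refine ⟨?_, ?_, by omega⟩
  · rintro ⟨h8, hP⟩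
    have h4 : finrank F ↥(W ⊓ cm (lin x)) = 8 := by omega
    have h5 : W ⊓ cm (lin x) = W := Submodule.eq_of_le_of_finrank_eq inf_le_left (by omega)
    have h6 : W = cm (lin x) := Submodule.eq_of_le_of_finrank_eq (by rw [← h5]; exact inf_le_right)
      (by rw [hx.dim]; exact h8)
    apply hP
    rw [h6]
    exact hx.iso.even_two hQ hr (by decide) (by rw [hx.dim])
  · rintro ⟨hd, hs⟩
    have h4 : finrank F ↥(W ⊓ fx (lin x)) = 1 := by omega
    have h5 : W ⊓ fx (lin x) = W := Submodule.eq_of_le_of_finrank_eq inf_le_left (by omega)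
    have hadd := hx.finrank_add
    rw [card_nine] at hadd
    have h6 : W = fx (lin x) := Submodule.eq_of_le_of_finrank_eq (by rw [← h5]; exact inf_le_right) (by omega)
    refine ts_not_nondeg (Q := Q) (W := W) (U := fx (lin x)) hs (by rw [h6]) ?_
      (nondeg_fx hQ hx.iso.iso hx.iso.ne0 hx.iso.pow)
    intro h7
    rw [← h6] at h7
    rw [h7, finrank_bot] at hd
    omega

end Cfsg.Agent.H781.Cov9
end

-- part: H781/Cov9/Wit
section
/-!
# S2499, row `Ω_9(q)`: the witnesses (helper781)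
-/

set_option autoImplicit false
set_option linter.unusedSectionVars false

namespace Cfsg.Agent.H781.Cov9

open Module QuadraticMap Cfsg Cfsg.Geo Cfsg.Agent.LieClassical.OrthCore Cfsg.Agent.H955 Cfsg.Agent.H954.TSing
open Cfsg.Agent.H884.El
open Cfsg.Agent.H951 (fx cm Inv)
open scoped MatrixGroups Matrix

universe u

variable {ι : Type} [Fintype ι] [DecidableEq ι] {F : Type u} [Field F] [Fintype F] {Q : QuadraticForm F (ι → F)}

section pair

variable {V : Type*} [AddCommGroup V] [Module F V] [FiniteDimensional F V]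

theorem exists_ne_zero_of_two (h3 : 3 ≤ finrank F V) (f g : V →ₗ[F] F) : ∃ v, v ≠ 0 ∧ f v = 0 ∧ g v = 0 := by
  have h : LinearMap.ker (f.prod g) ≠ ⊥ := by
    apply LinearMap.ker_ne_bot_of_finrank_lt
    rw [Module.finrank_prod, Module.finrank_self]
    omega
  obtain ⟨v, hv, hv0⟩ := (Submodule.ne_bot_iff _).1 h
  have h1 : (f v, g v) = (0, 0) := LinearMap.mem_ker.1 hv
  exact ⟨v, hv0, congrArg Prod.fst h1, congrArg Prod.snd h1⟩

/-- a singular vector and an orthogonal nonsingular vector -/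
theorem exists_pair (Q : QuadraticForm F V) (h3 : 3 ≤ finrank F V)
    (hnd : Nondeg Q) : ∃ u a : V, u ≠ 0 ∧ Q u = 0 ∧ polar Q u a = 0 ∧ Q a ≠ 0 := by
  obtain ⟨u, hu0, hu⟩ := Cfsg.Agent.H955.exists_singular Q h3
  by_contra hcon
  push Not at hcon
  have h1 : ∀ a, polar Q u a = 0 → Q a = 0 := fun a ha => hcon u a hu0 hu ha
  obtain ⟨v, hv⟩ : ∃ v, polar Q u v ≠ 0 := by
    by_contra h
    push Not at h
    exact hu0 (hnd u h)
  obtain ⟨a, ha0, ha1, ha2⟩ := exists_ne_zero_of_two h3 (polarBilin Q u) (polarBilin Q v)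
  rw [polarBilin_apply_apply] at ha1 ha2
  apply ha0
  apply hnd
  intro w
  obtain ⟨c, hc⟩ : ∃ c : F, c * polar Q u v = polar Q u w := ⟨polar Q u w / polar Q u v, div_mul_cancel₀ _ hv⟩
  have h2 : polar Q u (w - c • v) = 0 := by
    rw [QuadraticMap.polar_sub_right, QuadraticMap.polar_smul_right, smul_eq_mul, hc, sub_self]
  have h3 : polar Q a (w - c • v) = 0 := by
    have h4 := QuadraticMap.map_add Q a (w - c • v)
    rw [h1 a ha1, h1 _ h2, h1 (a + (w - c • v)) (by rw [QuadraticMap.polar_add_right, ha1, h2, add_zero]), zero_add,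
      zero_add] at h4
    exact h4.symm
  rw [QuadraticMap.polar_sub_right, QuadraticMap.polar_smul_right, polar_comm Q a v, ha2, smul_zero, sub_zero] at h3
  exact h3

end pair

theorem siegel_pow {u w : ι → F} (hu : Q u = 0) (hw : polar Q u w = 0) (n : ℕ) (v : ι → F) :
    ((siegel Q u w hu hw) ^ n) v = siegelLin Q u ((n : F) • w) v := by
  induction n with
  | zero =>
    rw [pow_zero, Nat.cast_zero, zero_smul, siegelLin_apply, polar_zero_left, QuadraticMap.map_zero]
    simp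
  | succ n ih =>
    have h1 : (siegel Q u w hu hw ^ (n + 1)) v = siegel Q u w hu hw ((siegel Q u w hu hw ^ n) v) := by
      rw [pow_succ']; rfl
    have h2 : polar Q u ((n : F) • w) = 0 := by rw [polar_smul_right, hw, smul_zero]
    rw [h1, ih, Nat.cast_succ, add_smul, one_smul, add_comm, ← siegelLin_comp hu hw h2]
    rfl

/-- **a unipotent partner** for an element with a three-dimensional fixed space -/
theorem exists_partner (hQ : Nondeg Q) (h9 : Fintype.card ι = 9) {y : GL ι F} {r : ℕ} (hy : Elt Q y r 6)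
    {p : ℕ} (hp : p.Prime) (hpF : CharP F p) : ∃ u : GL ι F, BElt Q y u r 6 p := by
  have hadd := hy.finrank_add
  rw [h9] at hadd
  have hfin : finrank F (ι → F) = 9 := by rw [finrank_V, h9]
  have hnfx := nondeg_fx hQ hy.iso.iso hy.iso.ne0 hy.iso.pow
  obtain ⟨e', w', he0, he, hew, hw⟩ := exists_pair (res Q (fx (lin y))) (by omega) hnfx
  set! e : ι → F := (e' : ι → F) with hedef
  set! w : ι → F := (w' : ι → F) with hwdef
  have he0' : e ≠ 0 := fun h => he0 (Subtype.ext h)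
  have heQ : Q e = 0 := he
  have hwQ : Q w ≠ 0 := hw
  have hewQ : polar Q e w = 0 := hew
  have hye : lin y e = e := H951.mem_fx.1 e'.2
  have hyw : lin y w = w := H951.mem_fx.1 w'.2
  -- independence
  have hind : ∀ a b : F, a • e + b • w = 0 → a = 0 ∧ b = 0 := by
    intro a b hab
    have hb : b = 0 := by
      have h1 : b • w = (-a) • e := by
        rw [neg_smul, eq_neg_iff_add_eq_zero, add_comm]; exact hab
      have h2 : b * b * Q w = 0 := by
        rw [← smul_eq_mul, ← QuadraticMap.map_smul, h1, QuadraticMap.map_smul, heQ, smul_zero]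
      rcases mul_eq_zero.1 h2 with h | h
      · exact mul_self_eq_zero.1 h
      · exact absurd h hwQ
    rw [hb, zero_smul, add_zero] at hab
    exact ⟨(smul_eq_zero.1 hab).resolve_right he0', hb⟩
  have hli : LinearIndependent F ![e, w] := LinearIndependent.pair_iff.2 hind
  set! S : Submodule F (ι → F) := Submodule.span F (Set.range ![e, w]) with hS
  have hSd : finrank F S = 2 := by
    have := finrank_span_eq_card hli
    rwa [Fintype.card_fin] at this
  have heS : e ∈ S := Submodule.subset_span ⟨0, rfl⟩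
  have hwS : w ∈ S := Submodule.subset_span ⟨1, rfl⟩
  have hSle : S ≤ fx (lin y) := by
    rw [hS, Submodule.span_le]
    rintro _ ⟨i, rfl⟩
    fin_cases i
    · exact e'.2
    · exact w'.2
  have hperp : ∀ v, v ∈ perp Q S ↔ polar Q e v = 0 ∧ polar Q w v = 0 := by
    intro v
    constructor
    · intro h; exact ⟨h e heS, h w hwS⟩
    · rintro ⟨h1, h2⟩ z hz
      rw [hS] at hz
      induction hz using Submodule.span_induction with
      | mem z hz =>
        obtain ⟨i, rfl⟩ := hz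
        fin_cases i
        · exact h1
        · exact h2
      | zero => exact polar_zero_left _ _
      | add a b _ _ ha hb => rw [polar_add_left, ha, hb, add_zero]
      | smul c a _ ha => rw [polar_smul_left, ha, smul_zero]
  -- the Siegel transformation
  set! T := siegel Q e w heQ hewQ with hT
  have hTO : T ∈ O Q := siegel_mem_O heQ hewQ
  have hfix : ∀ v, T v = v ↔ polar Q e v = 0 ∧ polar Q w v = 0 := by
    intro v
    rw [hT, siegel_apply]
    constructor
    · intro h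
      have h1 : (-(polar Q w v) - Q w * polar Q e v) • e + polar Q e v • w = 0 := by
        have h2 : v + polar Q e v • w - polar Q w v • e - (Q w * polar Q e v) • e - v = 0 := by rw [h, sub_self]
        rw [← h2]; module
      obtain ⟨h3, h4⟩ := hind _ _ h1
      rw [h4, mul_zero, sub_zero, neg_eq_zero] at h3
      exact ⟨h4, h3⟩
    · rintro ⟨h1, h2⟩
      rw [h1, h2]; simp
  have hTp : T ^ p = 1 := by
    apply LinearEquiv.ext
    intro v
    rw [hT, siegel_pow, CharP.cast_eq_zero, zero_smul, siegelLin_apply, polar_zero_left, QuadraticMap.map_zero]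
    simp
  have hdimP : finrank F (perp Q S) = 7 := by
    rw [finrank_perp hQ, hfin, hSd]
  have hT1 : T ≠ 1 := by
    intro h
    have h1 : perp Q S = ⊤ := by
      rw [eq_top_iff]
      intro v _
      rw [hperp, ← hfix, h]
      rfl
    rw [h1, finrank_top, hfin] at hdimP
    omega
  obtain ⟨u, hu, hup, hu1, huT⟩ := exists_matrix hTO hTp hT1
  have hulin : ∀ v, lin u v = T v := by intro v; rw [huT]; rfl
  refine ⟨u, hy, hu, hp, hpF, hup, hu1, ?_, ?_, ?_⟩
  · apply lin_injective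
    rw [lin_mul, lin_mul]
    apply LinearMap.ext
    intro v
    have h1 : ∀ z, lin y z = z → ∀ v, polar Q z (lin y v) = polar Q z v := by
      intro z hz v
      conv_lhs => rw [← hz]
      exact polar_isom hy.iso.iso z v
    rw [Module.End.mul_apply, Module.End.mul_apply, hulin, hulin, hT, siegel_apply, siegel_apply, h1 e hye, h1 w hyw,
      map_sub, map_sub, map_add, map_smul, map_smul, map_smul, hye, hyw]
  · have h1 : fx (lin u) = perp Q S := by
      ext v
      rw [H951.mem_fx, hperp, ← hfix, hulin]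
    rw [h1, hdimP]
  · intro v hv1 hv2
    rw [hulin, hfix] at hv2
    have h1 := finrank_inf_perp hnfx hSle
    have hd1 : finrank F ↥(fx (lin y) ⊓ perp Q S) = 1 := by omega
    have he1 : e ∈ fx (lin y) ⊓ perp Q S := by
      refine ⟨e'.2, (hperp e).2 ⟨?_, ?_⟩⟩
      · rw [polar_self, heQ, smul_zero]
      · rw [polar_comm]; exact hewQ
    obtain ⟨c, hc⟩ := (finrank_eq_one_iff_of_nonzero' (⟨e, he1⟩ : ↥(fx (lin y) ⊓ perp Q S)) (by
        intro h; exact he0' (congrArg Subtype.val h))).1 hd1 ⟨v, H951.mem_fx.2 hv1, (hperp v).2 hv2⟩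
    have hcv : c • e = v := congrArg Subtype.val hc
    rw [← hcv, QuadraticMap.map_smul, heQ, smul_zero]

/-- **the second witness** -/
theorem exists_b (hQ : Nondeg Q) (h9 : Fintype.card ι = 9) (h2 : (2 : F) ≠ 0) {r : ℕ} (hr : PP (Nat.card F) 6 r)
    {p : ℕ} (hp : p.Prime) (hpF : CharP F p) : ∃ y u : GL ι F, BElt Q y u r 6 p := by
  obtain ⟨y, hy, hyr, hy1, hyd⟩ := exists_g (A := 1) hQ hr (by decide) (by norm_num) le_rfl
    (Or.inr ⟨h2, by rw [h9]; norm_num⟩)
  obtain ⟨u, hu⟩ := exists_partner hQ h9 (Elt.of hr (by norm_num) hy hyr hy1 hyd) hp hpF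
  exact ⟨y, u, hu⟩

/-- the fourth witness -/
theorem exists_b3 (hQ : Nondeg Q) (h9 : Fintype.card ι = 9) (h2 : (2 : F) ≠ 0) {r : ℕ} (hr : PP (Nat.card F) 3 r)
    {p : ℕ} (hp : p.Prime) (hpF : CharP F p) : ∃ y u : GL ι F, BElt Q y u r 6 p := by
  obtain ⟨y, hy, hyr, hy1, hyd⟩ := exists_g_odd (A := 1) hQ hr (by decide) (by norm_num) le_rfl
    (Or.inr ⟨h2, by rw [h9]; norm_num⟩)
  obtain ⟨u, hu⟩ := exists_partner hQ h9 (Elt.of hr (by norm_num) hy hyr hy1 hyd) hp hpF
  exact ⟨y, u, hu⟩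

/-- **the first witness** -/
theorem exists_a (hQ : Nondeg Q) (h9 : Fintype.card ι = 9) (h2 : (2 : F) ≠ 0) {r : ℕ} (hr : PP (Nat.card F) 8 r) :
    ∃ x : GL ι F, Elt Q x r 8 := by
  obtain ⟨y, hy, hyr, hy1, hyd⟩ := exists_g (A := 1) hQ hr (by decide) (by norm_num) le_rfl
    (Or.inr ⟨h2, by rw [h9]; norm_num⟩)
  exact ⟨y, Elt.of hr (by norm_num) hy hyr hy1 hyd⟩

/-- the third witness -/
theorem exists_c (hQ : Nondeg Q) (h9 : Fintype.card ι = 9) (h2 : (2 : F) ≠ 0) {r : ℕ} (hr : PP (Nat.card F) 4 r) :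
    ∃ x : GL ι F, Elt Q x r 8 := by
  obtain ⟨y, hy, hyr, hy1, hyd⟩ := exists_g (A := 2) hQ hr (by decide) (by norm_num) (by norm_num)
    (Or.inr ⟨h2, by rw [h9]; norm_num⟩)
  exact ⟨y, Elt.of hr (by norm_num) hy hyr hy1 hyd⟩

end Cfsg.Agent.H781.Cov9
end

-- part: H781/Cov9/Main
section
/-!
# S2499, row `Ω_9(q)`: `NoTwo` from the list of maximal subgroups (helper781)
-/

set_option autoImplicit false
set_option linter.unusedSectionVars false

namespace Cfsg.Agent.H781.Cov9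

open Module QuadraticMap Cfsg Cfsg.Geo Cfsg.Agent.LieClassical.OrthCore Cfsg.Agent.H955 Cfsg.Agent.H954.TSing
open Cfsg.Agent.H884.El Cfsg.Agent.H278.Cov
open Cfsg.Agent.H951 (fx cm Inv)
open scoped MatrixGroups Matrix

universe u

theorem isMaximalIn_map {G : Type*} [Group G] {K : Subgroup G} {H : Subgroup K} (h : IsCoatom H) :
    IsMaximalIn K (H.map K.subtype) := by
  have hle : H.map K.subtype ≤ K := by
    rintro _ ⟨x, -, rfl⟩
    exact x.2
  have hback : ∀ M : Subgroup G, M ≤ K → (M.subgroupOf K).map K.subtype = M := by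
    intro M hM
    rw [Subgroup.subgroupOf_map_subtype, inf_eq_left.2 hM]
  refine ⟨lt_of_le_of_ne hle ?_, fun M hHM hMK => ?_⟩
  · intro he
    apply h.1
    rw [eq_top_iff]
    intro x _
    have hx : (x : G) ∈ H.map K.subtype := by rw [he]; exact x.2
    obtain ⟨z, hz, hzx⟩ := hx
    have : z = x := Subtype.ext hzx
    rwa [← this]
  · have h1 : H ≤ M.subgroupOf K := by
      intro z hz
      rw [Subgroup.mem_subgroupOf]
      exact hHM ⟨z, hz, rfl⟩
    rcases h.le_iff.1 h1 with h2 | h2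
    · right
      rw [← hback M hMK, h2]
      ext z
      constructor
      · rintro ⟨x, -, rfl⟩; exact x.2
      · intro hz; exact ⟨⟨z, hz⟩, trivial, rfl⟩
    · left
      rw [← hback M hMK, h2]

variable {F : Type u} [Field F] [Fintype F] {Q : QuadraticForm F (I9 → F)}

theorem mem_map_conj {G : Type*} [Group G] {K : Subgroup G} {H : Subgroup ↥K} {g : ↥K} {x : G} {hx : x ∈ K}
    (h : g * ⟨x, hx⟩ * g⁻¹ ∈ H) : (g : G) * x * (g : G)⁻¹ ∈ H.map K.subtype :=
  ⟨_, h, rfl⟩

theorem omegaGL_le : omegaGL (⇑Q) ≤ isometryGroup F (⇑Q) := by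
  rintro _ ⟨x, -, rfl⟩
  exact x.2

theorem conj_elt {x : GL I9 F} {r d : ℕ} (hx : Elt Q x r d) {g : ↥(omegaGL (⇑Q))} {hxΩ : x ∈ omegaGL (⇑Q)}
    {H : Subgroup ↥(omegaGL (⇑Q))} (hg : g * ⟨x, hxΩ⟩ * g⁻¹ ∈ H) :
    ∃ x' : GL I9 F, Elt Q x' r d ∧ x' ∈ H.map (omegaGL (⇑Q)).subtype := by
  have hgI : (g : GL I9 F) ∈ isometryGroup F (⇑Q) := omegaGL_le g.2
  refine ⟨(g : GL I9 F) * x * (g : GL I9 F)⁻¹, hx.conj hgI, ?_⟩
  exact mem_map_conj hg

theorem conj_belt {y u : GL I9 F} {r d p : ℕ} (hb : BElt Q y u r d p) (hrp : r ≠ p) {g : ↥(omegaGL (⇑Q))}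
    {hyu : y * u ∈ omegaGL (⇑Q)} {H : Subgroup ↥(omegaGL (⇑Q))} (hg : g * ⟨y * u, hyu⟩ * g⁻¹ ∈ H) :
    ∃ y' u' : GL I9 F, BElt Q y' u' r d p ∧ y' ∈ H.map (omegaGL (⇑Q)).subtype ∧
      u' ∈ H.map (omegaGL (⇑Q)).subtype := by
  have hgI : (g : GL I9 F) ∈ isometryGroup F (⇑Q) := omegaGL_le g.2
  have h1 : (g : GL I9 F) * (y * u) * (g : GL I9 F)⁻¹ ∈ H.map (omegaGL (⇑Q)).subtype := mem_map_conj hg
  have h3 : (g : GL I9 F) * (y * u) * (g : GL I9 F)⁻¹ = ((g : GL I9 F) * y * (g : GL I9 F)⁻¹) *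
    ((g : GL I9 F) * u * (g : GL I9 F)⁻¹) := by group
  rw [h3] at h1
  have h4 := (hb.conj hgI).mem_of_mul hrp h1
  exact ⟨(g : GL I9 F) * y * (g : GL I9 F)⁻¹, (g : GL I9 F) * u * (g : GL I9 F)⁻¹, hb.conj hgI, h4.1, h4.2⟩

/-- **`Ω_9(q)` is not covered by two classes of proper subgroups**, from the list of its maximal subgroups -/
theorem noTwo_nine (hQ : Nondeg Q) (h2 : (2 : F) ≠ 0)
    (hΩ : ∀ (g : GL I9 F) (r : ℕ), g ∈ isometryGroup F (⇑Q) → Odd r → g ^ r = 1 → g ∈ omegaGL (⇑Q))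
    (hGeo : ∀ H : Subgroup (GL I9 F), IsMaximalIn (omegaGL (⇑Q)) H → GeoCases (⇑Q) H) :
    NoTwo ↥(omegaGL (⇑Q)) := by
  obtain ⟨p, a, hp, ha, hpa⟩ := exists_char F
  have hF : Fintype.card F = p ^ a := by rw [← Nat.card_eq_fintype_card]; exact hpa
  have hpf := Fact.mk hp
  have hch : CharP F p := charP_of_card_eq_prime_pow hF
  have hp2 : p ≠ 2 := by
    rintro rfl
    apply h2
    have := CharP.cast_eq_zero F 2
    exact_mod_cast this
  have hpa2 : p ^ a ≠ 2 := by
    intro h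
    have h3 : p ∣ 2 := by rw [← h]; exact dvd_pow_self p (by omega)
    exact hp2 ((Nat.prime_dvd_prime_iff_eq hp Nat.prime_two).1 h3)
  have hodd : Odd p := hp.odd_of_ne_two hp2
  obtain ⟨r8, hr8⟩ := exists_ppp (e := 8) hp ha (by norm_num) (by omega) (fun b hb => by omega)
  obtain ⟨r6, hr6⟩ := exists_ppp (e := 6) hp ha (by norm_num) (fun h => hpa2 h.1) (fun b hb => by omega)
  obtain ⟨r4, hr4⟩ := exists_ppp (e := 4) hp ha (by norm_num) (by omega) (fun b hb => by omega)
  have hr8q : PP (Nat.card F) 8 r8 := by rw [hpa]; exact hr8.of_pow ha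
  have hr6q : PP (Nat.card F) 6 r6 := by rw [hpa]; exact hr6.of_pow ha
  have hr4q : PP (Nat.card F) 4 r4 := by rw [hpa]; exact hr4.of_pow ha
  obtain ⟨x, hx⟩ := exists_a hQ card_nine h2 hr8q
  obtain ⟨y, u, hb⟩ := exists_b hQ card_nine h2 hr6q hp hch
  obtain ⟨z, hz⟩ := exists_c hQ card_nine h2 hr4q
  have n8 := num8 hr8 ha
  obtain ⟨n6, n6'⟩ := num6 hr6 ha
  obtain ⟨n4, n4'⟩ := num4 hr4 ha
  have hr6p : r6 ≠ p := by
    rintro rfl
    exact hr6.not_dvd (by omega) dvd_rfl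
  have h86 : r8 ≠ r6 := hr8.ne_of_ne hr6 (by omega)
  have h84 : r8 ≠ r4 := hr8.ne_of_ne hr4 (by omega)
  have hxΩ : x ∈ omegaGL (⇑Q) := hΩ x r8 hx.mem (hr8q.odd (by norm_num)) hx.pow
  have hyΩ : y ∈ omegaGL (⇑Q) := hΩ y r6 hb.elt.mem (hr6q.odd (by norm_num)) hb.elt.pow
  have huΩ : u ∈ omegaGL (⇑Q) := hΩ u p hb.mem hodd hb.pow
  have hzΩ : z ∈ omegaGL (⇑Q) := hΩ z r4 hz.mem (hr4q.odd (by norm_num)) hz.pow
  have hbd : ∀ r : ℕ, r.Prime → r ≠ 2 → r ≠ 3 → r ∣ 2 ^ 5 * (3 ^ 2 * 17) → r = 17 := by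
    intro r hr hr2 hr3 h
    rcases of_dvd_23 hr h with h | h | h
    · exact absurd h hr2
    · exact absurd h hr3
    · exact (Nat.prime_dvd_prime_iff_eq hr (by norm_num)).1 h
  have hyuΩ : y * u ∈ omegaGL (⇑Q) := Subgroup.mul_mem _ hyΩ huΩ
  refine noTwo_of_two (a := (⟨x, hxΩ⟩ : ↥(omegaGL (⇑Q)))) (b := ⟨y * u, hyuΩ⟩) ?_ ?_
  · -- incompatible
    intro H hH
    by_contra hcon
    push Not at hcon
    obtain ⟨ha', hb'⟩ := hcon
    obtain ⟨g, hg⟩ := not_av ha'
    obtain ⟨k, hk⟩ := not_av hb'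
    obtain ⟨x', hx', hxM⟩ := conj_elt hx hg
    obtain ⟨y', u', hb'', hyM, huM⟩ := conj_belt hb hr6p hk
    rcases over_a hQ (hGeo _ (isMaximalIn_map hH)) hp ha hF hr8 hx' hxM with ⟨W, hW8, hWn, -, hle⟩ | ⟨h17, hB⟩
    · exact hb''.not_eight hQ hr6q (by norm_num) hW8 hWn (hle hyM) (hle huM)
    · have h1 := hbd r6 hr6.prime (by omega) (by omega)
        (hB y' r6 hyM (hb''.elt.not_scalar (by rw [card_nine]; norm_num)) hr6.prime hb''.elt.pow)
      exact h86 (h17.trans h1.symm)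
  · intro H K hH hK hxH hbK
    have hxM : x ∈ H.map (omegaGL (⇑Q)).subtype := ⟨_, hxH, rfl⟩
    have hyuM : y * u ∈ K.map (omegaGL (⇑Q)).subtype := ⟨_, hbK, rfl⟩
    obtain ⟨hyM, huM⟩ := hb.mem_of_mul hr6p hyuM
    have hA := over_a hQ (hGeo _ (isMaximalIn_map hH)) hp ha hF hr8 hx hxM
    have hB := over_b hQ (hGeo _ (isMaximalIn_map hK)) hp hp2 ha hF hr6 hb hyM huM
    rcases hB with ⟨W, hW, hleK⟩ | ⟨h3, hBK⟩
    · -- the third witness
      refine ⟨⟨z, hzΩ⟩, ?_, ?_⟩
      · intro g hg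
        obtain ⟨z', hz', hzM⟩ := conj_elt hz hg
        rcases hA with ⟨W', hW8, -, hWP, hleH⟩ | ⟨h17, hBH⟩
        · exact (not_c hQ hr4q hz' (hleH hzM)).1 ⟨hW8, hWP⟩
        · have h1 := hbd r4 hr4.prime (by omega) (by omega)
            (hBH z' r4 hzM (hz'.not_scalar (by rw [card_nine]; norm_num)) hr4.prime hz'.pow)
          exact h84 (h17.trans h1.symm)
      · intro g hg
        obtain ⟨z', hz', hzM⟩ := conj_elt hz hg
        obtain ⟨-, h4, h5⟩ := not_c hQ hr4q hz' (hleK hzM)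
        rcases hW with hW | hW
        · exact h4 hW
        · exact h5 hW
    · -- `q = 3`
      have hp3 : p = 3 := by
        have h4 : p ∣ 3 := by rw [← h3, hF]; exact dvd_pow_self p (by omega)
        exact (Nat.prime_dvd_prime_iff_eq hp Nat.prime_three).1 h4
      have hc3 : Nat.card F = 3 := by rw [Nat.card_eq_fintype_card, h3]
      have h13 : PP (Nat.card F) 3 13 := by
        rw [hc3]
        refine ⟨by norm_num, ?_⟩
        have : Fact (Nat.Prime 3) := ⟨Nat.prime_three⟩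
        exact orderOf_eq_prime (by decide) (by decide)
      rcases hA with ⟨W', hW8, hWn, hWP, hleH⟩ | ⟨h17, hBH⟩
      · obtain ⟨y', u', hb'⟩ := exists_b3 hQ card_nine h2 h13 hp hch
        have hyΩ' : y' ∈ omegaGL (⇑Q) := hΩ y' 13 hb'.elt.mem (by decide) hb'.elt.pow
        have huΩ' : u' ∈ omegaGL (⇑Q) := hΩ u' p hb'.mem hodd hb'.pow
        refine ⟨⟨y' * u', Subgroup.mul_mem _ hyΩ' huΩ'⟩, ?_, ?_⟩
        · intro g hg
          obtain ⟨y'', u'', hb'', hyM', huM'⟩ := conj_belt hb' (by omega) hg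
          exact hb''.not_eight hQ h13 (by norm_num) hW8 hWn (hleH hyM') (hleH huM')
        · intro g hg
          obtain ⟨y'', u'', hb'', hyM', huM'⟩ := conj_belt hb' (by omega) hg
          have h4 := hBK y'' 13 hyM' (hb''.elt.not_scalar (by rw [card_nine]; norm_num)) (by norm_num) hb''.elt.pow
          have h5 := (Nat.Prime.dvd_factorial (by norm_num)).1 h4
          omega
      · exfalso
        have h4 := hr8q.ord
        rw [hc3, h17] at h4
        have h5 : ((3 : ℕ) : ZMod 17) ^ 8 = 1 := by rw [← h4]; exact pow_orderOf_eq_one _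
        exact absurd h5 (by decide)

end Cfsg.Agent.H781.Cov9
end
end

-- part: H248/Cov/Sp8
section
prune_inst 0x1402024004000000000800400001c4286000000000804008402004004804c0000000020a12001040000000400300040000000800040000004000000011800a08000000030000000020011800000000000000000000000000000000000000000000000000
set_option linter.all false
open scoped Cfsg.Agent.FastGrp

-- part: H248/Cov/Res
section
/-!
# S2499: elements of residual subgroups

* `mem_scalars_of_pow` : an element of prime order `r` of a residual subgroup with core `P` is a scalar if `r` does not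
  divide `|Aut (P / Z)|`;
* `mem_scalars_of_pairs` : an element `x` which has a common fixed vector with every element of order `r` of `P` is a
  scalar, if any two elements of order `r` of `P / Z` generate it or generate the same group.
-/

set_option autoImplicit false
set_option linter.unusedSectionVars false

namespace Cfsg.Agent.H248.Cov

open Cfsg Cfsg.Geo Matrix Module
open scoped MatrixGroups

universe u

section Res

variable {ι : Type} [Fintype ι] [DecidableEq ι] {F : Type u} [Field F] {H P : Subgroup (GL ι F)}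

/-- scalars in the core -/
abbrev ZP (P : Subgroup (GL ι F)) : Subgroup P := (scalars ι F).subgroupOf P

instance zp_normal (P : Subgroup (GL ι F)) : (ZP P).Normal :=
  inferInstanceAs ((scalars ι F).subgroupOf P).Normal

/-- conjugation on the core -/
def cjP (hc : IsResidualCore H P) (m : H) : P ≃* P where
  toFun x := ⟨m * x * (m : GL ι F)⁻¹, hc.normal m m.2 x x.2⟩
  invFun x := ⟨(m : GL ι F)⁻¹ * x * m, by
    have := hc.normal (m : GL ι F)⁻¹ (H.inv_mem m.2) x x.2
    rwa [inv_inv] at this⟩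
  left_inv x := Subtype.ext (by
    show (m : GL ι F)⁻¹ * (m * x * (m : GL ι F)⁻¹) * m = x
    group)
  right_inv x := Subtype.ext (by
    show (m : GL ι F) * ((m : GL ι F)⁻¹ * x * m) * (m : GL ι F)⁻¹ = x
    group)
  map_mul' x y := Subtype.ext (by
    show (m : GL ι F) * (x * y) * (m : GL ι F)⁻¹ =
      m * x * (m : GL ι F)⁻¹ * (m * y * (m : GL ι F)⁻¹)
    group)

theorem cjP_val (hc : IsResidualCore H P) (m : H) (x : P) :
    ((cjP hc m x : P) : GL ι F) = m * x * (m : GL ι F)⁻¹ := rfl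

theorem cjP_map (hc : IsResidualCore H P) (m : H) : (ZP P).map (cjP hc m).toMonoidHom = ZP P := by
  ext x
  constructor
  · rintro ⟨y, hy, rfl⟩
    exact scalars_normal.conj_mem _ hy m
  · intro hx
    refine ⟨(cjP hc m).symm x, ?_, (cjP hc m).apply_symm_apply x⟩
    show (m : GL ι F)⁻¹ * x * m ∈ scalars ι F
    have := scalars_normal.conj_mem _ (show (x : GL ι F) ∈ scalars ι F from hx) (m : GL ι F)⁻¹
    rwa [inv_inv] at this

/-- the action on the simple quotient -/
def act (hc : IsResidualCore H P) : H →* MulAut (P ⧸ ZP P) :=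
  MonoidHom.mk' (fun m => QuotientGroup.congr (ZP P) (ZP P) (cjP hc m) (cjP_map hc m)) (by
    intro a b
    ext x
    obtain ⟨y, rfl⟩ := QuotientGroup.mk_surjective x
    show (QuotientGroup.mk (cjP hc (a * b) y) : P ⧸ ZP P) = QuotientGroup.mk (cjP hc a (cjP hc b y))
    congr 1
    apply Subtype.ext
    rw [cjP_val, cjP_val, cjP_val, Subgroup.coe_mul]
    group)

theorem act_mk (hc : IsResidualCore H P) (m : H) (x : P) :
    act hc m (QuotientGroup.mk x) = QuotientGroup.mk (cjP hc m x) := rfl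

theorem ker_act (hc : IsResidualCore H P) {m : H} (hm : act hc m = 1) : (m : GL ι F) ∈ scalars ι F := by
  apply hc.centralizer_scalar m m.2
  intro x hx
  have h1 := congrArg (fun α : MulAut (P ⧸ ZP P) => α (QuotientGroup.mk ⟨x, hx⟩)) hm
  simp only [MulAut.one_apply] at h1
  rw [act_mk, eq_comm, QuotientGroup.eq] at h1
  have h2 : x⁻¹ * (m * x * (m : GL ι F)⁻¹) ∈ scalars ι F := h1
  have h3 := scalars_normal.conj_mem _ h2 x
  have e : x * (x⁻¹ * (m * x * (m : GL ι F)⁻¹)) * x⁻¹ = m * x * (m : GL ι F)⁻¹ * x⁻¹ := by group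
  rwa [e] at h3

/-- an element of prime order not dividing `|Aut (P / Z)|` is a scalar -/
theorem mem_scalars_of_pow (hc : IsResidualCore H P) {x : GL ι F} (hx : x ∈ H) {r : ℕ}
    (hr : r.Prime) (hxr : x ^ r = 1) (hd : ¬ r ∣ Nat.card (MulAut (P ⧸ ZP P))) : x ∈ scalars ι F := by
  have h1 : (⟨x, hx⟩ : H) ^ r = 1 := Subtype.ext hxr
  have h2 : act hc ⟨x, hx⟩ ^ r = 1 := by rw [← map_pow, h1, map_one]
  have h3 : act hc ⟨x, hx⟩ = 1 := by
    by_contra hne
    have := Fact.mk hr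
    have h4 := orderOf_eq_prime h2 hne
    exact hd (h4 ▸ orderOf_dvd_natCard _)
  exact ker_act hc h3

theorem eq_one_of_scalar [Fintype F] {x : GL ι F} (hx : x ∈ scalars ι F) {r : ℕ} (hr : r.Prime) (hxr : x ^ r = 1)
    (hd : ¬ r ∣ Fintype.card F - 1) : x = 1 :=
  Cfsg.Agent.H262.El.eq_one_of_coprime hr hxr (Cfsg.Agent.H262.El.scalar_pow_card hx) hd

theorem scalar_comm {z : GL ι F} (hz : z ∈ scalars ι F) (g : GL ι F) : z * g = g * z :=
  (Cfsg.Agent.H262.El.scalar_comm hz g).eq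

/-- two elements with a common fixed vector do not generate `P` modulo scalars -/
theorem closure_ne_top (hc : IsResidualCore H P) (hι : 2 ≤ Fintype.card ι) {s t : P} {v : ι → F} (hv : v ≠ 0)
    (hs : ((s : GL ι F) : Matrix ι ι F) *ᵥ v = v) (ht : ((t : GL ι F) : Matrix ι ι F) *ᵥ v = v) :
    Subgroup.closure {(QuotientGroup.mk s : P ⧸ ZP P), QuotientGroup.mk t} ≠ ⊤ := by
  intro htop
  set M : Subgroup P := Subgroup.closure {s, t} with hM
  have h1 : M.map (QuotientGroup.mk' (ZP P)) = ⊤ := by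
    rw [hM, MonoidHom.map_closure, Set.image_pair]
    exact htop
  have h2 : ∀ y : P, ∃ m ∈ M, ∃ z : GL ι F, z ∈ scalars ι F ∧ (y : GL ι F) = m * z := by
    intro y
    have h3 : (QuotientGroup.mk' (ZP P)) y ∈ M.map (QuotientGroup.mk' (ZP P)) := by rw [h1]; trivial
    obtain ⟨m, hm, hmy⟩ := h3
    have h4 : (m : P)⁻¹ * y ∈ ZP P := QuotientGroup.eq.1 hmy
    exact ⟨m, hm, (m : GL ι F)⁻¹ * y, h4, by rw [mul_inv_cancel_left]⟩
  -- elements of `M` fix `v`
  let S : Subgroup P :=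
    { carrier := {y | ((y : GL ι F) : Matrix ι ι F) *ᵥ v = v}
      mul_mem' := fun {a b} ha hb => by
        change (((a * b : P) : GL ι F) : Matrix ι ι F) *ᵥ v = v
        rw [Subgroup.coe_mul, Units.val_mul, ← Matrix.mulVec_mulVec, show ((b : GL ι F) : Matrix ι ι F) *ᵥ v = v from hb,
          show ((a : GL ι F) : Matrix ι ι F) *ᵥ v = v from ha]
      one_mem' := by
        change ((1 : GL ι F) : Matrix ι ι F) *ᵥ v = v
        rw [Units.val_one, Matrix.one_mulVec]
      inv_mem' := fun {a} ha => by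
        change (((a : GL ι F)⁻¹ : GL ι F) : Matrix ι ι F) *ᵥ v = v
        conv_lhs => rw [← show ((a : GL ι F) : Matrix ι ι F) *ᵥ v = v from ha]
        rw [Matrix.mulVec_mulVec, ← Units.val_mul, inv_mul_cancel, Units.val_one, Matrix.one_mulVec] }
  have hMS : M ≤ S := by
    rw [hM, Subgroup.closure_le]
    rintro y (rfl | rfl)
    · exact hs
    · exact ht
  have hPM : P ≤ S.map P.subtype := by
    refine hc.perfect.ge.trans ?_
    rw [Subgroup.commutator_le]
    intro y hy z hz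
    obtain ⟨m, hm, c, hc1, hc2⟩ := h2 ⟨y, hy⟩
    obtain ⟨n, hn, d, hd1, hd2⟩ := h2 ⟨z, hz⟩
    have hc2' : y = m * c := hc2
    have hd2' : z = n * d := hd2
    change y * z * y⁻¹ * z⁻¹ ∈ S.map P.subtype
    refine ⟨m * n * m⁻¹ * n⁻¹, ?_, ?_⟩
    · exact S.mul_mem (S.mul_mem (S.mul_mem (hMS hm) (hMS hn)) (S.inv_mem (hMS hm))) (S.inv_mem (hMS hn))
    · change ((m : GL ι F) * n * (m : GL ι F)⁻¹ * (n : GL ι F)⁻¹) = y * z * y⁻¹ * z⁻¹
      rw [hc2', hd2']
      have e1 : ((m : GL ι F) * c) * (n * d) * ((m : GL ι F) * c)⁻¹ * ((n : GL ι F) * d)⁻¹ =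
          m * (c * (n * (d * c⁻¹))) * (m : GL ι F)⁻¹ * d⁻¹ * (n : GL ι F)⁻¹ := by
        group
      rw [e1]
      have e2 : c * ((n : GL ι F) * (d * c⁻¹)) = n * d := by
        rw [scalar_comm hc1, mul_assoc, mul_assoc, inv_mul_cancel, mul_one]
      rw [e2]
      have e3 : (m : GL ι F) * (n * d) * (m : GL ι F)⁻¹ * d⁻¹ = m * n * (m : GL ι F)⁻¹ := by
        have e4 : d * (m : GL ι F)⁻¹ = (m : GL ι F)⁻¹ * d := scalar_comm hd1 _
        calc (m : GL ι F) * (n * d) * (m : GL ι F)⁻¹ * d⁻¹ = m * n * (d * (m : GL ι F)⁻¹) * d⁻¹ := by group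
          _ = _ := by rw [e4]; group
      rw [e3]
  have hPv : ∀ g ∈ P, (g : Matrix ι ι F) *ᵥ v = v := by
    intro g hg
    obtain ⟨y, hy, rfl⟩ := hPM hg
    exact hy
  rcases hc.absIrred.1 (Submodule.span F {v}) (by
    rintro _ ⟨g, hg, rfl⟩
    rw [Submodule.map_span_le]
    rintro w rfl
    rw [Matrix.toLin'_apply, hPv g hg]
    exact Submodule.mem_span_singleton_self _) with h | h
  · exact hv (Submodule.span_singleton_eq_bot.1 h)
  · have h3 := finrank_span_singleton (K := F) hv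
    rw [h, finrank_top, Module.finrank_fintype_fun_eq_card] at h3
    omega

/-- **elements which have fixed vectors in common with the elements of order `r`** -/
theorem mem_scalars_of_pairs [Fintype F] (hc : IsResidualCore H P) (hι : 2 ≤ Fintype.card ι) {r : ℕ} (hr : r.Prime)
    (hrq : ¬ r ∣ Fintype.card F - 1) (hex : ∃ t : P, t ^ r = 1 ∧ t ≠ 1)
    (hdick : ∀ s t : P ⧸ ZP P, orderOf s = r → orderOf t = r →
      Subgroup.closure {s, t} = ⊤ ∨ Subgroup.zpowers s = Subgroup.zpowers t)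
    {x : GL ι F} (hx : x ∈ H)
    (hfix : ∀ t : P, t ^ r = 1 → ∃ v : ι → F, v ≠ 0 ∧ ((t : GL ι F) : Matrix ι ι F) *ᵥ v = v ∧ (x : Matrix ι ι F) *ᵥ v = v) :
    x ∈ scalars ι F := by
  have hrp := Fact.mk hr
  have hord : ∀ t : P, t ^ r = 1 → t ≠ 1 → orderOf (QuotientGroup.mk t : P ⧸ ZP P) = r := by
    intro t ht ht1
    refine orderOf_eq_prime ?_ ?_
    · rw [← QuotientGroup.mk_pow, ht, QuotientGroup.mk_one]
    · intro h
      have h1 : t ∈ ZP P := (QuotientGroup.eq_one_iff t).1 h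
      exact ht1 (Subtype.ext (eq_one_of_scalar (x := (t : GL ι F)) h1 hr (congrArg Subtype.val ht) hrq))
  let c : P ≃* P := cjP hc ⟨x, hx⟩
  have hcv : ∀ t : P, ((c t : P) : GL ι F) = x * t * x⁻¹ := fun t => rfl
  -- the key property
  have key : ∀ t : P, t ^ r = 1 → t ≠ 1 →
      Subgroup.zpowers (QuotientGroup.mk (c t) : P ⧸ ZP P) = Subgroup.zpowers (QuotientGroup.mk t : P ⧸ ZP P) := by
    intro t ht ht1
    have h1 : (c t) ^ r = 1 := by rw [← map_pow, ht, map_one]
    have h2 : c t ≠ 1 := fun h => ht1 (c.injective (h.trans (map_one c).symm))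
    obtain ⟨v, hv, hvt, hvx⟩ := hfix t ht
    have hxi : ((x⁻¹ : GL ι F) : Matrix ι ι F) *ᵥ v = v := by
      conv_lhs => rw [← hvx]
      rw [Matrix.mulVec_mulVec, ← Units.val_mul, inv_mul_cancel, Units.val_one, Matrix.one_mulVec]
    have h3 : (((c t : P) : GL ι F) : Matrix ι ι F) *ᵥ v = v := by
      rw [hcv, Units.val_mul, Units.val_mul, ← Matrix.mulVec_mulVec, ← Matrix.mulVec_mulVec, hxi, hvt, hvx]
    exact (hdick _ _ (hord _ h1 h2) (hord _ ht ht1)).resolve_left (closure_ne_top hc hι hv h3 hvt)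
  have hmap : ∀ (g a b : P), Subgroup.zpowers (QuotientGroup.mk a : P ⧸ ZP P) = Subgroup.zpowers (QuotientGroup.mk b) →
      Subgroup.zpowers (QuotientGroup.mk (g * a * g⁻¹) : P ⧸ ZP P) = Subgroup.zpowers (QuotientGroup.mk (g * b * g⁻¹)) := by
    intro g a b h
    have h1 := congrArg (Subgroup.map (MulAut.conj (QuotientGroup.mk g : P ⧸ ZP P)).toMonoidHom) h
    rw [MonoidHom.map_zpowers, MonoidHom.map_zpowers] at h1
    exact h1
  -- the normal subgroup
  have hT : ∀ (y t : P), t ^ r = 1 → t ≠ 1 → (y * t * y⁻¹) ^ r = 1 ∧ y * t * y⁻¹ ≠ 1 := by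
    intro y t ht ht1
    refine ⟨by rw [conj_pow, ht, mul_one, mul_inv_cancel], fun h => ht1 ?_⟩
    have : t = y⁻¹ * (y * t * y⁻¹) * y := by group
    rw [this, h]
    group
  let N : Subgroup P :=
    { carrier := {y | ∀ t : P, t ^ r = 1 → t ≠ 1 →
        Subgroup.zpowers (QuotientGroup.mk (y * t * y⁻¹) : P ⧸ ZP P) = Subgroup.zpowers (QuotientGroup.mk t)}
      mul_mem' := fun {a b} ha hb => by
        intro t ht ht1
        obtain ⟨h1, h2⟩ := hT b t ht ht1
        rw [show a * b * t * (a * b)⁻¹ = a * (b * t * b⁻¹) * a⁻¹ by group, ha _ h1 h2, hb t ht ht1]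
      one_mem' := fun t _ _ => by rw [one_mul, inv_one, mul_one]
      inv_mem' := fun {a} ha => by
        intro t ht ht1
        obtain ⟨h1, h2⟩ := hT a⁻¹ t ht ht1
        have h3 := ha _ h1 h2
        rw [show a * (a⁻¹ * t * a⁻¹⁻¹) * a⁻¹ = t by group] at h3
        exact h3.symm }
  have hNmem : ∀ y : P, y ∈ N ↔ ∀ t : P, t ^ r = 1 → t ≠ 1 →
        Subgroup.zpowers (QuotientGroup.mk (y * t * y⁻¹) : P ⧸ ZP P) = Subgroup.zpowers (QuotientGroup.mk t) := fun _ => Iff.rfl
  have hNn : N.Normal := by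
    refine ⟨fun y hy z => ?_⟩
    rw [hNmem]
    intro t ht ht1
    obtain ⟨h1, h2⟩ := hT z⁻¹ t ht ht1
    have h3 := hmap z _ _ (hy _ h1 h2)
    rw [show z * (z⁻¹ * t * z⁻¹⁻¹) * z⁻¹ = t by group] at h3
    rw [← h3]
    congr 2
    group
  have hZN : ZP P ≤ N := by
    intro z hz
    rw [hNmem]
    intro t _ _
    congr 2
    apply Subtype.ext
    change (z : GL ι F) * t * (z : GL ι F)⁻¹ = t
    rw [scalar_comm (show (z : GL ι F) ∈ scalars ι F from hz), mul_inv_cancel_right]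
  have hsim := hc.simple
  have hN : N ≤ ZP P := by
    have hNm : (N.map (QuotientGroup.mk' (ZP P))).Normal := hNn.map _ (QuotientGroup.mk'_surjective _)
    rcases hsim.eq_bot_or_eq_top_of_normal _ hNm with h | h
    · intro y hy
      have h1 : (QuotientGroup.mk' (ZP P)) y ∈ N.map (QuotientGroup.mk' (ZP P)) := ⟨y, hy, rfl⟩
      rw [h, Subgroup.mem_bot] at h1
      exact (QuotientGroup.eq_one_iff y).1 h1
    · exfalso
      have hNt : ∀ y : P, y ∈ N := by
        intro y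
        have h1 : (QuotientGroup.mk' (ZP P)) y ∈ N.map (QuotientGroup.mk' (ZP P)) := by rw [h]; trivial
        obtain ⟨m, hm, hmy⟩ := h1
        have h4 : (m : P)⁻¹ * y ∈ ZP P := QuotientGroup.eq.1 hmy
        have h5 := N.mul_mem hm (hZN h4)
        rwa [mul_inv_cancel_left] at h5
      obtain ⟨t, ht, ht1⟩ := hex
      have hzn : (Subgroup.zpowers (QuotientGroup.mk t : P ⧸ ZP P)).Normal := by
        refine ⟨fun z hz g => ?_⟩
        obtain ⟨y, rfl⟩ := QuotientGroup.mk_surjective g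
        have h1 := hNt y t ht ht1
        have h2 := hmap y t t rfl
        rw [← h1]
        obtain ⟨n, rfl⟩ := hz
        refine ⟨n, ?_⟩
        change (QuotientGroup.mk (y * t * y⁻¹) : P ⧸ ZP P) ^ n = QuotientGroup.mk y * (QuotientGroup.mk t) ^ n * (QuotientGroup.mk y)⁻¹
        rw [← conj_zpow]
        rfl
      rcases hsim.eq_bot_or_eq_top_of_normal _ hzn with h1 | h1
      · rw [Subgroup.zpowers_eq_bot] at h1
        have h2 := hord t ht ht1
        rw [h1, orderOf_one] at h2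
        exact hr.one_lt.ne h2
      · apply hc.nonabelian
        refine ⟨⟨fun a b => ?_⟩⟩
        have ha : a ∈ Subgroup.zpowers (QuotientGroup.mk t : P ⧸ ZP P) := by rw [h1]; trivial
        have hb : b ∈ Subgroup.zpowers (QuotientGroup.mk t : P ⧸ ZP P) := by rw [h1]; trivial
        obtain ⟨m, rfl⟩ := ha
        obtain ⟨n, rfl⟩ := hb
        exact (Commute.refl _).zpow_zpow m n
  apply hc.centralizer_scalar x hx
  intro y hy
  set y' : P := ⟨y, hy⟩ with hy'
  -- `y⁻¹ * x y x⁻¹` lies in `N`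
  have h1 : y'⁻¹ * c y' ∈ N := by
    rw [hNmem]
    intro t ht ht1
    set t1 : P := c.symm t with ht1'
    have a1 : t1 ^ r = 1 := by rw [ht1', ← map_pow, ht, map_one]
    have a2 : t1 ≠ 1 := fun h => ht1 (c.symm.injective (h.trans (map_one _).symm))
    obtain ⟨a3, a4⟩ := hT y' t1 a1 a2
    have k1 := key _ a1 a2
    have k2 := key _ a3 a4
    have hct : c t1 = t := c.apply_symm_apply t
    rw [hct] at k1
    have k3 := hmap y'⁻¹ _ _ k2
    rw [show y'⁻¹ * (y' * t1 * y'⁻¹) * y'⁻¹⁻¹ = t1 by group, ← k1, map_mul, map_mul, map_inv, hct] at k3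
    rw [← k3]
    congr 2
    group
  have h2 : (y⁻¹ : GL ι F) * (x * y * x⁻¹) ∈ scalars ι F := hN h1
  have h3 := scalars_normal.conj_mem _ h2 y
  rwa [show y * (y⁻¹ * (x * y * x⁻¹)) * y⁻¹ = x * y * x⁻¹ * y⁻¹ by group] at h3

end Res

end Cfsg.Agent.H248.Cov
end

-- part: H248/Cov/SpTools
section
/-!
# S2499, symplectic rows: tools

* `od_of_pp`, `exists_r8` : primes;
* `nd_fixS` : the fixed space of a semisimple element is non-degenerate;
* `no_tv_psl2` : no transvection lies in a residual subgroup of `Sp_8(q)` with core of type `PSL_2(q ^ 3)`.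
-/

set_option autoImplicit false
set_option linter.unusedSectionVars false

namespace Cfsg.Agent.H248.Cov

open Cfsg Cfsg.Geo Matrix Module
open Cfsg.Agent.ClassicalGeometry.SympBasic Cfsg.Agent.H876 Cfsg.Agent.H931
open Cfsg.Agent.H262.El
open Cfsg.Agent.H884.El (PP)
open scoped MatrixGroups

universe u

theorem od_of_pp {p a n r q : ℕ} (hq : q = p ^ a) (ha : 1 ≤ a) (hn : 1 ≤ n) (h : PP p (a * n) r) : Od q n r := by
  have h1 := Cfsg.Agent.H884.El.PP.of_pow h ha
  rw [← hq] at h1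
  exact ⟨h1.prime, h1.ord, h1.not_dvd hn⟩

theorem ord_193 : orderOf ((3 : ℕ) : ZMod 193) = 16 := by
  have h1 : orderOf ((3 : ℕ) : ZMod 193) = 2 ^ (3 + 1) := by
    have : Fact (Nat.Prime 2) := ⟨Nat.prime_two⟩
    apply orderOf_eq_prime_pow
    · decide
    · decide
  rw [h1]
  norm_num

theorem ord_17 : orderOf ((3 : ℕ) : ZMod 17) = 16 := by
  have h1 : orderOf ((3 : ℕ) : ZMod 17) = 2 ^ (3 + 1) := by
    have : Fact (Nat.Prime 2) := ⟨Nat.prime_two⟩
    apply orderOf_eq_prime_pow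
    · decide
    · decide
  rw [h1]
  norm_num

theorem exists_r8 {p a : ℕ} (hp : p.Prime) (ha : 1 ≤ a) : ∃ r, PP p (a * 8) r ∧ (r = 17 → p ≠ 3) := by
  by_cases h : p = 3 ∧ a = 2
  · obtain ⟨rfl, rfl⟩ := h
    exact ⟨193, ⟨by norm_num, ord_193⟩, fun h => absurd h (by norm_num)⟩
  · obtain ⟨r, hr⟩ := Cfsg.Agent.H884.El.exists_ppp hp ha (show 3 ≤ 8 by norm_num) (by omega) (fun b hb => by omega)
    refine ⟨r, hr, ?_⟩
    rintro rfl rfl
    have h1 := hr.ord
    rw [ord_17] at h1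
    exact h ⟨rfl, by omega⟩

theorem exists_r6 {p a : ℕ} (hp : p.Prime) (hp2 : p ≠ 2) (ha : 1 ≤ a) : ∃ r, PP p (a * 6) r :=
  Cfsg.Agent.H884.El.exists_ppp hp ha (show 3 ≤ 6 by norm_num) (by
    rintro ⟨h1, -⟩
    have h2 : p ∣ 2 := by
      rw [← h1]
      exact dvd_pow_self p (by omega)
    exact hp2 ((Nat.prime_dvd_prime_iff_eq hp Nat.prime_two).1 h2)) (fun b hb => by omega)

theorem exists_r4 {p a : ℕ} (hp : p.Prime) (ha : 1 ≤ a) : ∃ r, PP p (a * 4) r :=
  Cfsg.Agent.H884.El.exists_ppp hp ha (show 3 ≤ 4 by norm_num) (by omega) (fun b hb => by omega)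

section Fix

variable {F : Type u} [Field F] [Fintype F] {m : ℕ}

/-- the fixed space of an element of order prime to the characteristic is nondegenerate -/
theorem nd_fixS {x : GL (Fin m ⊕ Fin m) F} (hx : x ∈ spGL m F) {r : ℕ} (hr : (r : F) ≠ 0) (hxr : x ^ r = 1) :
    IsNondegenerateOn (sympForm m F) (fixS x) := by
  intro w hw hw0
  have hfk : ∀ k : ℕ, ∀ u, sympForm m F (((x ^ k : GL (Fin m ⊕ Fin m) F) : Matrix (Fin m ⊕ Fin m) (Fin m ⊕ Fin m) F) *ᵥ u) w =
      sympForm m F u w := by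
    intro k
    induction k with
    | zero => intro u; simp
    | succ k ih =>
      intro u
      rw [pow_mulVec, ih]
      conv_lhs => rw [← mem_fixS.1 hw]
      exact mem_spGL_iff.1 hx u w
  obtain ⟨u, hu⟩ : ∃ u, sympForm m F u w ≠ 0 := by
    by_contra hcon
    push Not at hcon
    exact hw0 (eq_zero_of_forall_sympForm_left hcon)
  set s : Fin m ⊕ Fin m → F := ∑ k ∈ Finset.range r, ((x ^ k : GL (Fin m ⊕ Fin m) F) : Matrix (Fin m ⊕ Fin m) (Fin m ⊕ Fin m) F) *ᵥ u with hs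
  have hsx : s ∈ fixS x := by
    rw [mem_fixS, hs, Matrix.mulVec_sum]
    have h1 : ∀ k : ℕ, (x : Matrix (Fin m ⊕ Fin m) (Fin m ⊕ Fin m) F) *ᵥ (((x ^ k : GL (Fin m ⊕ Fin m) F) :
        Matrix (Fin m ⊕ Fin m) (Fin m ⊕ Fin m) F) *ᵥ u) =
        ((x ^ (k + 1) : GL (Fin m ⊕ Fin m) F) : Matrix (Fin m ⊕ Fin m) (Fin m ⊕ Fin m) F) *ᵥ u := by
      intro k
      rw [Matrix.mulVec_mulVec, ← Units.val_mul, pow_succ']
    simp only [h1]
    have h2 := Finset.sum_range_succ' (fun k => ((x ^ k : GL (Fin m ⊕ Fin m) F) : Matrix (Fin m ⊕ Fin m) (Fin m ⊕ Fin m) F) *ᵥ u) r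
    have h3 := Finset.sum_range_succ (fun k => ((x ^ k : GL (Fin m ⊕ Fin m) F) : Matrix (Fin m ⊕ Fin m) (Fin m ⊕ Fin m) F) *ᵥ u) r
    rw [h3] at h2
    simp only [hxr, pow_zero] at h2
    exact (add_right_cancel h2).symm
  have hsw : sympForm m F s w ≠ 0 := by
    have hsum : ∀ t : Finset ℕ, sympForm m F (∑ k ∈ t, ((x ^ k : GL (Fin m ⊕ Fin m) F) : Matrix (Fin m ⊕ Fin m) (Fin m ⊕ Fin m) F) *ᵥ u) w =
        ∑ k ∈ t, sympForm m F (((x ^ k : GL (Fin m ⊕ Fin m) F) : Matrix (Fin m ⊕ Fin m) (Fin m ⊕ Fin m) F) *ᵥ u) w := by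
      intro t
      induction t using Finset.induction_on with
      | empty => simp
      | insert a t ha ih => rw [Finset.sum_insert ha, Finset.sum_insert ha, sympForm_add_left, ih]
    rw [hs, hsum, Finset.sum_congr rfl fun k _ => hfk k u, Finset.sum_const, Finset.card_range, nsmul_eq_mul]
    exact mul_ne_zero hr hu
  refine ⟨⟨s, hsx, hsw⟩, ⟨s, hsx, ?_⟩⟩
  rw [sympForm_swap]
  exact neg_ne_zero.2 hsw

/-- a small invariant subspace is fixed -/
theorem le_fixS {n r : ℕ} (h : Od (Fintype.card F) n r) {ι : Type} [Fintype ι] [DecidableEq ι] {x : GL ι F} (hx : x ^ r = 1)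
    {W : Submodule F (ι → F)} (hW : ∀ v ∈ W, (x : Matrix ι ι F) *ᵥ v ∈ W) (hd : finrank F W < n) : W ≤ fixS x := by
  have e1 := finrank_inv h hx W hW
  have e2 : finrank F W - finrank F (W ⊓ fixS x : Submodule F _) = 0 := by
    by_contra h0
    have := Nat.le_of_dvd (by omega) e1
    omega
  have e3 : W ⊓ fixS x = W := Submodule.eq_of_le_of_finrank_le inf_le_left (by omega)
  rw [← e3]
  exact inf_le_right

/-- a transvection fixes a hyperplane -/
theorem tv_finrank {ι : Type} [Fintype ι] [DecidableEq ι] {x : GL ι F} (hx : IsTv x) :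
    Fintype.card ι ≤ Module.finrank F (fixS x) + 1 := by
  obtain ⟨u, w, hu, hw, huw, h⟩ := hx
  have hgv : ∀ v, (x : Matrix ι ι F) *ᵥ v = v + (w ⬝ᵥ v) • u := fun v => Cfsg.Agent.H918.IsRankOneElt.mulVec h v
  have h1 : LinearMap.ker (dp w) ≤ fixS x := by
    intro v hv
    rw [LinearMap.mem_ker, dp_apply] at hv
    rw [mem_fixS, hgv, hv, zero_smul, add_zero]
  have h2 := LinearMap.finrank_range_add_finrank_ker (dp w)
  rw [Module.finrank_fintype_fun_eq_card] at h2
  have h3 : Module.finrank F (LinearMap.range (dp w)) ≤ 1 := by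
    have := Submodule.finrank_le (LinearMap.range (dp w))
    rwa [Module.finrank_self] at this
  have h4 := Submodule.finrank_mono h1
  omega

theorem tv_not_scalar {ι : Type} [Fintype ι] [DecidableEq ι] (hι : 2 ≤ Fintype.card ι) {x : GL ι F} (hx : IsTv x) :
    x ∉ scalars ι F := by
  intro hs
  have h1 := tv_finrank hx
  obtain ⟨u, w, hu, hw, huw, h⟩ := hx
  have hgv : ∀ v, (x : Matrix ι ι F) *ᵥ v = v + (w ⬝ᵥ v) • u := fun v => Cfsg.Agent.H918.IsRankOneElt.mulVec h v
  obtain ⟨c, hc⟩ := (mem_scalars_iff x).1 hs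
  have h2 : (x : Matrix ι ι F) *ᵥ u = u := by rw [hgv, huw, zero_smul, add_zero]
  have h3 : (c : F) = 1 := by
    rw [hc, Matrix.smul_mulVec, Matrix.one_mulVec] at h2
    have h4 : ((c : F) - 1) • u = 0 := by rw [sub_smul, one_smul, h2, sub_self]
    exact sub_eq_zero.1 ((smul_eq_zero.1 h4).resolve_right hu)
  obtain ⟨v, hv⟩ : ∃ v, w ⬝ᵥ v ≠ 0 := by
    by_contra hcon
    push Not at hcon
    exact hw (dotProduct_eq_zero w hcon)
  have h4 := hgv v
  rw [hc, h3, one_smul, Matrix.one_mulVec, left_eq_add] at h4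
  exact smul_ne_zero hv hu h4

/-- the fixed space of an element of order `r` of `Sp_8(q)`, `q` of order 6 modulo `r` -/
theorem two_le_fixS {r : ℕ} (h : Od (Fintype.card F) 6 r) {ι : Type} [Fintype ι] [DecidableEq ι]
    (hι : Fintype.card ι = 8) {x : GL ι F} (hx : x ^ r = 1) : 2 ≤ Module.finrank F (fixS x) := by
  have h1 := finrank_fixS h hx
  rw [hι] at h1
  have h2 : Module.finrank F (fixS x) ≤ 8 := by
    have := Submodule.finrank_le (fixS x)
    rwa [Module.finrank_fintype_fun_eq_card, hι] at this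
  omega

theorem fixS_eq_two {r : ℕ} (h : Od (Fintype.card F) 6 r) {ι : Type} [Fintype ι] [DecidableEq ι]
    (hι : Fintype.card ι = 8) {x : GL ι F} (hx : x ^ r = 1) (hx1 : x ≠ 1) : Module.finrank F (fixS x) = 2 := by
  have h1 := finrank_fixS h hx
  have h2 := finrank_fixS_lt (F := F) hx1
  rw [hι] at h1 h2
  omega

end Fix

section Tv

variable {F : Type u} [Field F] [Fintype F] {ι : Type} [Fintype ι] [DecidableEq ι]

/-- **no transvection in a residual subgroup with core `PSL_2(q ^ 3)`, dimension 8** -/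
theorem no_tv_psl2 {p a : ℕ} [hp : Fact p.Prime] [CharP F p] (hp2 : p ≠ 2) (ha : 1 ≤ a) (hF : Fintype.card F = p ^ a)
    (hι : Fintype.card ι = 8) {H P : Subgroup (GL ι F)} (hc : IsResidualCore H P) {K : Type*} [Field K] [Fintype K]
    (hK : Fintype.card K = Fintype.card F ^ 3) (e : (P ⧸ ZP P) ≃* Matrix.ProjectiveSpecialLinearGroup (Fin 2) K)
    {x : GL ι F} (hx : x ∈ H) (hxt : IsTv x) : False := by
  have hfinP : Finite P := inferInstance
  obtain ⟨r, hr⟩ := exists_r6 hp.out hp2 ha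
  have hod := od_of_pp hF ha (by norm_num) hr
  have hrp := Fact.mk hr.prime
  have hKp : Fintype.card K = p ^ (3 * a) := by rw [hK, hF, ← pow_mul, mul_comm]
  have hchar : CharP K p := charP_of_card_eq_prime_pow hKp
  have hr' : PP p (2 * (3 * a)) r := by
    rwa [show 2 * (3 * a) = a * 6 by ring]
  have h7 : 7 ≤ r := by
    have := hod.lt
    omega
  apply tv_not_scalar (by rw [hι]; norm_num) hxt
  have hrq : ¬ r ∣ Fintype.card F - 1 := by
    intro h
    have h1 := (hod.dvd_iff Fintype.card_pos 1).1 (by rwa [pow_one])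
    have := Nat.le_of_dvd one_pos h1
    omega
  refine mem_scalars_of_pairs hc (by rw [hι]; norm_num) hr.prime hrq ?_ ?_ hx ?_
  · have h1 : r ∣ Nat.card (P ⧸ ZP P) := by
      rw [Nat.card_congr e.toEquiv]
      have h2 := Cfsg.Agent.H394.SqPsl2.card_psl (F := K)
      have h3 : r ∣ Fintype.card K * (Fintype.card K ^ 2 - 1) := by
        apply Dvd.dvd.mul_left
        rw [hKp, ← pow_mul, hr'.dvd_iff hp.out.one_lt.le]
        exact ⟨1, by ring⟩
      rw [← h2] at h3
      rcases hr.prime.dvd_mul.1 h3 with h4 | h4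
      · have h5 := Nat.le_of_dvd (by norm_num) (h4.trans (Nat.gcd_dvd_left _ _))
        omega
      · exact h4
    have h2 : r ∣ Nat.card P := by
      rw [Subgroup.card_eq_card_quotient_mul_card_subgroup (ZP P)]
      exact Dvd.dvd.mul_right h1 _
    obtain ⟨t, ht⟩ := exists_prime_orderOf_dvd_card' r h2
    refine ⟨t, by rw [← ht, pow_orderOf_eq_one], ?_⟩
    rintro rfl
    rw [orderOf_one] at ht
    exact hr.prime.one_lt.ne ht
  · intro s t hs ht
    rcases dickson_pp hKp (by omega) hr' h7 (x := e s) (y := e t) (by rw [MulEquiv.orderOf_eq, hs])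
      (by rw [MulEquiv.orderOf_eq, ht]) with h | h
    · left
      have h1 : (Subgroup.closure {s, t}).map e.toMonoidHom = ⊤ := by
        rw [MonoidHom.map_closure, Set.image_pair]
        exact h
      rw [eq_top_iff]
      intro z _
      have h2 : e z ∈ (Subgroup.closure {s, t}).map e.toMonoidHom := by rw [h1]; trivial
      obtain ⟨z', hz', hzz⟩ := h2
      rwa [← e.injective hzz]
    · right
      have h2 := congrArg (Subgroup.map e.symm.toMonoidHom) h
      rw [MonoidHom.map_zpowers, MonoidHom.map_zpowers] at h2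
      simpa using h2
  · intro t ht
    have h1 := two_le_fixS hod hι (x := (t : GL ι F)) (congrArg Subtype.val ht)
    have h2 := tv_finrank hxt
    rw [hι] at h2
    have h3 := Submodule.finrank_sup_add_finrank_inf_eq (fixS (t : GL ι F)) (fixS x)
    have h4 : Module.finrank F (fixS (t : GL ι F) ⊔ fixS x : Submodule F (ι → F)) ≤ 8 := by
      have := Submodule.finrank_le (fixS (t : GL ι F) ⊔ fixS x)
      rwa [Module.finrank_fintype_fun_eq_card, hι] at this
    have h5 : fixS (t : GL ι F) ⊓ fixS x ≠ ⊥ := by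
      intro h0
      rw [h0, finrank_bot] at h3
      omega
    obtain ⟨v, hv, hv0⟩ := (Submodule.ne_bot_iff _).1 h5
    exact ⟨v, hv0, mem_fixS.1 hv.1, mem_fixS.1 hv.2⟩

end Tv

end Cfsg.Agent.H248.Cov
end

-- part: H248/Cov/Zel
section
/-!
# S2499: the element `neg k + z` of `Sp_{2(k + 2)}(q)`, `q` odd

`exists_zel`: there is `c` in `Sp_{2(k+2)}(q)` no conjugate of which fixes a line or a non-degenerate 2-space or
normalises a quadratic field of self-adjoint matrices; a power of `c` has order `p` and another one order `r`.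
-/

set_option autoImplicit false
set_option linter.unusedSectionVars false

namespace Cfsg.Agent.H248.Cov

open Cfsg Cfsg.Geo Matrix Cfsg.Agent.ClassicalGeometry.SympBasic Module
open Cfsg.Agent.H262.El
open scoped MatrixGroups

universe u

section Grp

variable {G : Type*} [Group G]

theorem left_mem {M : Subgroup G} {x y : G} (hc : Commute x y) (hco : Nat.Coprime (orderOf x) (orderOf y))
    (h : x * y ∈ M) : x ∈ M := by
  have h1 : (x * y) ^ orderOf y = x ^ orderOf y := by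
    rw [hc.mul_pow, pow_orderOf_eq_one, mul_one]
  obtain ⟨m, hm⟩ := exists_pow_eq_self_of_coprime (x := x) (n := orderOf y) hco.symm
  rw [← hm, ← h1]
  exact M.pow_mem (M.pow_mem h _) _

theorem right_mem {M : Subgroup G} {x y : G} (hc : Commute x y) (hco : Nat.Coprime (orderOf x) (orderOf y))
    (h : x * y ∈ M) : y ∈ M := by
  rw [hc.eq] at h
  exact left_mem hc.symm hco.symm h

end Grp

section Ord

variable {F : Type u} [Field F] [Fintype F]

theorem LM_pow {t : F} (ht : ∀ c : F, c * c - t * c + 1 ≠ 0) : L4 t ^ (Fintype.card F ^ 2 - 1) = 1 := by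
  classical
  let P : Polynomial F := Polynomial.X ^ 2 + Polynomial.C (-t) * Polynomial.X + Polynomial.C 1
  have hdeg : P.natDegree = 2 := by
    have : P = Polynomial.C 1 * Polynomial.X ^ 2 + Polynomial.C (-t) * Polynomial.X + Polynomial.C 1 := by
      simp only [P, _root_.map_neg, _root_.neg_mul, _root_.map_one, _root_.one_mul]
    rw [this]
    exact Polynomial.natDegree_quadratic one_ne_zero
  have hirr : Irreducible P := by
    rw [Polynomial.irreducible_iff_roots_eq_zero_of_degree_le_three (by omega) (by omega)]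
    by_contra h
    obtain ⟨c, hc⟩ := Multiset.exists_mem_of_ne_zero h
    have hc0 : P.eval c = 0 := (Polynomial.mem_roots'.1 hc).2
    apply ht c
    simp only [P, Polynomial.eval_add, Polynomial.eval_mul, Polynomial.eval_pow, Polynomial.eval_X,
      Polynomial.eval_C] at hc0
    linear_combination hc0
  have : Fact (Irreducible P) := ⟨hirr⟩
  have hP0 : P ≠ 0 := hirr.ne_zero
  have hf1 : Module.finrank F (AdjoinRoot P) = 2 := by
    rw [(AdjoinRoot.powerBasis hP0).finrank, AdjoinRoot.powerBasis_dim, hdeg]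
  have : FiniteDimensional F (AdjoinRoot P) := Module.finite_of_finrank_pos (by rw [hf1]; norm_num)
  have hfinA : Finite (AdjoinRoot P) := Module.finite_of_finite F
  have : Fintype (AdjoinRoot P) := Fintype.ofFinite _
  have hcard : Fintype.card (AdjoinRoot P) = Fintype.card F ^ 2 := by
    rw [Module.card_eq_pow_finrank (K := F) (V := AdjoinRoot P), hf1]
  have haeval : Polynomial.aeval (LM t) P = 0 := by
    have h3 : Polynomial.aeval (LM t) P = (LM t) ^ 2 + algebraMap F _ (-t) * LM t + algebraMap F _ 1 := by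
      simp only [P, map_add, map_mul, map_pow, Polynomial.aeval_X, Polynomial.aeval_C]
    rw [h3]
    apply Matrix.toLin'.injective
    apply LinearMap.ext
    intro v
    rw [Matrix.toLin'_apply, map_zero, LinearMap.zero_apply, Matrix.add_mulVec, Matrix.add_mulVec, sq,
      ← Matrix.mulVec_mulVec, ← Matrix.mulVec_mulVec]
    have h4 := L4_sq t v
    change LM t *ᵥ (LM t *ᵥ v) = t • (LM t *ᵥ v) - v at h4
    rw [h4, Algebra.algebraMap_eq_smul_one, Algebra.algebraMap_eq_smul_one, Matrix.smul_mulVec,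
      Matrix.smul_mulVec, Matrix.one_mulVec, Matrix.one_mulVec, neg_smul, one_smul]
    abel
  have hroot0 : AdjoinRoot.root P ≠ 0 := by
    intro h0
    have h1 : Polynomial.aeval (AdjoinRoot.root P) P = 0 := by
      rw [AdjoinRoot.aeval_eq, AdjoinRoot.mk_self]
    have h3 : Polynomial.aeval (AdjoinRoot.root P) P = (AdjoinRoot.root P) ^ 2 +
        algebraMap F _ (-t) * AdjoinRoot.root P + algebraMap F _ 1 := by
      simp only [P, map_add, map_mul, map_pow, Polynomial.aeval_X, Polynomial.aeval_C]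
    rw [h3, h0, map_one] at h1
    simp at h1
  have h1 := FiniteField.pow_card_sub_one_eq_one _ hroot0
  rw [hcard] at h1
  have h2 : AdjoinRoot.mk P (Polynomial.X ^ (Fintype.card F ^ 2 - 1) - 1) = 0 := by
    rw [map_sub, map_pow, map_one, AdjoinRoot.mk_X, h1, sub_self]
  obtain ⟨Q, hQ⟩ := AdjoinRoot.mk_eq_zero.1 h2
  have h3 := congrArg (Polynomial.aeval (LM t)) hQ
  rw [map_mul, haeval, zero_mul, map_sub, map_pow, Polynomial.aeval_X, map_one, sub_eq_zero] at h3
  apply Units.ext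
  rw [Units.val_pow_eq_pow_val, Units.val_one]
  exact h3

theorem U4_pow (t : F) (p : ℕ) [CharP F p] : U4 t ^ p = 1 := by
  have h1 : ∀ j : ℕ, ∀ v : Fin 2 ⊕ Fin 2 → F,
      ((U4 t ^ j : GL (Fin 2 ⊕ Fin 2) F) : Matrix (Fin 2 ⊕ Fin 2) (Fin 2 ⊕ Fin 2) F) *ᵥ v =
      v + (j : F) • ((U4 t : Matrix (Fin 2 ⊕ Fin 2) (Fin 2 ⊕ Fin 2) F) *ᵥ v - v) := by
    intro j
    induction j with
    | zero => intro v; simp
    | succ j ih =>
      intro v
      rw [pow_succ', Units.val_mul, ← Matrix.mulVec_mulVec, ih]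
      rw [Matrix.mulVec_add, Matrix.mulVec_smul, Matrix.mulVec_sub]
      have h2 : (U4 t : Matrix (Fin 2 ⊕ Fin 2) (Fin 2 ⊕ Fin 2) F) *ᵥ
          ((U4 t : Matrix (Fin 2 ⊕ Fin 2) (Fin 2 ⊕ Fin 2) F) *ᵥ v) =
          (U4 t : Matrix (Fin 2 ⊕ Fin 2) (Fin 2 ⊕ Fin 2) F) *ᵥ v +
            ((U4 t : Matrix (Fin 2 ⊕ Fin 2) (Fin 2 ⊕ Fin 2) F) *ᵥ v - v) := by
        rw [U4_mulVec, U4_mulVec]
        apply ext4 <;> simp only [_root_.Nat.succ_eq_add_one, _root_.Nat.reduceAdd, _root_.Fin.isValue, _root_.Sum.elim_inl, _root_.Matrix.cons_val_zero, _root_.Sum.elim_inr, _root_.Matrix.cons_val_one, _root_.Matrix.cons_val_fin_one, _root_.Pi.add_apply, _root_.Pi.sub_apply, _root_.add_sub_cancel_left, _root_.sub_self, _root_.add_zero]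
      rw [h2]
      push_cast
      module
  apply eq_of_mulVec
  intro v
  rw [h1, CharP.cast_eq_zero, zero_smul, add_zero, Units.val_one, Matrix.one_mulVec]

end Ord

section El

variable {F : Type u} [Field F] [Fintype F] {k : ℕ}

/-- invariant under `x` -/
theorem conj_stab {n : ℕ} {W : Submodule F (Fin n ⊕ Fin n → F)} {y x : GL (Fin n ⊕ Fin n) F}
    (h : y * x * y⁻¹ ∈ subspaceStabilizer W) :
    ∀ v ∈ W.comap (Matrix.toLin' (y : Matrix (Fin n ⊕ Fin n) (Fin n ⊕ Fin n) F)),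
      (x : Matrix (Fin n ⊕ Fin n) (Fin n ⊕ Fin n) F) *ᵥ v ∈ W.comap (Matrix.toLin' (y : Matrix (Fin n ⊕ Fin n) (Fin n ⊕ Fin n) F)) := by
  intro v hv
  rw [Submodule.mem_comap, Matrix.toLin'_apply] at hv ⊢
  have h1 := (Cfsg.Agent.H918.mem_subspaceStabilizer.1 h _).1 hv
  rw [Matrix.mulVec_mulVec, ← Units.val_mul, inv_mul_cancel_right, Units.val_mul, ← Matrix.mulVec_mulVec] at h1
  exact h1

theorem finrank_comap {n : ℕ} (W : Submodule F (Fin n ⊕ Fin n → F)) (y : GL (Fin n ⊕ Fin n) F) :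
    finrank F (W.comap (Matrix.toLin' (y : Matrix (Fin n ⊕ Fin n) (Fin n ⊕ Fin n) F))) = finrank F W := by
  have h1 : ∀ v, ((y⁻¹ : GL (Fin n ⊕ Fin n) F) : Matrix (Fin n ⊕ Fin n) (Fin n ⊕ Fin n) F) *ᵥ
      ((y : Matrix (Fin n ⊕ Fin n) (Fin n ⊕ Fin n) F) *ᵥ v) = v := by
    intro v
    rw [Matrix.mulVec_mulVec, ← Units.val_mul, inv_mul_cancel, Units.val_one, Matrix.one_mulVec]
  have h2 : ∀ v, (y : Matrix (Fin n ⊕ Fin n) (Fin n ⊕ Fin n) F) *ᵥ
      (((y⁻¹ : GL (Fin n ⊕ Fin n) F) : Matrix (Fin n ⊕ Fin n) (Fin n ⊕ Fin n) F) *ᵥ v) = v := by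
    intro v
    rw [Matrix.mulVec_mulVec, ← Units.val_mul, mul_inv_cancel, Units.val_one, Matrix.one_mulVec]
  refine LinearEquiv.finrank_eq
    { toFun := fun w => ⟨(y : Matrix (Fin n ⊕ Fin n) (Fin n ⊕ Fin n) F) *ᵥ w.1, by
        have := w.2
        rwa [Submodule.mem_comap, Matrix.toLin'_apply] at this⟩
      invFun := fun w => ⟨((y⁻¹ : GL (Fin n ⊕ Fin n) F) : Matrix (Fin n ⊕ Fin n) (Fin n ⊕ Fin n) F) *ᵥ w.1, by
        rw [Submodule.mem_comap, Matrix.toLin'_apply, h2]
        exact w.2⟩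
      map_add' := fun a b => Subtype.ext (by
        change (y : Matrix (Fin n ⊕ Fin n) (Fin n ⊕ Fin n) F) *ᵥ (a.1 + b.1) = _ + _
        exact Matrix.mulVec_add _ _ _)
      map_smul' := fun c a => Subtype.ext (by
        change (y : Matrix (Fin n ⊕ Fin n) (Fin n ⊕ Fin n) F) *ᵥ (c • a.1) = c • _
        exact Matrix.mulVec_smul _ _ _)
      left_inv := fun w => Subtype.ext (h1 w.1)
      right_inv := fun w => Subtype.ext (h2 w.1) }

/-- a fixed-point-free element of prime order -/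
theorem exists_neg {r : ℕ} (hk : 1 ≤ k) (hr : Od (Fintype.card F) (2 * k) r) :
    ∃ a ∈ spGL k F, a ^ r = 1 ∧ a ≠ 1 ∧
      ∀ v, (a : Matrix (Fin k ⊕ Fin k) (Fin k ⊕ Fin k) F) *ᵥ v = v → v = 0 := by
  have hfin : Finite (GL (Fin k ⊕ Fin k) F) := inferInstance
  have := Fact.mk hr.prime
  obtain ⟨g, hg⟩ := exists_prime_orderOf_dvd_card' (G := spGL k F) r (dvd_card_spGL hk hr dvd_rfl hk le_rfl)
  have hgr : (g : GL (Fin k ⊕ Fin k) F) ^ r = 1 := by
    rw [← Subgroup.coe_pow, ← hg, pow_orderOf_eq_one]; rfl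
  have hg1 : (g : GL (Fin k ⊕ Fin k) F) ≠ 1 := by
    intro h1
    have hg2 : g = 1 := Subtype.ext h1
    rw [hg2, orderOf_one] at hg
    exact hr.prime.one_lt.ne hg
  refine ⟨g, g.2, hgr, hg1, fun v hv => ?_⟩
  have h1 := finrank_fixS hr hgr
  have h2 := finrank_fixS_lt (F := F) hg1
  have hι : Fintype.card (Fin k ⊕ Fin k) = 2 * k := by simp only [_root_.Fintype.card_sum, _root_.Fintype.card_fin]; ring
  rw [hι] at h1 h2
  have h3 : finrank F (fixS (g : GL (Fin k ⊕ Fin k) F)) = 0 := by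
    by_contra h0
    have := Nat.le_of_dvd (by omega) h1
    omega
  have h4 := Submodule.finrank_eq_zero.1 h3
  have h5 : v ∈ fixS (g : GL (Fin k ⊕ Fin k) F) := mem_fixS.2 hv
  rwa [h4, Submodule.mem_bot] at h5

/-- the properties of the element `neg k + z` -/
structure Zel (k : ℕ) (F : Type u) [Field F] [Fintype F] (p r : ℕ) (c : GL (Fin (k + 2) ⊕ Fin (k + 2)) F) : Prop where
  mem : c ∈ spGL (k + 2) F
  field : ∀ y ∈ spGL (k + 2) F, ∀ K : Subalgebra F (Matrix (Fin (k + 2) ⊕ Fin (k + 2)) (Fin (k + 2) ⊕ Fin (k + 2)) F),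
    IsFieldSubalgebra 2 K → IsSelfAdjointFor (sympForm (k + 2) F) K → y * c * y⁻¹ ∉ subalgebraNormalizer K
  space : ∀ y ∈ spGL (k + 2) F, ∀ W : Submodule F (Fin (k + 2) ⊕ Fin (k + 2) → F), W ≠ ⊥ → finrank F W ≤ 2 →
    (finrank F W = 1 ∨ IsNondegenerateOn (sympForm (k + 2) F) W) → y * c * y⁻¹ ∉ subspaceStabilizer W
  p_dvd : p ∣ orderOf c
  r_dvd : r ∣ orderOf c

theorem conj_mulVec {n : ℕ} {y : GL (Fin n ⊕ Fin n) F} (v : Fin n ⊕ Fin n → F) :
    (y : Matrix (Fin n ⊕ Fin n) (Fin n ⊕ Fin n) F) *ᵥ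
      (((y⁻¹ : GL (Fin n ⊕ Fin n) F) : Matrix (Fin n ⊕ Fin n) (Fin n ⊕ Fin n) F) *ᵥ v) = v := by
  rw [Matrix.mulVec_mulVec, ← Units.val_mul, mul_inv_cancel, Units.val_one, Matrix.one_mulVec]

/-- self-adjointness of conjugate fields -/
theorem conj_sa {n : ℕ} {K : Subalgebra F (Matrix (Fin n ⊕ Fin n) (Fin n ⊕ Fin n) F)}
    (hsa : IsSelfAdjointFor (sympForm n F) K) {y : GL (Fin n ⊕ Fin n) F} (hy : y ∈ spGL n F) :
    IsSelfAdjointFor (sympForm n F) (K.map (H912.conjAlg y⁻¹ : Matrix (Fin n ⊕ Fin n) (Fin n ⊕ Fin n) F →ₐ[F]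
      Matrix (Fin n ⊕ Fin n) (Fin n ⊕ Fin n) F)) := by
  intro a ha u v
  rw [H159.PF.mem_map_conjAlg, inv_inv] at ha
  have h1 := hsa _ ha ((y : Matrix (Fin n ⊕ Fin n) (Fin n ⊕ Fin n) F) *ᵥ u)
    ((y : Matrix (Fin n ⊕ Fin n) (Fin n ⊕ Fin n) F) *ᵥ v)
  have h2 : ∀ x, ((y : Matrix (Fin n ⊕ Fin n) (Fin n ⊕ Fin n) F) * a *
      ((y⁻¹ : GL (Fin n ⊕ Fin n) F) : Matrix (Fin n ⊕ Fin n) (Fin n ⊕ Fin n) F)) *ᵥ
      ((y : Matrix (Fin n ⊕ Fin n) (Fin n ⊕ Fin n) F) *ᵥ x) =
      (y : Matrix (Fin n ⊕ Fin n) (Fin n ⊕ Fin n) F) *ᵥ (a *ᵥ x) := by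
    intro x
    have h3 : ((y⁻¹ : GL (Fin n ⊕ Fin n) F) : Matrix (Fin n ⊕ Fin n) (Fin n ⊕ Fin n) F) *ᵥ
        ((y : Matrix (Fin n ⊕ Fin n) (Fin n ⊕ Fin n) F) *ᵥ x) = x := by
      rw [Matrix.mulVec_mulVec, ← Units.val_mul, inv_mul_cancel, Units.val_one, Matrix.one_mulVec]
    rw [← Matrix.mulVec_mulVec, h3, ← Matrix.mulVec_mulVec]
  rw [h2, h2, mem_spGL.1 hy, mem_spGL.1 hy] at h1
  exact h1

/-- **existence of the element `neg k + z`** -/
theorem exists_zel {p r : ℕ} [hp : Fact p.Prime] [CharP F p] (hp2 : p ≠ 2) (hk : 2 ≤ k)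
    (hr : Od (Fintype.card F) (2 * k) r) :
    ∃ c : GL (Fin (k + 2) ⊕ Fin (k + 2)) F, Zel k F p r c := by
  have hFp : ∃ n : ℕ, 1 ≤ n ∧ Fintype.card F = p ^ n := by
    obtain ⟨n, -, hn⟩ := FiniteField.card F p
    exact ⟨n, n.pos, hn⟩
  obtain ⟨e, he, hF⟩ := hFp
  have h2 : (2 : F) ≠ 0 := by
    intro h0
    have h1 : p ∣ 2 := (CharP.cast_eq_zero_iff F p 2).1 (by exact_mod_cast h0)
    exact hp2 ((Nat.prime_dvd_prime_iff_eq hp.out Nat.prime_two).1 h1)
  obtain ⟨a, ha, har, ha1, hfix⟩ := exists_neg (by omega) hr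
  have hao : orderOf a = r := orderOf_eq_prime har ha1 (hp := ⟨hr.prime⟩)
  obtain ⟨t, ht⟩ := exists_t F
  have hr2 : r ≠ 2 := by
    have := hr.lt
    omega
  have hZ := zdata h2 (by rw [hao]; exact hr.prime.odd_of_ne_two hr2) ha1 hfix ht
  set g := blk k 2 F (a, 1) with hg
  set lam := blk k 2 F (1, L4 t) with hlam
  set w := blk k 2 F (1, U4 t) with hw
  have og : orderOf g = r := by
    rw [hg, orderOf_injective _ blk_injective, Prod.orderOf_mk, orderOf_one, Nat.lcm_one_right, hao]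
  have ol : orderOf lam ∣ Fintype.card F ^ 2 - 1 := by
    rw [hlam, orderOf_injective _ blk_injective, Prod.orderOf_mk, orderOf_one, Nat.lcm_one_left]
    exact orderOf_dvd_of_pow_eq_one (LM_pow ht)
  have ow : orderOf w = p := by
    rw [hw, orderOf_injective _ blk_injective, Prod.orderOf_mk, orderOf_one, Nat.lcm_one_left]
    refine orderOf_eq_prime (U4_pow t p) ?_
    intro h1
    have h3 := (U4_fix h2 ht (Pi.single (Sum.inr 0) 1)).1 (by rw [h1, Units.val_one, Matrix.one_mulVec])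
    simp at h3
  have hF1 : 1 ≤ Fintype.card F := Fintype.card_pos
  have hco1 : Nat.Coprime (orderOf g) (orderOf lam) := by
    rw [og, hr.prime.coprime_iff_not_dvd]
    intro h
    have h3 := (hr.dvd_iff hF1 2).1 (h.trans ol)
    have := Nat.le_of_dvd (by norm_num) h3
    omega
  have hpF : p ∣ Fintype.card F := by rw [hF]; exact dvd_pow_self p (by omega)
  have hpr : p ≠ r := by
    rintro rfl
    exact hr.ndvd hpF
  have hco2 : Nat.Coprime (orderOf g) (orderOf w) := by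
    rw [og, ow]
    exact (Nat.coprime_primes hr.prime hp.out).2 hpr.symm
  have hco3 : Nat.Coprime (orderOf lam) (orderOf w) := by
    rw [ow, Nat.coprime_comm, hp.out.coprime_iff_not_dvd]
    intro h
    have h3 : p ∣ Fintype.card F ^ 2 - 1 := h.trans ol
    have h4 : p ∣ Fintype.card F ^ 2 := hpF.trans (dvd_pow_self _ two_ne_zero)
    have h5 : 1 ≤ Fintype.card F ^ 2 := Nat.one_le_pow _ _ hF1
    have h6 : p ∣ 1 := by
      have := (Nat.dvd_sub h4 h3)
      rwa [show Fintype.card F ^ 2 - (Fintype.card F ^ 2 - 1) = 1 by omega] at this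
    exact hp.out.one_lt.ne' (Nat.dvd_one.1 h6)
  have cgl : Commute g lam := hZ.glam
  have cgw : Commute g w := hZ.gw
  have clw : Commute lam w := hZ.lamw
  have hcoglw : Nat.Coprime (orderOf (g * lam)) (orderOf w) := by
    rw [cgl.orderOf_mul_eq_mul_orderOf_of_coprime hco1]
    exact Nat.Coprime.mul_left hco2 hco3
  have cglw : Commute (g * lam) w := cgw.mul_left clw
  have hmem : ∀ M : Subgroup (GL (Fin (k + 2) ⊕ Fin (k + 2)) F), g * lam * w ∈ M → g ∈ M ∧ lam ∈ M ∧ w ∈ M := by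
    intro M h
    have h3 := left_mem cglw hcoglw h
    exact ⟨left_mem cgl hco1 h3, right_mem cgl hco1 h3, right_mem cglw hcoglw h⟩
  have hconj : ∀ (M : Subgroup (GL (Fin (k + 2) ⊕ Fin (k + 2)) F)) (y : GL (Fin (k + 2) ⊕ Fin (k + 2)) F),
      y * (g * lam * w) * y⁻¹ ∈ M → y * g * y⁻¹ ∈ M ∧ y * lam * y⁻¹ ∈ M ∧ y * w * y⁻¹ ∈ M := fun M y h =>
    hmem (M.comap (MulAut.conj y).toMonoidHom) h
  refine ⟨g * lam * w, ?_, ?_, ?_, ?_, ?_⟩
  · exact Subgroup.mul_mem _ (Subgroup.mul_mem _ (blk_mem ha (Subgroup.one_mem _))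
      (blk_mem (Subgroup.one_mem _) (L4_mem t))) (blk_mem (Subgroup.one_mem _) (U4_mem t))
  · intro y hy K hK hsa h
    obtain ⟨c1, c2, c3⟩ := hconj _ y h
    have hK' := H159.PF.conj_fieldSub hK y⁻¹
    have hne : Nonempty (Fin (k + 2) ⊕ Fin (k + 2)) := ⟨Sum.inl 0⟩
    refine hZ.not_field hK' (conj_sa hsa hy) ?_ ?_ ?_ <;> rw [H159.PF.mem_normalizer_conj, inv_inv]
    · exact c1
    · exact c2
    · exact c3
  · intro y hy W hW0 hW2 hW h
    obtain ⟨c1, c2, c3⟩ := hconj _ y h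
    set W' := W.comap (Matrix.toLin' (y : Matrix (Fin (k + 2) ⊕ Fin (k + 2)) (Fin (k + 2) ⊕ Fin (k + 2)) F)) with hW'
    have d1 : finrank F W' = finrank F W := finrank_comap W y
    have i1 := conj_stab c1
    have i2 := conj_stab c2
    have i3 := conj_stab c3
    have hgr : g ^ r = 1 := by rw [← og, pow_orderOf_eq_one]
    have hne : Nonempty (Fin (k + 2) ⊕ Fin (k + 2)) := ⟨Sum.inl 0⟩
    have e1 := finrank_inv hr hgr W' i1
    have e2 : finrank F W' - finrank F (W' ⊓ fixS g : Submodule F _) = 0 := by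
      by_contra h0
      have := Nat.le_of_dvd (by omega) e1
      omega
    have e3 : W' ⊓ fixS g = W' := Submodule.eq_of_le_of_finrank_le inf_le_left (by omega)
    have hW4 : W' ≤ V4 k F := by
      rw [← e3]
      intro v hv
      exact (hZ.fix v).2 (mem_fixS.1 hv.2)
    have hW'0 : W' ≠ ⊥ := by
      intro h0
      apply hW0
      rw [← Submodule.finrank_eq_zero (R := F), ← d1, h0, finrank_bot]
    have hC := hZ.C_le hW4 hW'0 i2 i3
    have hCd : finrank F (C2 k F) = 2 := by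
      obtain ⟨v, hv, hv0⟩ := (Submodule.ne_bot_iff _).1 hZ.C_ne
      have hle : finrank F (C2 k F) ≤ 2 := by
        have := Submodule.finrank_mono hC
        omega
      by_contra hne2
      have hpos : 0 < finrank F (C2 k F) := by
        rw [Nat.pos_iff_ne_zero, Ne, Submodule.finrank_eq_zero]
        exact hZ.C_ne
      have h1 : finrank F (C2 k F) = 1 := by omega
      have hlv : (lam : Matrix (Fin (k + 2) ⊕ Fin (k + 2)) (Fin (k + 2) ⊕ Fin (k + 2)) F) *ᵥ v ∈ C2 k F := by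
        rw [hZ.mem_C] at hv ⊢
        refine ⟨hZ.lam4 hv.1, ?_⟩
        rw [Matrix.mulVec_mulVec, ← Units.val_mul, ← hZ.lamw, Units.val_mul, ← Matrix.mulVec_mulVec, hv.2]
      obtain ⟨b, hb⟩ := (finrank_eq_one_iff_of_nonzero' (⟨v, hv⟩ : C2 k F) (by
        intro h; exact hv0 (congrArg Subtype.val h))).1 h1 ⟨_, hlv⟩
      apply hv0
      apply hZ.eq_zero ((hZ.mem_C v).1 hv).1 (a := 1) (b := b) one_ne_zero
      rw [one_smul]
      exact (congrArg Subtype.val hb).symm
    have hCW : C2 k F = W' := Submodule.eq_of_le_of_finrank_le hC (by omega)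
    have hd2 : finrank F W = 2 := by rw [← d1, ← hCW, hCd]
    rcases hW with hW | hW
    · omega
    · obtain ⟨x, hx, hx0⟩ := (Submodule.ne_bot_iff _).1 hW0
      obtain ⟨⟨z, hz, hzx⟩, -⟩ := hW x hx hx0
      apply hzx
      have hin : ∀ x ∈ W, ((y⁻¹ : GL (Fin (k + 2) ⊕ Fin (k + 2)) F) : Matrix (Fin (k + 2) ⊕ Fin (k + 2)) (Fin (k + 2) ⊕ Fin (k + 2)) F) *ᵥ x ∈ C2 k F := by
        intro x hx
        rw [hCW, hW', Submodule.mem_comap, Matrix.toLin'_apply, conj_mulVec]
        exact hx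
      have h5 := C2_ts (hin z hz) (hin x hx)
      rwa [mem_spGL.1 (Subgroup.inv_mem _ hy)] at h5
  · rw [← ow]
    exact orderOf_dvd_of_mem_zpowers (hmem (Subgroup.zpowers (g * lam * w)) (Subgroup.mem_zpowers _)).2.2
  · rw [← og]
    exact orderOf_dvd_of_mem_zpowers (hmem (Subgroup.zpowers (g * lam * w)) (Subgroup.mem_zpowers _)).1

end El

end Cfsg.Agent.H248.Cov
end

-- part: H248/Cov/Sp8
section
/-!
# S2499: `PSp_8(q)`, `q` odd

`noTwo_of_res` : `PSp_8(q)`, `q` odd, is not the union of the conjugates of two proper subgroups (from S5823 and S5824).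
-/

set_option autoImplicit false
set_option linter.unusedSectionVars false

namespace Cfsg.Agent.H248.Cov

open Cfsg Cfsg.Geo Matrix Module
open Cfsg.Agent.ClassicalGeometry.SympBasic Cfsg.Agent.H876 Cfsg.Agent.H931
open Cfsg.Agent.H262.El
open Cfsg.Agent.H884.El (PP)
open Cfsg.Agent.H278.Cov
open scoped MatrixGroups

universe u

/-- the conclusion of S5824 -/
def Res24 (F : Type u) [Field F] [Fintype F] (H : Subgroup (GL (Fin 4 ⊕ Fin 4) F)) : Prop :=
    ∃ (P : Subgroup (Matrix.GeneralLinearGroup (Fin 4 ⊕ Fin 4) F)) (p : ℕ), Cfsg.Geo.IsResidualCore H P ∧ p.Prime ∧ CharP F p ∧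
    ((Nonempty ((P ⧸ (Cfsg.Geo.scalars (Fin 4 ⊕ Fin 4) F).subgroupOf P) ≃* Matrix.ProjectiveSpecialLinearGroup (Fin 2) (ZMod 7)) ∧ Fintype.card F = p ∧ 5 ≤ p ∧ p ≠ 7) ∨
     (Nonempty ((P ⧸ (Cfsg.Geo.scalars (Fin 4 ⊕ Fin 4) F).subgroupOf P) ≃* alternatingGroup (Fin 6)) ∧ ((Fintype.card F = p ∧ (p % 20 = 1 ∨ p % 20 = 19 ∨ p % 20 = 9 ∨ p % 20 = 11)) ∨ (Fintype.card F = p ^ 2 ∧ p ≠ 2 ∧ p ≠ 3 ∧ (p % 5 = 2 ∨ p % 5 = 3)))) ∨
     (Nonempty ((P ⧸ (Cfsg.Geo.scalars (Fin 4 ⊕ Fin 4) F).subgroupOf P) ≃* Matrix.ProjectiveSpecialLinearGroup (Fin 2) (ZMod 17)) ∧ ((Fintype.card F = p ∧ (p % 17 = 1 ∨ p % 17 = 16 ∨ p % 17 = 2 ∨ p % 17 = 15 ∨ p % 17 = 4 ∨ p % 17 = 13 ∨ p % 17 = 8 ∨ p % 17 = 9)) ∨ (Fintype.card F = p ^ 2 ∧ (p % 17 = 3 ∨ p % 17 = 14 ∨ p % 17 = 5 ∨ p % 17 = 12 ∨ p % 17 = 6 ∨ p % 17 = 11 ∨ p % 17 = 7 ∨ p % 17 = 10)))) ∨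
     (Nonempty ((P ⧸ (Cfsg.Geo.scalars (Fin 4 ⊕ Fin 4) F).subgroupOf P) ≃* alternatingGroup (Fin 10)) ∧ Fintype.card F = 2) ∨
     (Nonempty ((P ⧸ (Cfsg.Geo.scalars (Fin 4 ⊕ Fin 4) F).subgroupOf P) ≃* Matrix.ProjectiveSpecialLinearGroup (Fin 2) F) ∧ 11 ≤ p) ∨
     ((∃ (K : Type) (_ : Field K) (_ : Fintype K), Fintype.card K = Fintype.card F ^ 3 ∧ Nonempty ((P ⧸ (Cfsg.Geo.scalars (Fin 4 ⊕ Fin 4) F).subgroupOf P) ≃* Matrix.ProjectiveSpecialLinearGroup (Fin 2) K)) ∧ Odd (Fintype.card F)))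

section Main

variable {F : Type u} [Field F] [Fintype F] {p a : ℕ}

theorem card_dvd_of_mem {ι : Type} [Fintype ι] [DecidableEq ι] {M : Subgroup (GL ι F)} {y : GL ι F} {r : ℕ}
    (hr : r.Prime) (hy : y ∈ M) (hyr : y ^ r = 1) (hy1 : y ≠ 1) : r ∣ Nat.card M := by
  have := Fact.mk hr
  have h1 : orderOf (⟨y, hy⟩ : M) = r := by
    rw [Subgroup.orderOf_mk]
    exact orderOf_eq_prime hyr hy1
  rw [← h1]
  exact orderOf_dvd_natCard _

/-- the geometric classes which contain elements of order `r`, `q` of order `d ≥ 6` modulo `r` -/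
theorem geo (hp : p.Prime) (ha : 1 ≤ a) (hF : Fintype.card F = p ^ a) (hodd : Odd (Fintype.card F)) {d r : ℕ} (hd : 6 ≤ d)
    (hr : PP p (a * d) r) {M : Subgroup (GL (Fin 4 ⊕ Fin 4) F)} (hM : IsMaximalIn (spGL 4 F) M)
    (hdvd : r ∣ Nat.card M) :
    (∃ W : Submodule F (Fin 4 ⊕ Fin 4 → F), W ≠ ⊥ ∧ IsTotallySingularFor (sympForm 4 F) W ∧ M ≤ subspaceStabilizer W) ∨
    (∃ W : Submodule F (Fin 4 ⊕ Fin 4 → F), W ≠ ⊥ ∧ IsNondegenerateOn (sympForm 4 F) W ∧ finrank F W < 4 ∧
      M ≤ subspaceStabilizer W) ∨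
    (∃ K : Subalgebra F (Matrix (Fin 4 ⊕ Fin 4) (Fin 4 ⊕ Fin 4) F), IsFieldSubalgebra 2 K ∧
      IsSelfAdjointFor (sympForm 4 F) K ∧ M ≤ subalgebraNormalizer K) ∨
    (∃ K : Subalgebra F (Matrix (Fin 4 ⊕ Fin 4) (Fin 4 ⊕ Fin 4) F), IsFieldSubalgebra 2 K ∧
      IsAdjointClosedFor (sympForm 4 F) K ∧ ¬ IsSelfAdjointFor (sympForm 4 F) K ∧ M ≤ subalgebraNormalizer K) ∨
    (∃ R : Subgroup (GL (Fin 4 ⊕ Fin 4) F), IsSymplecticTypeGroup 2 R ∧ ActsAbsolutelyIrreducibly (matrixSet R) ∧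
      Nat.card (Subgroup.center R) = 2 ∧ M ≤ subgroupNormalizer R) ∨
    InSymplecticResidualClass M := by
  have hι : Fintype.card (Fin 4 ⊕ Fin 4) = 8 := by simp
  have hq := Cfsg.Agent.H884.El.one_lt_q F
  have hFn : Nat.card F = p ^ a := by rw [Nat.card_eq_fintype_card, hF]
  have hrq : PP (Nat.card F) d r := by
    rw [hFn]
    exact Cfsg.Agent.H884.El.PP.of_pow hr ha
  have hrd := hrq.lt (by omega)
  have hnd := hrq.not_dvd (by omega)
  have hdec : ∀ (t k : ℕ) (D : Fin t → Submodule F (Fin 4 ⊕ Fin 4 → F)), k < 6 → t < 6 → IsMDecomposition k D →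
      ¬ M ≤ decompositionStabilizer D := by
    intro t k D hk ht hD hH
    have := Cfsg.Agent.H884.El.decomp_le hD hH hrq (by omega) hdvd
    omega
  rcases Cfsg.Agent.S5823.result M hM with ⟨W, h1, h2, rfl⟩ | ⟨W, h1, h2, h3, rfl⟩ | ⟨-, D, hD, rfl⟩ | ⟨D, hD, rfl⟩ |
    ⟨-, D, hD, -, rfl⟩ | ⟨K, h1, h2, -, rfl⟩ | ⟨-, K, h1, h2, h3, rfl⟩ | ⟨-, e, P, f₁, f₂, -, -, -, -, rfl⟩ |
    ⟨F₀, s, P, ζ, hs, hcard, -, -, rfl⟩ | ⟨p', R, -, -, -, h1, h2, -, -, h3, -, rfl⟩ | ⟨-, -, e, P, f₁, -, -, rfl⟩ |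
    ⟨h, -⟩ | h
  · exact Or.inl ⟨W, h1, h2, inf_le_left⟩
  · exact Or.inr (Or.inl ⟨W, h1, h2, h3, inf_le_left⟩)
  · exact absurd inf_le_left (hdec 4 2 D (by norm_num) (by norm_num) hD.decomp)
  · exact absurd inf_le_left (hdec 2 4 D (by norm_num) (by norm_num) hD.decomp)
  · exact absurd inf_le_left (hdec 2 4 D (by norm_num) (by norm_num) hD)
  · exact Or.inr (Or.inr (Or.inl ⟨K, h1, h2, inf_le_left⟩))
  · exact Or.inr (Or.inr (Or.inr (Or.inl ⟨K, h1, h2, h3, inf_le_left⟩)))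
  · exact (Cfsg.Agent.H884.El.kill_tensor e P inf_le_left (by norm_num) (by norm_num) (by rw [hι]) hrq
      (by rw [hι]; omega) hdvd).elim
  · exact (Cfsg.Agent.H884.El.kill_subfield inf_le_left hs (by rw [Nat.card_eq_fintype_card]; exact hcard) hp hFn hr
      (by rw [hι]; omega) (by omega) hdvd).elim
  · exact Or.inr (Or.inr (Or.inr (Or.inr (Or.inl ⟨R, h1, h2, h3, inf_le_left⟩))))
  · exfalso
    rcases Cfsg.Agent.H251.GeoCard.wreath e P hrq.prime hnd (hdvd.trans (Subgroup.card_dvd_of_le inf_le_left)) with h | h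
    · omega
    · have := Cfsg.Agent.H884.El.le_of_div hrq hq.le h
      omega
  · exact absurd hodd h
  · exact Or.inr (Or.inr (Or.inr (Or.inr (Or.inr h))))

theorem aut7 {s : ℕ} (hs : s.Prime)
    (h : s ∣ Nat.card (MulAut (Matrix.ProjectiveSpecialLinearGroup (Fin 2) (ZMod 7)))) : s = 2 ∨ s = 3 ∨ s = 7 := by
  have : Fact (Nat.Prime 7) := ⟨by norm_num⟩
  rcases dvd_mulAut (K := ZMod 7) (p := 7) (N := 1) (by rw [ZMod.card, pow_one]) (by norm_num) hs h with h1 | h1 | h1
  · exact absurd (Nat.dvd_one.1 h1) hs.ne_one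
  · exact Or.inr (Or.inr ((Nat.prime_dvd_prime_iff_eq hs (by norm_num)).1 h1))
  · have h2 : s ∣ 2 ^ 4 * 3 := h1
    rcases hs.dvd_mul.1 h2 with h3 | h3
    · exact Or.inl ((Nat.prime_dvd_prime_iff_eq hs Nat.prime_two).1 (hs.dvd_of_dvd_pow h3))
    · exact Or.inr (Or.inl ((Nat.prime_dvd_prime_iff_eq hs Nat.prime_three).1 h3))

theorem aut17 {s : ℕ} (hs : s.Prime)
    (h : s ∣ Nat.card (MulAut (Matrix.ProjectiveSpecialLinearGroup (Fin 2) (ZMod 17)))) : s = 2 ∨ s = 3 ∨ s = 17 := by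
  have : Fact (Nat.Prime 17) := ⟨by norm_num⟩
  rcases dvd_mulAut (K := ZMod 17) (p := 17) (N := 1) (by rw [ZMod.card, pow_one]) (by norm_num) hs h with h1 | h1 | h1
  · exact absurd (Nat.dvd_one.1 h1) hs.ne_one
  · exact Or.inr (Or.inr ((Nat.prime_dvd_prime_iff_eq hs (by norm_num)).1 h1))
  · have h2 : s ∣ 2 ^ 5 * 3 ^ 2 := h1
    rcases hs.dvd_mul.1 h2 with h3 | h3
    · exact Or.inl ((Nat.prime_dvd_prime_iff_eq hs Nat.prime_two).1 (hs.dvd_of_dvd_pow h3))
    · exact Or.inr (Or.inl ((Nat.prime_dvd_prime_iff_eq hs Nat.prime_three).1 (hs.dvd_of_dvd_pow h3)))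

theorem autA6 {s : ℕ} (hs : s.Prime) (h : s ∣ Nat.card (MulAut (alternatingGroup (Fin 6)))) :
    s = 2 ∨ s = 3 ∨ s = 5 := by
  have h2 : s ∣ 2 ^ 5 * (3 ^ 2 * 5) := h.trans Cfsg.Agent.H753.ResCard.card_mulAut_A6
  rcases hs.dvd_mul.1 h2 with h3 | h3
  · exact Or.inl ((Nat.prime_dvd_prime_iff_eq hs Nat.prime_two).1 (hs.dvd_of_dvd_pow h3))
  · rcases hs.dvd_mul.1 h3 with h4 | h4
    · exact Or.inr (Or.inl ((Nat.prime_dvd_prime_iff_eq hs Nat.prime_three).1 (hs.dvd_of_dvd_pow h4)))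
    · exact Or.inr (Or.inr ((Nat.prime_dvd_prime_iff_eq hs (by norm_num)).1 h4))

/-- a non-scalar element of prime order `r` of a residual subgroup: `r` divides `|Aut S|` -/
theorem dvd_aut {ι : Type} [Fintype ι] [DecidableEq ι] {H P : Subgroup (GL ι F)} (hc : IsResidualCore H P) {S : Type*}
    [Group S] (e : (P ⧸ (scalars ι F).subgroupOf P) ≃* S) {x : GL ι F} (hx : x ∈ H) {r : ℕ} (hr : r.Prime)
    (hxr : x ^ r = 1) (hxs : x ∉ scalars ι F) : r ∣ Nat.card (MulAut S) := by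
  by_contra h
  rw [← Nat.card_congr (MulAut.congr e).toEquiv] at h
  exact hxs (mem_scalars_of_pow hc hx hr hxr h)

/-- the residual rows for an element of order `r`, `q` of order `d ≥ 6` modulo `r` -/
theorem res_rows (hp : p.Prime) (hchar : CharP F p) (ha : 1 ≤ a) (hF : Fintype.card F = p ^ a)
    (hodd : Odd (Fintype.card F)) {d r : ℕ} (hd : 6 ≤ d) (hr : PP p (a * d) r)
    {M : Subgroup (GL (Fin 4 ⊕ Fin 4) F)} (h24 : Res24 F M) {y : GL (Fin 4 ⊕ Fin 4) F} (hy : y ∈ M) (hyr : y ^ r = 1)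
    (hy1 : y ≠ 1) :
    (∃ P, IsResidualCore M P ∧ Nonempty ((P ⧸ (scalars (Fin 4 ⊕ Fin 4) F).subgroupOf P) ≃*
      Matrix.ProjectiveSpecialLinearGroup (Fin 2) (ZMod 7)) ∧ 5 ≤ p ∧ p ≠ 7 ∧ r = 7) ∨
    (∃ P, IsResidualCore M P ∧ Nonempty ((P ⧸ (scalars (Fin 4 ⊕ Fin 4) F).subgroupOf P) ≃*
      Matrix.ProjectiveSpecialLinearGroup (Fin 2) (ZMod 17)) ∧ r = 17) ∨
    (d = 6 ∧ ∃ P, IsResidualCore M P ∧ ∃ (K : Type) (_ : Field K) (_ : Fintype K), Fintype.card K = Fintype.card F ^ 3 ∧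
      Nonempty ((P ⧸ (scalars (Fin 4 ⊕ Fin 4) F).subgroupOf P) ≃* Matrix.ProjectiveSpecialLinearGroup (Fin 2) K)) := by
  have hpf : Fact p.Prime := ⟨hp⟩
  have hod := od_of_pp hF ha (by omega) hr
  have hrd := hod.lt
  have hys : y ∉ scalars (Fin 4 ⊕ Fin 4) F := by
    intro h
    apply hy1
    refine eq_one_of_scalar h hr.prime hyr ?_
    intro h1
    have h2 := (hod.dvd_iff Fintype.card_pos 1).1 (by rwa [pow_one])
    have := Nat.le_of_dvd one_pos h2
    omega
  have had : a * 6 ≤ a * d := Nat.mul_le_mul_left _ hd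
  have hlt := hr.lt (by omega)
  obtain ⟨P, p', hc, hp', hchar', h | h | h | h | h | h⟩ := h24
  · obtain ⟨⟨e⟩, h1, h2, h3⟩ := h
    have hpp : p' = p := CharP.eq F hchar' hchar
    subst hpp
    left
    refine ⟨P, hc, ⟨e⟩, h2, h3, ?_⟩
    rcases aut7 hr.prime (dvd_aut hc e hy hr.prime hyr hys) with h4 | h4 | h4 <;> omega
  · obtain ⟨⟨e⟩, -⟩ := h
    exfalso
    rcases autA6 hr.prime (dvd_aut hc e hy hr.prime hyr hys) with h4 | h4 | h4 <;> omega
  · obtain ⟨⟨e⟩, -⟩ := h
    right; left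
    refine ⟨P, hc, ⟨e⟩, ?_⟩
    rcases aut17 hr.prime (dvd_aut hc e hy hr.prime hyr hys) with h4 | h4 | h4 <;> omega
  · exfalso
    rw [h.2] at hodd
    exact absurd hodd (by decide)
  · exfalso
    obtain ⟨⟨e⟩, h11⟩ := h
    have hpp : p' = p := CharP.eq F hchar' hchar
    subst hpp
    have h4 : 4 ≤ p' ^ a := by
      calc 4 ≤ p' := by omega
        _ = p' ^ 1 := (pow_one _).symm
        _ ≤ p' ^ a := Nat.pow_le_pow_right hp'.pos ha
    rcases dvd_mulAut hF h4 hr.prime (dvd_aut hc e hy hr.prime hyr hys) with h5 | h5 | h5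
    · have := Nat.le_of_dvd (by omega) h5
      omega
    · exact hr.not_dvd (by omega) h5
    · rw [hr.dvd_iff hp.one_lt.le] at h5
      have := Nat.le_of_dvd (by omega) h5
      omega
  · obtain ⟨⟨K, iK, iK', hK, ⟨e⟩⟩, -⟩ := h
    have hKp : Fintype.card K = p ^ (3 * a) := by rw [hK, hF, ← pow_mul, mul_comm]
    have h4 : 4 ≤ p ^ (3 * a) := by
      have h5 : 2 ^ (3 * 1) ≤ p ^ (3 * a) := (Nat.pow_le_pow_left hp.two_le _).trans
        (Nat.pow_le_pow_right hp.pos (by omega))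
      norm_num at h5
      omega
    right; right
    rcases dvd_mulAut hKp h4 hr.prime (dvd_aut hc e hy hr.prime hyr hys) with h5 | h5 | h5
    · have := Nat.le_of_dvd (by omega) h5
      omega
    · exact absurd h5 (hr.not_dvd (by omega))
    · rw [hr.dvd_iff hp.one_lt.le] at h5
      have h6 := Nat.le_of_dvd (by omega) h5
      have h7 : d = 6 := by
        by_contra hne
        have h8 : a * 7 ≤ a * d := Nat.mul_le_mul_left _ (by omega)
        omega
      exact ⟨h7, P, hc, K, iK, iK', hK, ⟨e⟩⟩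

/-- maximal subgroups over an element of order `r8` -/
theorem classA (hp : p.Prime) (hchar : CharP F p) (ha : 1 ≤ a) (hF : Fintype.card F = p ^ a)
    (hodd : Odd (Fintype.card F)) {r : ℕ} (hr : PP p (a * 8) r) (h24 : ∀ H : Subgroup (GL (Fin 4 ⊕ Fin 4) F),
      IsMaximalIn (spGL 4 F) H → InSymplecticResidualClass H → Res24 F H)
    {M : Subgroup (GL (Fin 4 ⊕ Fin 4) F)} (hM : IsMaximalIn (spGL 4 F) M) {y : GL (Fin 4 ⊕ Fin 4) F} (hy : y ∈ M)
    (hyr : y ^ r = 1) (hy1 : y ≠ 1) :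
    (∃ K : Subalgebra F (Matrix (Fin 4 ⊕ Fin 4) (Fin 4 ⊕ Fin 4) F), IsFieldSubalgebra 2 K ∧
      IsSelfAdjointFor (sympForm 4 F) K ∧ M ≤ subalgebraNormalizer K) ∨
    (∃ P, IsResidualCore M P ∧ Nonempty ((P ⧸ (scalars (Fin 4 ⊕ Fin 4) F).subgroupOf P) ≃*
      Matrix.ProjectiveSpecialLinearGroup (Fin 2) (ZMod 17)) ∧ r = 17) := by
  have hι : Fintype.card (Fin 4 ⊕ Fin 4) = 8 := by simp
  have hFn : Nat.card F = p ^ a := by rw [Nat.card_eq_fintype_card, hF]
  have hod := od_of_pp hF ha (by norm_num) hr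
  have hrq : PP (Nat.card F) (2 * 4) r := by
    rw [hFn]
    exact Cfsg.Agent.H884.El.PP.of_pow hr ha
  have hrd := hod.lt
  have hyS : y ∈ spGL 4 F := hM.1.le hy
  have hdvd := card_dvd_of_mem hr.prime hy hyr hy1
  have hirr : ∀ W : Submodule F (Fin 4 ⊕ Fin 4 → F), M ≤ subspaceStabilizer W → W = ⊥ ∨ W = ⊤ := fun W hW =>
    irr_of_od (by rw [hι]; exact hod) hyr hy1 W (fun v hv =>
      (Cfsg.Agent.H918.mem_subspaceStabilizer.1 (hW hy) v).1 hv)
  rcases geo hp ha hF hodd (by norm_num) hr hM hdvd with ⟨W, h1, h2, h3⟩ | ⟨W, h1, h2, h3, h4⟩ | h | ⟨K, h1, h2, h3, h4⟩ |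
    ⟨R, h1, h2, h3, h4⟩ | h
  · exfalso
    rcases hirr W h3 with h | h
    · exact h1 h
    · exact totallySingular_ne_top (by norm_num) h2 h
  · exfalso
    rcases hirr W h4 with h | h
    · exact h1 h
    · rw [h, finrank_top, Module.finrank_fintype_fun_eq_card, hι] at h3
      omega
  · exact Or.inl h
  · exact (Cfsg.Agent.H118.BS.no_quad_even hyS hrq (by decide) (by norm_num) hyr hy1 h1 h2 h3 (h4 hy)).elim
  · exfalso
    rcases symp_prime (k := 3) (by norm_num) h4 h2 h1 (by norm_num) (by rw [hι]; norm_num) h3 hr.prime hdvd with h | h | h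
    · omega
    · have h5 : r ∣ Fintype.card F ^ 1 - 1 := by rwa [pow_one, ← Nat.card_eq_fintype_card]
      have := Nat.le_of_dvd one_pos ((hod.dvd_iff Fintype.card_pos 1).1 h5)
      omega
    · have h5 : 8 ∣ r - 1 := (Dvd.intro_left a rfl).trans (hr.dvd_sub_one (by omega))
      have h6 : r = 9 := by omega
      rw [h6] at hr
      exact absurd hr.prime (by norm_num)
  · right
    rcases res_rows hp hchar ha hF hodd (by norm_num) hr (h24 M hM h) hy hyr hy1 with ⟨P, -, -, -, -, h6⟩ | h5 | ⟨h5, -⟩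
    · omega
    · exact h5
    · omega

/-- maximal subgroups over an element of order `r6` -/
theorem classB (hp : p.Prime) (hchar : CharP F p) (ha : 1 ≤ a) (hF : Fintype.card F = p ^ a)
    (hodd : Odd (Fintype.card F)) (hp2 : p ≠ 2) {r : ℕ} (hr : PP p (a * 6) r)
    (h24 : ∀ H : Subgroup (GL (Fin 4 ⊕ Fin 4) F),
      IsMaximalIn (spGL 4 F) H → InSymplecticResidualClass H → Res24 F H)
    {M : Subgroup (GL (Fin 4 ⊕ Fin 4) F)} (hM : IsMaximalIn (spGL 4 F) M) {y : GL (Fin 4 ⊕ Fin 4) F} (hy : y ∈ M)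
    (hyr : y ^ r = 1) (hy1 : y ≠ 1) :
    (∃ W : Submodule F (Fin 4 ⊕ Fin 4 → F), W ≠ ⊥ ∧ finrank F W ≤ 2 ∧
      (finrank F W = 1 ∨ IsNondegenerateOn (sympForm 4 F) W) ∧ M ≤ subspaceStabilizer W) ∨
    (∀ x ∈ M, ¬ IsTv x) := by
  have hpf : Fact p.Prime := ⟨hp⟩
  have hι : Fintype.card (Fin 4 ⊕ Fin 4) = 8 := by simp
  have hod := od_of_pp hF ha (by norm_num) hr
  have hrd := hod.lt
  have hyS : y ∈ spGL 4 F := hM.1.le hy
  have hdvd := card_dvd_of_mem hr.prime hy hyr hy1
  have hrF := cast_ne_zero_of_od hod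
  have hfix := fixS_eq_two hod hι hyr hy1
  rcases geo hp ha hF hodd (by norm_num) hr hM hdvd with ⟨W, h1, h2, h3⟩ | ⟨W, h1, h2, h3, h4⟩ | ⟨K, h1, h2, h3⟩ |
    ⟨K, h1, h2, h3, h4⟩ | ⟨R, h1, h2, h3, h4⟩ | h
  · left
    have e1 : 2 * finrank F W ≤ 2 * 4 := Cfsg.Agent.H262.El.two_mul_finrank_le (fun u hu v hv => h2 u hu v hv)
    have e2 : W ≤ fixS y := le_fixS hod hyr (fun v hv => (Cfsg.Agent.H918.mem_subspaceStabilizer.1 (h3 hy) v).1 hv) (by omega)
    have e3 := Submodule.finrank_mono e2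
    have e4 : finrank F W ≠ 2 := by
      intro h5
      have e5 : W = fixS y := Submodule.eq_of_le_of_finrank_eq e2 (by omega)
      obtain ⟨w, hw, hw0⟩ := (Submodule.ne_bot_iff _).1 h1
      have e6 := nd_fixS hyS hrF hyr
      rw [← e5] at e6
      obtain ⟨⟨z, hz, hzw⟩, -⟩ := e6 w hw hw0
      exact hzw (h2 z hz w hw)
    have e5 : finrank F W ≠ 0 := fun h5 => h1 (Submodule.finrank_eq_zero.1 h5)
    exact ⟨W, h1, by omega, Or.inl (by omega), h3⟩
  · left
    have e2 : W ≤ fixS y := le_fixS hod hyr (fun v hv => (Cfsg.Agent.H918.mem_subspaceStabilizer.1 (h4 hy) v).1 hv) (by omega)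
    have e3 := Submodule.finrank_mono e2
    exact ⟨W, h1, by omega, Or.inr h2, h4⟩
  · right
    intro x hx hxt
    exact rankOne_not_mem_subalgebraNormalizer (by rw [hι]; norm_num) hxt.isRankOneElt le_rfl h1 (h3 hx)
  · right
    intro x hx hxt
    exact rankOne_not_mem_subalgebraNormalizer (by rw [hι]; norm_num) hxt.isRankOneElt le_rfl h1 (h4 hx)
  · right
    intro x hx hxt
    refine hxt.not_mem_subgroupNormalizer (by rw [hι]; norm_num) h2 ?_ (h4 hx)
    intro a ha b hb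
    have k1 := Cfsg.Agent.H921.commutator_mem_center h1 (fun h => absurd h (by decide)) ⟨a, ha⟩ ⟨b, hb⟩
    obtain ⟨c, hc⟩ := Cfsg.Agent.H921.center_scalar h2 _ k1
    refine ⟨c, ?_⟩
    have k2 : a * b = (a * b * a⁻¹ * b⁻¹) * (b * a) := by group
    have k3 := congrArg Units.val k2
    rw [Units.val_mul, Units.val_mul (a * b * a⁻¹ * b⁻¹), Units.val_mul b a] at k3
    rw [k3]
    have k4 : ((a * b * a⁻¹ * b⁻¹ : GL (Fin 4 ⊕ Fin 4) F) : Matrix (Fin 4 ⊕ Fin 4) (Fin 4 ⊕ Fin 4) F) =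
      c • (1 : Matrix (Fin 4 ⊕ Fin 4) (Fin 4 ⊕ Fin 4) F) := hc
    rw [k4, Matrix.smul_mul, Matrix.one_mul]
  · right
    intro x hx hxt
    have hxs := tv_not_scalar (by rw [hι]; norm_num) hxt
    rcases res_rows hp hchar ha hF hodd le_rfl hr (h24 M hM h) hy hyr hy1 with ⟨P, hc, ⟨e⟩, k1, k2, -⟩ | ⟨P, -, -, h5⟩ |
      ⟨-, P, hc, K, iK, iK', hK, ⟨e⟩⟩
    · rcases aut7 hp (dvd_aut hc e hx hp hxt.pow_char hxs) with h4 | h4 | h4 <;> omega
    · have h6 : 6 ∣ r - 1 := (Dvd.intro_left a rfl).trans (hr.dvd_sub_one (by omega))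
      omega
    · exact no_tv_psl2 hp2 ha hF hι hc hK e hx hxt

/-- coatoms of `Sp` as subgroups of `GL` -/
theorem isMaximalIn_of_coatom {G : Type*} [Group G] {S : Subgroup G} {H : Subgroup S} (h : IsCoatom H) :
    IsMaximalIn S (H.map S.subtype) := by
  have hle : H.map S.subtype ≤ S := by
    rintro x ⟨y, -, rfl⟩
    exact y.2
  have hinj : Function.Injective (Subgroup.map S.subtype) := Subgroup.map_injective S.subtype_injective
  refine ⟨lt_of_le_of_ne hle ?_, ?_⟩
  · intro he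
    apply h.1
    rw [eq_top_iff]
    intro x _
    have : (x : G) ∈ H.map S.subtype := by rw [he]; exact x.2
    obtain ⟨y, hy, hyx⟩ := this
    rwa [← Subtype.ext hyx]
  · intro M h1 h2
    have h3 : H ≤ M.subgroupOf S := by
      intro x hx
      exact Subgroup.mem_subgroupOf.2 (h1 ⟨x, hx, rfl⟩)
    have h4 : (M.subgroupOf S).map S.subtype = M := by
      rw [Subgroup.subgroupOf_map_subtype, inf_eq_left]
      exact h2
    rcases eq_or_lt_of_le h3 with h5 | h5
    · left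
      rw [← h4, ← h5]
    · right
      have h6 := h.2 _ h5
      rw [← h4, h6]
      ext x
      constructor
      · rintro ⟨y, -, rfl⟩
        exact y.2
      · intro hx
        exact ⟨⟨x, hx⟩, trivial, rfl⟩

/-- avoiding a subgroup -/
theorem av_of {G : Type*} [Group G] {S : Subgroup G} {H : Subgroup S} {x : S}
    (h : ∀ y ∈ S, y * (x : G) * y⁻¹ ∉ H.map S.subtype) : Av x H := by
  intro g hg
  exact h g g.2 ⟨_, hg, rfl⟩

/-- **`PSp_8(q)`, `q` odd, modulo S5824** -/
theorem noTwo_of_res (hodd : Odd (Fintype.card F)) (h24 : ∀ H : Subgroup (GL (Fin 4 ⊕ Fin 4) F),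
      IsMaximalIn (spGL 4 F) H → InSymplecticResidualClass H → Res24 F H) : NoTwo (PSp 4 F) := by
  obtain ⟨p, hchar⟩ := CharP.exists F
  have hp : p.Prime := CharP.char_is_prime F p
  have hpf : Fact p.Prime := ⟨hp⟩
  obtain ⟨a, ha, hF⟩ : ∃ a : ℕ, 1 ≤ a ∧ Fintype.card F = p ^ a := by
    obtain ⟨n, -, hn⟩ := FiniteField.card F p
    exact ⟨n, n.pos, hn⟩
  have hp2 : p ≠ 2 := by
    rintro rfl
    rw [hF] at hodd
    rcases Nat.odd_pow_iff (by omega) |>.1 hodd with ⟨k, hk⟩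
    omega
  have hι : Fintype.card (Fin 4 ⊕ Fin 4) = 8 := by simp
  obtain ⟨r8, h8, h83⟩ := exists_r8 hp ha
  obtain ⟨r6, h6⟩ := exists_r6 hp hp2 ha
  obtain ⟨r4, h4⟩ := exists_r4 hp ha
  have o8 := od_of_pp hF ha (by norm_num) h8
  have o6 := od_of_pp hF ha (by norm_num) h6
  have o4 : Od (Fintype.card F) (2 * 2) r4 := od_of_pp hF ha (by norm_num) h4
  have l8 := o8.lt
  have l6 := o6.lt
  have hfin : Finite (GL (Fin 4 ⊕ Fin 4) F) := inferInstance
  have f8 := Fact.mk h8.prime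
  have f6 := Fact.mk h6.prime
  obtain ⟨x8, hx8⟩ := exists_prime_orderOf_dvd_card' (G := spGL 4 F) r8
    (dvd_card_spGL (by norm_num) o8 (k := 4) dvd_rfl (by norm_num) le_rfl)
  obtain ⟨x6, hx6⟩ := exists_prime_orderOf_dvd_card' (G := spGL 4 F) r6
    (dvd_card_spGL (by norm_num) o6 (k := 3) dvd_rfl (by norm_num) (by norm_num))
  obtain ⟨c, hc⟩ := exists_zel (k := 2) (F := F) (p := p) hp2 le_rfl o4
  -- orders
  have ord : ∀ {x : spGL 4 F} {r : ℕ}, r.Prime → orderOf x = r → ((x : GL (Fin 4 ⊕ Fin 4) F)) ^ r = 1 ∧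
      (x : GL (Fin 4 ⊕ Fin 4) F) ≠ 1 := by
    intro x r hr hx
    refine ⟨?_, ?_⟩
    · rw [← Subgroup.coe_pow, ← hx, pow_orderOf_eq_one]; rfl
    · intro h1
      have h2 : x = 1 := Subtype.ext h1
      rw [h2, orderOf_one] at hx
      exact hr.one_lt.ne hx
  -- p is not 3 or 17 if r8 = 17
  have h17 : ∀ {M P : Subgroup (GL (Fin 4 ⊕ Fin 4) F)}, IsResidualCore M P →
      (P ⧸ (scalars (Fin 4 ⊕ Fin 4) F).subgroupOf P) ≃* Matrix.ProjectiveSpecialLinearGroup (Fin 2) (ZMod 17) →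
      r8 = 17 → ∀ x ∈ M, x ^ p = 1 → x ∈ scalars (Fin 4 ⊕ Fin 4) F := by
    intro M P hc e he x hx hxp
    by_contra hxs
    rcases aut17 hp (dvd_aut hc e hx hp hxp hxs) with h1 | h1 | h1
    · exact hp2 h1
    · exact h83 he h1
    · apply o8.ndvd
      rw [he, hF, h1]
      exact dvd_pow_self 17 (by omega)
  -- transvection
  set v0 : Fin 4 ⊕ Fin 4 → F := Pi.single (Sum.inl 0) 1 with hv0
  have hv0' : v0 ≠ 0 := by
    intro h0
    have := congrFun h0 (Sum.inl 0)
    simp [hv0] at this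
  have htv : IsTv (tGL v0 (1 : F)) := tGL_isTv hv0' one_ne_zero
  let τ : spGL 4 F := ⟨tGL v0 1, tGL_mem _ _⟩
  let γ : spGL 4 F := ⟨c, hc.mem⟩
  have main : NoTwo (spGL 4 F) := by
    refine noTwo_of_two (a := x8) (b := x6) ?_ ?_
    · intro H hH
      by_contra hcon
      push Not at hcon
      obtain ⟨h1, h2⟩ := hcon
      obtain ⟨g, hg⟩ := not_av h1
      obtain ⟨g', hg'⟩ := not_av h2
      have hM := isMaximalIn_of_coatom hH
      have k8 := ord (x := g * x8 * g⁻¹) h8.prime (by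
        rw [show g * x8 * g⁻¹ = (MulAut.conj g).toMonoidHom x8 from rfl,
          orderOf_injective _ (MulAut.conj g).injective, hx8])
      have k6 := ord (x := g' * x6 * g'⁻¹) h6.prime (by
        rw [show g' * x6 * g'⁻¹ = (MulAut.conj g').toMonoidHom x6 from rfl,
          orderOf_injective _ (MulAut.conj g').injective, hx6])
      have m8 : ((g * x8 * g⁻¹ : spGL 4 F) : GL (Fin 4 ⊕ Fin 4) F) ∈ H.map (spGL 4 F).subtype := ⟨_, hg, rfl⟩
      have m6 : ((g' * x6 * g'⁻¹ : spGL 4 F) : GL (Fin 4 ⊕ Fin 4) F) ∈ H.map (spGL 4 F).subtype := ⟨_, hg', rfl⟩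
      rcases classA hp hchar ha hF hodd h8 h24 hM m8 k8.1 k8.2 with ⟨K, h3, h4, h5⟩ | ⟨P, hP, ⟨e⟩, -⟩
      · refine Cfsg.Agent.H118.BS.no_quad_odd (g' * x6 * g'⁻¹ : spGL 4 F).2 (r := r6) (j := 3) ?_ (by decide)
          (by norm_num) k6.1 k6.2 h3 h4 (h5 m6)
        rw [Nat.card_eq_fintype_card, hF]
        exact Cfsg.Agent.H884.El.PP.of_pow h6 ha
      · have hs : ((g' * x6 * g'⁻¹ : spGL 4 F) : GL (Fin 4 ⊕ Fin 4) F) ∉ scalars (Fin 4 ⊕ Fin 4) F := by
          intro h
          apply k6.2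
          refine eq_one_of_scalar h h6.prime k6.1 ?_
          intro h7
          have h9 := (o6.dvd_iff Fintype.card_pos 1).1 (by rwa [pow_one])
          have := Nat.le_of_dvd one_pos h9
          omega
        have h7 : 6 ∣ r6 - 1 := (Dvd.intro_left a rfl).trans (h6.dvd_sub_one (by omega))
        rcases aut17 h6.prime (dvd_aut hP e m6 h6.prime k6.1 hs) with h9 | h9 | h9 <;> omega
    · intro H K hH hK hx hy
      have hMH := isMaximalIn_of_coatom hH
      have hMK := isMaximalIn_of_coatom hK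
      have k8 := ord h8.prime hx8
      have k6 := ord h6.prime hx6
      have m8 : (x8 : GL (Fin 4 ⊕ Fin 4) F) ∈ H.map (spGL 4 F).subtype := ⟨_, hx, rfl⟩
      have m6 : (x6 : GL (Fin 4 ⊕ Fin 4) F) ∈ K.map (spGL 4 F).subtype := ⟨_, hy, rfl⟩
      have cA := classA hp hchar ha hF hodd h8 h24 hMH m8 k8.1 k8.2
      rcases classB hp hchar ha hF hodd hp2 h6 h24 hMK m6 k6.1 k6.2 with ⟨W, w1, w2, w3, w4⟩ | hno
      · refine ⟨γ, av_of fun y hy hm => ?_, av_of fun y hy hm => ?_⟩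
        · rcases cA with ⟨L, h3, h5, h7⟩ | ⟨P, hP, ⟨e⟩, he⟩
          · exact hc.field y hy L h3 h5 (h7 hm)
          · obtain ⟨n, hn⟩ := hc.p_dvd
            have hn0 : n ≠ 0 := by
              rintro rfl
              rw [mul_zero, orderOf_eq_zero_iff] at hn
              exact hn (isOfFinOrder_of_finite c)
            have hcn : orderOf (c ^ n) = p := by
              rw [orderOf_pow' _ hn0, hn, Nat.gcd_eq_right (Dvd.intro_left p rfl), Nat.mul_div_cancel _ (by omega)]
            have hpow : y * c ^ n * y⁻¹ ∈ H.map (spGL 4 F).subtype := by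
              rw [← conj_pow]
              exact Subgroup.pow_mem _ hm n
            have hpp : (y * c ^ n * y⁻¹) ^ p = 1 := by
              rw [conj_pow, ← hcn, pow_orderOf_eq_one, mul_one, mul_inv_cancel]
            have hsc := h17 hP e he _ hpow hpp
            have hone := eq_one_of_scalar hsc hp hpp (by
              rw [hF]
              intro h
              have h1 : p ∣ p ^ a := dvd_pow_self p (by omega)
              have h2 : 1 ≤ p ^ a := Nat.one_le_pow _ _ hp.pos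
              have h3 : p ∣ 1 := by
                have := Nat.dvd_sub h1 h
                rwa [show p ^ a - (p ^ a - 1) = 1 by omega] at this
              exact hp.one_lt.ne' (Nat.dvd_one.1 h3))
            have hcn1 : c ^ n = 1 := by
              have : c ^ n = y⁻¹ * (y * c ^ n * y⁻¹) * y := by group
              rw [this, hone]
              group
            rw [hcn1, orderOf_one] at hcn
            exact hp.one_lt.ne hcn
        · exact hc.space y hy W w1 w2 w3 (w4 hm)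
      · refine ⟨τ, av_of fun y hy hm => ?_, av_of fun y hy hm => ?_⟩
        · have ht := htv.conj y
          rcases cA with ⟨L, h3, h5, h7⟩ | ⟨P, hP, ⟨e⟩, he⟩
          · exact rankOne_not_mem_subalgebraNormalizer (by rw [hι]; norm_num) ht.isRankOneElt le_rfl h3 (h7 hm)
          · exact tv_not_scalar (by rw [hι]; norm_num) ht (h17 hP e he _ hm ht.pow_char)
        · exact hno _ hm (htv.conj y)
  exact main.of_surjective (Cfsg.Agent.H16.PSp4.prj 4 F) Cfsg.Agent.H16.PSp4.prj_surj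

end Main

end Cfsg.Agent.H248.Cov
end

private theorem dce_f511f0747687 : _root_.True := by
  try have : _root_.True := by simp only [_root_.Cfsg.Agent.H248.Cov.act.congr_simp]
  exact _root_.True.intro
end

-- part: H981/Cov/Inc
section
prune_inst 0x404000486200080000008601201c42ce000080004b040084a20a400e88ec0300800660bd3000160002908440380040001000800000000000000400011900a0808012043040a000020011000000000000000000000000000000000000010000000000000
set_option linter.all false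
open scoped Cfsg.Agent.FastGrp

-- part: H981/Cov/Mult
section
/-!
# S2499, rows `PSU_n(q)`, `n ≥ 10` (task 3941): dimensions of invariant subspaces

`mult` : if `T` has prime order `l` on a space `V` over a finite field with `Q` elements and `Q` has order `k`
modulo `l`, then `k` divides `dim W - dim (W ⊓ fx T)` for every `T`-invariant subspace `W`.
-/

set_option autoImplicit false

namespace Cfsg.Agent.H981.Cov

open Module

variable {F : Type*} [Field F] [Finite F] {V : Type*} [AddCommGroup V] [Module F V] [FiniteDimensional F V]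

/-- the fixed space -/
def fx (T : V →ₗ[F] V) : Submodule F V := LinearMap.ker (T - 1)

omit [Finite F] [FiniteDimensional F V] in
theorem mem_fx {T : V →ₗ[F] V} {v : V} : v ∈ fx T ↔ T v = v := by
  rw [fx, LinearMap.mem_ker, LinearMap.sub_apply, sub_eq_zero]
  rfl

theorem card_submodule (W : Submodule F V) : Nat.card W = Nat.card F ^ finrank F W :=
  Module.natCard_eq_pow_finrank (K := F) (V := W)

theorem card_modEq {l : ℕ} (hl : l.Prime) {T : V →ₗ[F] V} (hT : T ^ l = 1) {W : Submodule F V}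
    (hW : ∀ w ∈ W, T w ∈ W) : Nat.card W ≡ Nat.card (W ⊓ fx T : Submodule F V) [MOD l] := by
  classical
  have := Fact.mk hl
  have : Finite V := Module.finite_of_finite F
  have : Fintype W := Fintype.ofFinite _
  let f : Function.End W := fun w => ⟨T w, hW w w.2⟩
  have hf : ∀ (n : ℕ) (w : W), (((f ^ n) w : W) : V) = (T ^ n) (w : V) := by
    intro n
    induction n with
    | zero => intro w; rfl
    | succ n ih =>
      intro w
      have h1 : (f ^ (n + 1)) w = f ((f ^ n) w) := by rw [pow_succ']; rfl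
      rw [h1, pow_succ']
      show T _ = T _
      rw [ih]
  have hfl : f ^ l ^ 1 = 1 := by
    funext w
    apply Subtype.ext
    rw [hf, pow_one, hT]
    rfl
  have h1 := Equiv.Perm.card_fixedPoints_modEq hfl
  have e : f.fixedPoints ≃ (W ⊓ fx T : Submodule F V) :=
    { toFun := fun w => ⟨(w : W), (w : W).2, mem_fx.2 (congrArg Subtype.val w.2)⟩
      invFun := fun v => ⟨⟨v, v.2.1⟩, Subtype.ext (mem_fx.1 v.2.2)⟩
      left_inv := fun _ => rfl
      right_inv := fun _ => rfl }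
  have h2 : Nat.card (W ⊓ fx T : Submodule F V) = Fintype.card f.fixedPoints := by
    rw [← Nat.card_congr e, Nat.card_eq_fintype_card]
  rw [h2, Nat.card_eq_fintype_card]
  exact h1

/-- **the multiplicity lemma** -/
theorem mult {l k : ℕ} (hl : l.Prime) (hk0 : 0 < k) (hk : orderOf ((Nat.card F : ℕ) : ZMod l) = k)
    {T : V →ₗ[F] V} (hT : T ^ l = 1) {W : Submodule F V} (hW : ∀ w ∈ W, T w ∈ W) :
    ∃ i, finrank F W = k * i + finrank F (W ⊓ fx T : Submodule F V) := by
  have := Fact.mk hl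
  have h1 := card_modEq hl hT hW
  rw [card_submodule, card_submodule] at h1
  have hle : finrank F (W ⊓ fx T : Submodule F V) ≤ finrank F W := Submodule.finrank_mono inf_le_left
  obtain ⟨d, hd⟩ := Nat.exists_eq_add_of_le hle
  set b := finrank F (W ⊓ fx T : Submodule F V) with hb
  have h2 := (ZMod.natCast_eq_natCast_iff _ _ _).2 h1
  rw [Nat.cast_pow, Nat.cast_pow, hd, pow_add] at h2
  have hu : ((Nat.card F : ℕ) : ZMod l) ≠ 0 := by
    intro h0
    rw [h0, orderOf_zero] at hk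
    omega
  have h3 : ((Nat.card F : ℕ) : ZMod l) ^ d = 1 := by
    have h4 : ((Nat.card F : ℕ) : ZMod l) ^ b ≠ 0 := pow_ne_zero _ hu
    apply mul_left_cancel₀ h4
    rw [h2, mul_one]
  obtain ⟨i, hi⟩ : k ∣ d := by
    rw [← hk]
    exact orderOf_dvd_of_pow_eq_one h3
  exact ⟨i, by rw [hd, hi]; ring⟩

/-- one element -/
theorem dim_one {l k : ℕ} (hl : l.Prime) (hk0 : 0 < k) (hk : orderOf ((Nat.card F : ℕ) : ZMod l) = k)
    {T : V →ₗ[F] V} (hT : T ^ l = 1) {W : Submodule F V} (hW : ∀ w ∈ W, T w ∈ W) :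
    ∃ i d, finrank F W = k * i + d ∧ k * i + finrank F (fx T) ≤ finrank F V ∧ d ≤ finrank F (fx T) ∧
      d = finrank F (W ⊓ fx T : Submodule F V) := by
  obtain ⟨i, hi⟩ := mult hl hk0 hk hT hW
  refine ⟨i, _, hi, ?_, Submodule.finrank_mono inf_le_right, rfl⟩
  have h1 := Submodule.finrank_sup_add_finrank_inf_eq W (fx T)
  have h2 : finrank F (W ⊔ fx T : Submodule F V) ≤ finrank F V := Submodule.finrank_le _
  omega

/-- two commuting elements without a common fixed vector -/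
theorem dim_two {l₁ k₁ l₂ k₂ : ℕ} (hl₁ : l₁.Prime) (hk₁ : 0 < k₁)
    (h₁ : orderOf ((Nat.card F : ℕ) : ZMod l₁) = k₁) (hl₂ : l₂.Prime) (hk₂ : 0 < k₂)
    (h₂ : orderOf ((Nat.card F : ℕ) : ZMod l₂) = k₂) {T₁ T₂ : V →ₗ[F] V} (hT₁ : T₁ ^ l₁ = 1) (hT₂ : T₂ ^ l₂ = 1)
    (hc : T₁ * T₂ = T₂ * T₁) (h0 : fx T₁ ⊓ fx T₂ = ⊥) {W : Submodule F V} (hW₁ : ∀ w ∈ W, T₁ w ∈ W)
    (hW₂ : ∀ w ∈ W, T₂ w ∈ W) :
    ∃ i j, finrank F W = k₁ * i + k₂ * j ∧ k₁ * i + finrank F (fx T₁) ≤ finrank F V ∧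
      k₂ * j ≤ finrank F (fx T₁) := by
  obtain ⟨i, d, h3, h4, h5, h6⟩ := dim_one hl₁ hk₁ h₁ hT₁ hW₁
  have hU : ∀ w ∈ W ⊓ fx T₁, T₂ w ∈ W ⊓ fx T₁ := by
    rintro w ⟨hw1, hw2⟩
    refine ⟨hW₂ w hw1, mem_fx.2 ?_⟩
    have : (T₁ * T₂) w = (T₂ * T₁) w := by rw [hc]
    change T₁ (T₂ w) = T₂ (T₁ w) at this
    rw [this, mem_fx.1 hw2]
  obtain ⟨j, hj⟩ := mult hl₂ hk₂ h₂ hT₂ hU
  have h7 : (W ⊓ fx T₁) ⊓ fx T₂ = ⊥ := by rw [inf_assoc, h0, inf_bot_eq]
  rw [h7, finrank_bot, add_zero] at hj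
  exact ⟨i, j, by rw [h3, h6, hj], h4, by rw [← hj, ← h6]; exact h5⟩

end Cfsg.Agent.H981.Cov
end

-- part: H981/Cov/SU
section
/-!
# S2499, rows `PSU_n(q)`, `n ≥ 10` (task 3941): semisimple elements of `SU_n(q)` with prescribed blocks
-/

set_option autoImplicit false

namespace Cfsg.Agent.H981.Cov

open Cfsg Module Matrix
open Cfsg.Agent.LieClassical.HermBasic
open Cfsg.Agent.LieClassical.HermSiegel (act mat act_mul act_one act_inv_act act_act_inv)
open Cfsg.Agent.H674.SUTools (cm cm_injective det_cm mkSU cm_mkSU cm_isom)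
open Cfsg.Agent.H674.SUBlock (blk blk_one blk_mul det_blk isom_blk blk_inj blk_castAdd blk_natAdd)
open Cfsg.Agent.H779.DP (rho rho_apply rho_injective)

variable {F : Type} [Field F] {n d e q : ℕ}

theorem rho_cm (x : SU n F q) : rho n F q x = Matrix.toLin' (cm x) := rfl

/-- dimension of the fixed space -/
noncomputable def fd (x : SU n F q) : ℕ := finrank F (fx (rho n F q x))

theorem rho_mul_apply (x y : SU n F q) (v : Fin n → F) :
    rho n F q (x * y) v = rho n F q x (rho n F q y v) := by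
  rw [map_mul]; rfl

theorem rho_one_apply (v : Fin n → F) : rho n F q 1 v = v := by
  rw [map_one]; rfl

/-- the linear automorphism -/
noncomputable def le (g : SU n F q) : (Fin n → F) ≃ₗ[F] (Fin n → F) :=
  LinearEquiv.ofLinear (rho n F q g) (rho n F q g⁻¹)
    (LinearMap.ext fun v => by
      change rho n F q g (rho n F q g⁻¹ v) = v
      rw [← rho_mul_apply, mul_inv_cancel, rho_one_apply])
    (LinearMap.ext fun v => by
      change rho n F q g⁻¹ (rho n F q g v) = v
      rw [← rho_mul_apply, inv_mul_cancel, rho_one_apply])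

theorem exists_inv_conj {x g : SU n F q} {W : Submodule F (Fin n → F)}
    (hW : ∀ w ∈ W, rho n F q (g * x * g⁻¹) w ∈ W) :
    ∃ W' : Submodule F (Fin n → F), finrank F W' = finrank F W ∧ ∀ w ∈ W', rho n F q x w ∈ W' := by
  refine ⟨W.map ((le g⁻¹ : (Fin n → F) ≃ₗ[F] (Fin n → F)) : (Fin n → F) →ₗ[F] (Fin n → F)),
    LinearEquiv.finrank_map_eq _ _, ?_⟩
  rintro _ ⟨w, hw, rfl⟩
  refine ⟨rho n F q (g * x * g⁻¹) w, hW w hw, ?_⟩
  change rho n F q g⁻¹ (rho n F q (g * x * g⁻¹) w) = rho n F q x (rho n F q g⁻¹ w)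
  rw [← rho_mul_apply, ← rho_mul_apply]
  congr 2
  group

theorem fd_conj (x g : SU n F q) : fd (g * x * g⁻¹) = fd x := by
  have h : fx (rho n F q (g * x * g⁻¹)) =
      (fx (rho n F q x)).map ((le g : (Fin n → F) ≃ₗ[F] (Fin n → F)) : (Fin n → F) →ₗ[F] (Fin n → F)) := by
    ext v
    rw [mem_fx, Submodule.mem_map]
    constructor
    · intro hv
      refine ⟨rho n F q g⁻¹ v, ?_, ?_⟩
      · rw [mem_fx, ← rho_mul_apply]
        have h1 : x * g⁻¹ = g⁻¹ * (g * x * g⁻¹) := by group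
        rw [h1, rho_mul_apply, hv]
      · change rho n F q g (rho n F q g⁻¹ v) = v
        rw [← rho_mul_apply, mul_inv_cancel, rho_one_apply]
    · rintro ⟨w, hw, rfl⟩
      rw [mem_fx] at hw
      change rho n F q (g * x * g⁻¹) (rho n F q g w) = rho n F q g w
      rw [← rho_mul_apply]
      have h1 : g * x * g⁻¹ * g = g * x := by group
      rw [h1, rho_mul_apply, hw]
  rw [fd, h]
  exact LinearEquiv.finrank_map_eq _ _

theorem fd_le (x : SU n F q) : fd x ≤ n := by
  have := Submodule.finrank_le (fx (rho n F q x))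
  rwa [finrank_fin_fun] at this

theorem eq_one_of_fd {x : SU n F q} (h : fd x = n) : x = 1 := by
  have h1 : fx (rho n F q x) = ⊤ := by
    apply Submodule.eq_top_of_finrank_eq
    rw [finrank_fin_fun]
    exact h
  apply rho_injective
  rw [map_one]
  apply LinearMap.ext
  intro v
  have h2 : v ∈ fx (rho n F q x) := by rw [h1]; trivial
  exact mem_fx.1 h2

theorem fd_one : fd (1 : SU n F q) = n := by
  have h1 : fx (rho n F q (1 : SU n F q)) = ⊤ := by
    rw [Submodule.eq_top_iff']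
    intro v
    rw [mem_fx, rho_one_apply]
  rw [fd, h1, finrank_top, finrank_fin_fun]

/-! ### block matrices -/

theorem blk_mulVec_left (A : Matrix (Fin d) (Fin d) F) (B : Matrix (Fin e) (Fin e) F) (v : Fin (d + e) → F)
    (i : Fin d) : (blk A B *ᵥ v) (Fin.castAdd e i) = (A *ᵥ fun i => v (Fin.castAdd e i)) i := by
  simp only [Matrix.mulVec, dotProduct]
  rw [Fin.sum_univ_add]
  simp [blk]

theorem blk_mulVec_right (A : Matrix (Fin d) (Fin d) F) (B : Matrix (Fin e) (Fin e) F) (v : Fin (d + e) → F)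
    (i : Fin e) : (blk A B *ᵥ v) (Fin.natAdd d i) = (B *ᵥ fun i => v (Fin.natAdd d i)) i := by
  simp only [Matrix.mulVec, dotProduct]
  rw [Fin.sum_univ_add]
  simp [blk]

theorem finrank_fx_blk (A : Matrix (Fin d) (Fin d) F) (B : Matrix (Fin e) (Fin e) F) :
    finrank F (fx (Matrix.toLin' (blk A B))) =
      finrank F (fx (Matrix.toLin' A)) + finrank F (fx (Matrix.toLin' B)) := by
  have key : ∀ v : Fin (d + e) → F, v ∈ fx (Matrix.toLin' (blk A B)) ↔
      ((fun i => v (Fin.castAdd e i)) ∈ fx (Matrix.toLin' A) ∧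
        (fun i => v (Fin.natAdd d i)) ∈ fx (Matrix.toLin' B)) := by
    intro v
    rw [mem_fx, mem_fx, mem_fx, Matrix.toLin'_apply, Matrix.toLin'_apply, Matrix.toLin'_apply]
    constructor
    · intro h
      constructor
      · funext i
        rw [← blk_mulVec_left, h]
      · funext i
        rw [← blk_mulVec_right, h]
    · rintro ⟨h1, h2⟩
      funext i
      refine Fin.addCases (fun i => ?_) (fun i => ?_) i
      · rw [blk_mulVec_left, h1]
      · rw [blk_mulVec_right, h2]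
  let f : fx (Matrix.toLin' (blk A B)) ≃ₗ[F] (fx (Matrix.toLin' A)) × (fx (Matrix.toLin' B)) :=
    { toFun := fun v => (⟨fun i => v.1 (Fin.castAdd e i), ((key v.1).1 v.2).1⟩,
        ⟨fun i => v.1 (Fin.natAdd d i), ((key v.1).1 v.2).2⟩)
      map_add' := fun _ _ => rfl
      map_smul' := fun _ _ => rfl
      invFun := fun p => ⟨Fin.append p.1.1 p.2.1, (key _).2 ⟨by simpa using p.1.2, by simpa using p.2.2⟩⟩
      left_inv := fun v => by
        apply Subtype.ext
        funext i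
        refine Fin.addCases (fun i => ?_) (fun i => ?_) i <;> simp
      right_inv := fun p => by
        apply Prod.ext <;> apply Subtype.ext <;> funext i <;> simp }
  rw [f.finrank_eq, finrank_prod]

variable [Fintype F]

/-- block diagonal elements -/
noncomputable def bk (hF : Fintype.card F = q ^ 2) : SU d F q × SU e F q →* SU (d + e) F q where
  toFun p := mkSU hF (blk (cm p.1) (cm p.2)) (by rw [det_blk, det_cm, det_cm, one_mul])
    (isom_blk hF (cm_isom hF p.1) (cm_isom hF p.2))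
  map_one' := by
    apply cm_injective
    rw [cm_mkSU, Prod.fst_one, Prod.snd_one, map_one, map_one, blk_one, map_one]
  map_mul' x y := by
    apply cm_injective
    rw [cm_mkSU, Prod.fst_mul, Prod.snd_mul, map_mul, map_mul, map_mul, cm_mkSU, cm_mkSU, ← blk_mul]

theorem cm_bk (hF : Fintype.card F = q ^ 2) (p : SU d F q × SU e F q) : cm (bk hF p) = blk (cm p.1) (cm p.2) := rfl

theorem bk_injective (hF : Fintype.card F = q ^ 2) :
    Function.Injective (bk hF : SU d F q × SU e F q →* SU (d + e) F q) := by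
  intro x y h
  have h1 := congrArg cm h
  rw [cm_bk, cm_bk] at h1
  obtain ⟨h2, h3⟩ := blk_inj h1
  exact Prod.ext (cm_injective h2) (cm_injective h3)

theorem fd_bk (hF : Fintype.card F = q ^ 2) (p : SU d F q × SU e F q) : fd (bk hF p) = fd p.1 + fd p.2 := by
  rw [fd, fd, fd, rho_cm, rho_cm, rho_cm, cm_bk, finrank_fx_blk]

/-! ### counting vectors of norm one -/

/-- the number of vectors of norm one -/
def nu (q m : ℕ) : ℕ := if Even m then q ^ (m - 1) * (q ^ m - 1) else q ^ (m - 1) * (q ^ m + 1)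

theorem fx_rho (x : SU n F q) : fx (rho n F q x) = Cfsg.Agent.GpUn.fx x := by
  ext v
  rw [mem_fx, rho_apply, Cfsg.Agent.GpUn.mem_fx]

theorem nu_modEq (hF : Fintype.card F = q ^ 2) {l : ℕ} (hl : l.Prime) (hlF : (l : F) ≠ 0) {x : SU n F q}
    (hx : x ^ l = 1) : nu q n ≡ nu q (fd x) [MOD l] := by
  classical
  have := Fact.mk hl
  have : Fintype {v : Fin n → F // hermForm n F q v v = 1} := Fintype.ofFinite _
  let f : Function.End {v : Fin n → F // hermForm n F q v v = 1} := fun v =>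
    ⟨act x v.1, by rw [Cfsg.Agent.LieClassical.HermSiegel.herm_act]; exact v.2⟩
  have hf : ∀ (m : ℕ) (w : {v : Fin n → F // hermForm n F q v v = 1}), ((f ^ m) w).1 = act (x ^ m) w.1 := by
    intro m
    induction m with
    | zero => intro w; rw [pow_zero, pow_zero, act_one]; rfl
    | succ m ih =>
      intro w
      have h1 : (f ^ (m + 1)) w = f ((f ^ m) w) := by rw [pow_succ']; rfl
      rw [h1, pow_succ', act_mul, ← ih]
  have hfl : f ^ l ^ 1 = 1 := by
    funext w
    apply Subtype.ext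
    rw [hf, pow_one, hx, act_one]
    rfl
  have h1 := Equiv.Perm.card_fixedPoints_modEq hfl
  have h2 : Fintype.card {v : Fin n → F // hermForm n F q v v = 1} = nu q n := by
    rw [← Nat.card_eq_fintype_card]
    exact Cfsg.Agent.LieClassical.HermCount.card_norm_one hF n
  have h3 : Fintype.card f.fixedPoints = nu q (fd x) := by
    rw [← Nat.card_eq_fintype_card, nu, ← Cfsg.Agent.LieClassical.HermCount.card_norm_one hF (fd x),
      ← Cfsg.Agent.H779.DP.card_norm_sub hF (Cfsg.Agent.H779.DP.nd_fx hF hlF hx) (by rw [← fx_rho]; rfl) 1]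
    refine Nat.card_congr ⟨fun v => ⟨v.1.1, congrArg Subtype.val v.2, v.1.2⟩,
      fun v => ⟨⟨v.1, v.2.2⟩, Subtype.ext v.2.1⟩, fun _ => rfl, fun _ => rfl⟩
  rw [h2, h3] at h1
  exact h1

theorem natCast_ne_zero (hF : Fintype.card F = q ^ 2) {l : ℕ} (hl : l.Prime) (h : ¬ l ∣ q) : (l : F) ≠ 0 := by
  intro h0
  obtain ⟨p, hp⟩ := CharP.exists F
  obtain ⟨k, hpp, hk⟩ := FiniteField.card F p
  have h1 : p ∣ l := (CharP.cast_eq_zero_iff F p l).1 h0
  have h2 : p = l := (Nat.prime_dvd_prime_iff_eq hpp hl).1 h1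
  apply h
  rw [← h2]
  apply hpp.dvd_of_dvd_pow (n := 2)
  rw [← hF, hk]
  exact dvd_pow_self _ k.pos.ne'

/-! ### fixed point free blocks -/

/-- every element of order `l` of `SU_d(q)` is fixed point free; the order of `q ^ 2` modulo `l` is `k` -/
structure Bl (F : Type) [Field F] [Fintype F] (q d k l : ℕ) : Prop where
  pr : l.Prime
  pos : 0 < k
  ord : orderOf ((Nat.card F : ℕ) : ZMod l) = k
  ff : ∀ w : SU d F q, w ^ l = 1 → w ≠ 1 → fd w = 0

theorem fd_mod {l k : ℕ} (hl : l.Prime) (hk : 0 < k) (ho : orderOf ((Nat.card F : ℕ) : ZMod l) = k)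
    {x : SU n F q} (hx : x ^ l = 1) : ∃ i, n = k * i + fd x := by
  have h1 : rho n F q x ^ l = 1 := by rw [← map_pow, hx, map_one]
  obtain ⟨i, hi⟩ := mult hl hk ho h1 (W := ⊤) (fun _ _ => trivial)
  rw [top_inf_eq, finrank_top, finrank_fin_fun] at hi
  exact ⟨i, hi⟩

theorem Bl.self {k l : ℕ} (hl : l.Prime) (hk : 0 < k) (ho : orderOf ((Nat.card F : ℕ) : ZMod l) = k) :
    Bl F q k k l where
  pr := hl
  pos := hk
  ord := ho
  ff := by
    intro w hw hw1
    obtain ⟨i, hi⟩ := fd_mod hl hk ho hw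
    rcases Nat.eq_zero_or_pos i with h0 | h0
    · exfalso
      rw [h0, mul_zero, zero_add] at hi
      exact hw1 (eq_one_of_fd hi.symm)
    · have : k * 1 ≤ k * i := Nat.mul_le_mul_left k h0
      omega

theorem Bl.two (hF : Fintype.card F = q ^ 2) {l : ℕ} (hl : l.Prime) (hlq : ¬ l ∣ q) (hd : 0 < d)
    (ho : orderOf ((Nat.card F : ℕ) : ZMod l) = d) (hm : l ∣ q ^ (2 * d) - 1)
    (hd2 : ¬ l ∣ (if Even d then q ^ d - 1 else q ^ d + 1)) : Bl F q (2 * d) d l where
  pr := hl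
  pos := hd
  ord := ho
  ff := by
    intro w hw hw1
    obtain ⟨i, hi⟩ := fd_mod hl hd ho hw
    rcases Nat.eq_zero_or_pos i with h0 | h0
    · exfalso
      rw [h0, mul_zero, zero_add] at hi
      exact hw1 (eq_one_of_fd hi.symm)
    rcases Nat.lt_or_ge 1 i with h1 | h1
    · have : d * 2 ≤ d * i := Nat.mul_le_mul_left d h1
      omega
    have h2 : i = 1 := by omega
    have h3 : fd w = d := by rw [h2] at hi; omega
    exfalso
    have h4 := nu_modEq hF hl (natCast_ne_zero hF hl hlq) hw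
    have h5 : l ∣ nu q (2 * d) := by
      rw [nu, if_pos (even_two_mul d)]
      exact Dvd.dvd.mul_left hm _
    have h6 : l ∣ nu q d := by
      rw [h3] at h4
      exact (Nat.ModEq.dvd_iff h4 dvd_rfl).1 h5
    apply hd2
    rw [nu] at h6
    split_ifs at h6 ⊢ with he
    · exact ((Nat.Prime.dvd_mul hl).1 h6).resolve_left fun h => hlq (hl.dvd_of_dvd_pow h)
    · exact ((Nat.Prime.dvd_mul hl).1 h6).resolve_left fun h => hlq (hl.dvd_of_dvd_pow h)

end Cfsg.Agent.H981.Cov
end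

-- part: H981/Cov/Elt
section
/-!
# S2499, rows `PSU_n(q)`, `n ≥ 10` (task 3941): existence of the blocks
-/

set_option autoImplicit false

namespace Cfsg.Agent.H981.Cov

open Cfsg Module Matrix Polynomial
open Cfsg.Agent.LieClassical.HermBasic
open Cfsg.Agent.LieClassical (GUOrder.frob)
open Cfsg.Agent.H674.SUTools (cm cm_injective det_cm mkSU cm_mkSU cm_isom orderOf_cm)
open Cfsg.Agent.H674.SUBlock (blk blk_one blk_mul det_blk isom_blk blk_inj blk_castAdd blk_natAdd)
open Cfsg.Agent.H779.DP (rho rho_apply rho_injective)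
open Cfsg.Agent.H809.SelfCent (toG toG_injective toG_val isU_SU pow_eq_star dvd_card_SU)
open Cfsg.Agent.H956.SUTorus (exists_phi exists_iff)

variable {F : Type} [Field F] [Fintype F] {n d e q : ℕ}

theorem two_le_q (hF : Fintype.card F = q ^ 2) : 2 ≤ q := Cfsg.Agent.ClassicalGeometry.GUBasic.two_le hF

theorem ord_of (hF : Fintype.card F = q ^ 2) {l e k : ℕ} (hm : ∀ m, l ∣ q ^ m - 1 ↔ e ∣ m)
    (he : ∀ i, e ∣ 2 * i ↔ k ∣ i) : orderOf ((Nat.card F : ℕ) : ZMod l) = k := by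
  have hq := two_le_q hF
  have key : ∀ i, ((Nat.card F : ℕ) : ZMod l) ^ i = 1 ↔ k ∣ i := by
    intro i
    have h1 : 1 ≤ q ^ (2 * i) := Nat.one_le_pow _ _ (by omega)
    rw [← he i, ← hm, Nat.card_eq_fintype_card, hF, ← Nat.cast_pow, ← pow_mul, ← Nat.modEq_iff_dvd' h1,
      ← ZMod.natCast_eq_natCast_iff, Nat.cast_one]
    exact eq_comm
  apply Nat.dvd_antisymm
  · rw [orderOf_dvd_iff_pow_eq_one, key]
  · rw [← key]
    exact pow_orderOf_eq_one _

theorem not_dvd_q {l e : ℕ} (hl : l.Prime) (he : 0 < e) (hq : 2 ≤ q) (hm : ∀ m, l ∣ q ^ m - 1 ↔ e ∣ m) :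
    ¬ l ∣ q := by
  intro h
  have h1 : l ∣ q ^ e - 1 := (hm e).2 dvd_rfl
  have h2 : l ∣ q ^ e := dvd_pow h he.ne'
  have h3 : 1 ≤ q ^ e := Nat.one_le_pow _ _ (by omega)
  have h4 : l ∣ q ^ e - (q ^ e - 1) := Nat.dvd_sub h2 h1
  have h5 : q ^ e - (q ^ e - 1) = 1 := by omega
  rw [h5] at h4
  exact hl.one_lt.ne' (Nat.dvd_one.1 h4)

theorem not_dvd_add {l e : ℕ} (he : 2 < e) (hm : ∀ m, l ∣ q ^ m - 1 ↔ e ∣ m) : ¬ l ∣ q + 1 := by
  intro h
  have h1 : l ∣ q ^ 2 - 1 := by
    have := Nat.sq_sub_sq q 1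
    rw [one_pow] at this
    rw [this]
    exact Dvd.dvd.mul_right h _
  have := Nat.le_of_dvd (by norm_num) ((hm 2).1 h1)
  omega

theorem dvd_add_one {l k : ℕ} (hl : l.Prime) (hk : 0 < k) (hm : ∀ m, l ∣ q ^ m - 1 ↔ 2 * k ∣ m) :
    l ∣ q ^ k + 1 := by
  have h1 : l ∣ q ^ (2 * k) - 1 := (hm _).2 dvd_rfl
  have h5 : ¬ l ∣ q ^ k - 1 := by
    rw [hm]
    intro h2
    have := Nat.le_of_dvd (by omega) h2
    omega
  have h6 : q ^ (2 * k) - 1 = (q ^ k + 1) * (q ^ k - 1) := by
    rw [mul_comm 2 k, pow_mul]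
    have := Nat.sq_sub_sq (q ^ k) 1
    rwa [one_pow] at this
  rw [h6] at h1
  exact ((Nat.Prime.dvd_mul hl).1 h1).resolve_right h5

/-- the blocks `[k]`, `k` odd -/
theorem exists_odd_block (hF : Fintype.card F = q ^ 2) {k : ℕ} (hk : Odd k) (hk3 : 3 ≤ k)
    (hex : ¬ (q = 2 ∧ k = 3)) : ∃ l, Bl F q k k l ∧ (∀ m, l ∣ q ^ m - 1 ↔ 2 * k ∣ m) ∧
      ∃ u : SU k F q, orderOf u = l := by
  have hq := two_le_q hF
  obtain ⟨l, hl, hm, -, -⟩ := Cfsg.Agent.Lib.Zsigmondy.exists_primitive (a := q) (n := 2 * k) hq (by omega)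
    (by omega) (by omega)
  have ho : orderOf ((Nat.card F : ℕ) : ZMod l) = k :=
    ord_of hF hm fun i => ⟨fun h => Nat.dvd_of_mul_dvd_mul_left (by norm_num) h, fun h => Nat.mul_dvd_mul_left 2 h⟩
  refine ⟨l, Bl.self hl (by omega) ho, hm, ?_⟩
  have h8 : l ∣ Nat.card (Cfsg.SU k F q) := by
    refine dvd_card_SU hF (by omega) hl ?_ (not_dvd_add (by omega) hm)
    refine Dvd.dvd.mul_left ?_ _
    refine Dvd.dvd.trans ?_ (Finset.dvd_prod_of_mem _ (Finset.mem_range.2 (show k - 1 < k by omega)))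
    have h9 : Even (k - 1) := by
      obtain ⟨j, hj⟩ := hk
      exact ⟨j, by omega⟩
    rw [if_pos h9, Nat.sub_add_cancel (by omega)]
    exact dvd_add_one hl (by omega) hm
  have : Fact l.Prime := ⟨hl⟩
  exact exists_prime_orderOf_dvd_card' l h8

/-- the blocks `pos d`, `d` even -/
theorem exists_pos_even (hF : Fintype.card F = q ^ 2) {d : ℕ} (hd : Even d) (hd2 : 2 ≤ d) :
    ∃ l, Bl F q (2 * d) d l ∧ (∀ m, l ∣ q ^ m - 1 ↔ 2 * d ∣ m) ∧ ∃ u : SU (2 * d) F q, orderOf u = l := by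
  have hq := two_le_q hF
  obtain ⟨l, hl, hm, -, -⟩ := Cfsg.Agent.Lib.Zsigmondy.exists_primitive (a := q) (n := 2 * d) hq (by omega)
    (by omega) (by
      rintro ⟨-, h⟩
      obtain ⟨c, hc⟩ := hd
      omega)
  have ho : orderOf ((Nat.card F : ℕ) : ZMod l) = d :=
    ord_of hF hm fun i => ⟨fun h => Nat.dvd_of_mul_dvd_mul_left (by norm_num) h, fun h => Nat.mul_dvd_mul_left 2 h⟩
  refine ⟨l, Bl.two hF hl (not_dvd_q hl (by omega) hq hm) (by omega) ho ((hm _).2 dvd_rfl) ?_, hm, ?_⟩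
  · rw [if_pos hd, hm]
    intro h
    have := Nat.le_of_dvd (by omega) h
    omega
  have h8 : l ∣ Nat.card (Cfsg.SU (2 * d) F q) := by
    refine dvd_card_SU hF (by omega) hl ?_ (not_dvd_add (by omega) hm)
    refine Dvd.dvd.mul_left ?_ _
    refine Dvd.dvd.trans ?_ (Finset.dvd_prod_of_mem _ (Finset.mem_range.2 (show 2 * d - 1 < 2 * d by omega)))
    have h9 : ¬ Even (2 * d - 1) := by
      rintro ⟨j, hj⟩
      omega
    rw [if_neg h9, Nat.sub_add_cancel (by omega)]
    exact (hm _).2 dvd_rfl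
  have : Fact l.Prime := ⟨hl⟩
  exact exists_prime_orderOf_dvd_card' l h8

/-- elements of the torus of order `(q ^ k + 1) / (q + 1)` of `SU_k(q)`, `k` odd -/
theorem exists_tor (hF : Fintype.card F = q ^ 2) {k m : ℕ} (hk : Odd k) (hk3 : 3 ≤ k) (hex : ¬ (q = 2 ∧ k = 3))
    (hm : m ∣ q ^ k + 1) (hco : Nat.Coprime m (q + 1)) : ∃ a : SU k F q, orderOf a = m := by
  have hq := two_le_q hF
  obtain ⟨l, B, hl, x, hx⟩ := exists_odd_block hF hk hk3 hex
  have hσ : ∀ x, Cfsg.Agent.LieClassical.GUOrder.frob hF x = x ^ q := fun x => rfl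
  have hlq : ¬ l ∣ q := not_dvd_q B.pr (by omega) hq hl
  have hlk : l ∣ q ^ k + 1 := dvd_add_one B.pr (by omega) hl
  have hxl : cm x ^ l = 1 := by rw [← map_pow, ← hx, pow_orderOf_eq_one, map_one]
  have hx1 : cm x ≠ 1 := by
    intro h
    rw [← orderOf_cm, h, orderOf_one] at hx
    exact B.pr.one_lt.ne hx
  obtain ⟨h5, h6⟩ := Cfsg.Agent.S2638.irr B.pr (natCast_ne_zero hF B.pr hlq)
    (by rw [← Nat.card_eq_fintype_card]; exact B.ord) hxl hx1
  obtain ⟨E, _, _, _, φ, hfr, hφ1, hφ2⟩ := exists_phi h5 h6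
  obtain ⟨N, k', hN, hk', hg, hN0⟩ := Cfsg.Agent.H956.SUTorus.exists_num hk hq
  have hM1 : cm x ^ (q ^ k + 1) = 1 := by
    obtain ⟨c, hc⟩ := hlk
    rw [hc, pow_mul, hxl, one_pow]
  have hstar : ∀ a : E, φ (a ^ q ^ k) = ((φ a).map (Cfsg.Agent.LieClassical.GUOrder.frob hF))ᵀ := by
    intro a
    obtain ⟨f, hf⟩ := hφ2 a
    rw [map_pow, hf]
    exact pow_eq_star hF hk hσ (isU_SU hσ (by omega) x) hM1 f
  have : Finite E := Module.finite_of_finite F
  have : Nonempty (Fin k) := ⟨⟨0, by omega⟩⟩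
  have hcard : Nat.card Eˣ = (q ^ k + 1) * (q ^ k - 1) := by
    rw [Nat.card_units, Cfsg.Agent.H926.Cc.card_E (F := F) (E := E), hfr, Nat.card_eq_fintype_card (α := F), hF,
      ← pow_mul, mul_comm 2 k, pow_mul]
    have := Nat.sq_sub_sq (q ^ k) 1
    rwa [one_pow] at this
  obtain ⟨g, hg1⟩ := IsCyclic.exists_generator (α := Eˣ)
  have hg2 : orderOf g = Nat.card Eˣ := orderOf_eq_card_of_forall_mem_zpowers hg1
  have hmd : m ∣ orderOf g := by
    rw [hg2, hcard]
    exact Dvd.dvd.mul_right hm _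
  have hm0 : 0 < m := Nat.pos_of_dvd_of_pos hm (by positivity)
  set a : Eˣ := g ^ (orderOf g / m) with ha
  have hoa : orderOf a = m := orderOf_pow_orderOf_div (by rw [hg2]; exact Nat.card_pos.ne') hmd
  have hmN : m ∣ N := by
    rw [← hN] at hm
    exact hco.dvd_of_dvd_mul_right hm
  have haN : (a : E) ^ N = 1 := by
    obtain ⟨c, hc⟩ := hmN
    rw [hc, pow_mul, ← Units.val_pow_eq_pow_val, ← hoa, pow_orderOf_eq_one, Units.val_one, one_pow]
  obtain ⟨y, hy⟩ := (exists_iff hF (by omega) hfr hstar hk' hg (a : E)).2 haN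
  refine ⟨y, ?_⟩
  rw [← orderOf_cm, hy]
  have h7 : orderOf (φ (a : E)) = orderOf (a : E) :=
    orderOf_injective (φ : E →* Matrix (Fin k) (Fin k) F) φ.toRingHom.injective (a : E)
  rw [h7, orderOf_units, hoa]

/-- elements with two blocks of coprime orders -/
theorem exists_two (hF : Fintype.card F = q ^ 2) (hn : n = d + e) {m₁ m₂ k₁ l₁ k₂ l₂ : ℕ}
    (h₁ : ∃ u : SU d F q, orderOf u = m₁) (h₂ : ∃ v : SU e F q, orderOf v = m₂) (hco : m₁.Coprime m₂)
    (hl₁ : l₁ ∣ m₁) (hl₂ : l₂ ∣ m₂) (B₁ : Bl F q d k₁ l₁) (B₂ : Bl F q e k₂ l₂) :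
    ∃ (x : SU n F q) (s₁ s₂ : ℕ), (x ^ s₁) ^ l₁ = 1 ∧ (x ^ s₂) ^ l₂ = 1 ∧
      fx (rho n F q (x ^ s₁)) ⊓ fx (rho n F q (x ^ s₂)) = ⊥ ∧ fd (x ^ s₁) = e ∧ fd (x ^ s₂) = d ∧
      orderOf (x ^ m₂) = m₁ ∧ orderOf (x ^ m₁) = m₂ := by
  subst hn
  obtain ⟨u, hu⟩ := h₁
  obtain ⟨v, hv⟩ := h₂
  have hm₁ : 0 < m₁ := by rw [← hu]; exact orderOf_pos u
  have hm₂ : 0 < m₂ := by rw [← hv]; exact orderOf_pos v
  have hco₁ : l₁.Coprime m₂ := Nat.Coprime.coprime_dvd_left hl₁ hco
  have hco₂ : l₂.Coprime m₁ := Nat.Coprime.coprime_dvd_left hl₂ hco.symm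
  set s₁ := m₁ / l₁ * m₂ with hs₁
  set s₂ := m₂ / l₂ * m₁ with hs₂
  have hpow : ∀ s, bk hF (u, v) ^ s = bk hF (u ^ s, v ^ s) := fun s => (map_pow (bk hF) (u, v) s).symm
  have hv1 : v ^ s₁ = 1 := by rw [hs₁, mul_comm, pow_mul, ← hv, pow_orderOf_eq_one, one_pow]
  have hu1 : u ^ s₂ = 1 := by rw [hs₂, mul_comm, pow_mul, ← hu, pow_orderOf_eq_one, one_pow]
  have hu2 : orderOf (u ^ s₁) = l₁ := by
    rw [hs₁, pow_mul]
    have h1 : orderOf (u ^ (m₁ / l₁)) = l₁ := by
      rw [← hu]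
      exact orderOf_pow_orderOf_div (orderOf_pos u).ne' (by rw [hu]; exact hl₁)
    rw [Nat.Coprime.orderOf_pow (by rw [h1]; exact hco₁), h1]
  have hv2 : orderOf (v ^ s₂) = l₂ := by
    rw [hs₂, pow_mul]
    have h1 : orderOf (v ^ (m₂ / l₂)) = l₂ := by
      rw [← hv]
      exact orderOf_pow_orderOf_div (orderOf_pos v).ne' (by rw [hv]; exact hl₂)
    rw [Nat.Coprime.orderOf_pow (by rw [h1]; exact hco₂), h1]
  have hul : (u ^ s₁) ^ l₁ = 1 := by rw [← hu2, pow_orderOf_eq_one]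
  have hvl : (v ^ s₂) ^ l₂ = 1 := by rw [← hv2, pow_orderOf_eq_one]
  have hune : u ^ s₁ ≠ 1 := by
    intro h
    rw [h, orderOf_one] at hu2
    exact B₁.pr.one_lt.ne hu2
  have hvne : v ^ s₂ ≠ 1 := by
    intro h
    rw [h, orderOf_one] at hv2
    exact B₂.pr.one_lt.ne hv2
  have hfu := B₁.ff _ hul hune
  have hfv := B₂.ff _ hvl hvne
  refine ⟨bk hF (u, v), s₁, s₂, ?_, ?_, ?_, ?_, ?_, ?_, ?_⟩
  · rw [hpow, hv1, ← map_pow, Prod.pow_mk, hul, one_pow, ← map_one (bk hF)]
    rfl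
  · rw [hpow, hu1, ← map_pow, Prod.pow_mk, hvl, one_pow, ← map_one (bk hF)]
    rfl
  · rw [Submodule.eq_bot_iff]
    rintro w ⟨hw1, hw2⟩
    have h1 : w ∈ fx (rho (d + e) F q (bk hF (u ^ s₁, v ^ s₂))) := by
      have h2 : bk hF (u ^ s₁, v ^ s₂) = bk hF (u, v) ^ s₁ * bk hF (u, v) ^ s₂ := by
        rw [hpow, hpow, ← map_mul, hv1, hu1, Prod.mk_mul_mk, one_mul, mul_one]
      rw [mem_fx, h2, rho_mul_apply, mem_fx.1 hw2, mem_fx.1 hw1]
    have h2 : fd (bk hF (u ^ s₁, v ^ s₂)) = 0 := by rw [fd_bk, hfu, hfv]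
    rw [fd, Submodule.finrank_eq_zero] at h2
    rw [h2, Submodule.mem_bot] at h1
    exact h1
  · rw [hpow, hv1, fd_bk, hfu, fd_one, zero_add]
  · rw [hpow, hu1, fd_bk, hfv, fd_one, add_zero]
  · rw [hpow]
    have h1 : v ^ m₂ = 1 := by rw [← hv, pow_orderOf_eq_one]
    rw [h1, orderOf_injective _ (bk_injective hF), Prod.orderOf_mk, orderOf_one, Nat.lcm_one_right,
      Nat.Coprime.orderOf_pow (by rw [hu]; exact hco), hu]
  · rw [hpow]
    have h1 : u ^ m₁ = 1 := by rw [← hu, pow_orderOf_eq_one]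
    rw [h1, orderOf_injective _ (bk_injective hF), Prod.orderOf_mk, orderOf_one, Nat.lcm_one_left,
      Nat.Coprime.orderOf_pow (by rw [hv]; exact hco.symm), hv]

end Cfsg.Agent.H981.Cov
end

-- part: H981/Cov/Inc
section
/-!
# S2499, rows `PSU_n(q)`, `n ≥ 10` (task 3941): pairs of incompatible classes
-/

set_option autoImplicit false

namespace Cfsg.Agent.H981.Cov

open Cfsg Cfsg.Geo Module Matrix Polynomial
open Cfsg.Agent.LieClassical.HermBasic
open Cfsg.Agent.H278.Cov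
open Cfsg.Agent.H674.SUTools (cm cm_injective det_cm mkSU cm_mkSU cm_isom orderOf_cm)
open Cfsg.Agent.H779.DP (rho rho_apply rho_injective)
open Cfsg.Agent.H809.SelfCent (toG toG_injective toG_val)

variable {F : Type} [Field F] [Fintype F] {n d e q : ℕ}

theorem isUnitaryForm_herm (hF : Fintype.card F = q ^ 2) : IsUnitaryForm (conj hF) (hermForm n F q) where
  ne_refl := Cfsg.Agent.H921.conj_ne_refl hF
  involutive := fun a => pow_q_pow_q hF a
  add_left := fun x y v => herm_add_left x y v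
  smul_left := fun c x v => herm_smul_left c x v
  herm := fun v w => herm_swap hF w v
  nondegenerate := by
    intro v hv
    obtain ⟨x, hx⟩ := exists_herm_ne_zero hF hv
    refine ⟨⟨x, fun h => hx (herm_eq_zero_swap hF h)⟩, ⟨x, hx⟩⟩

/-- an element of prime order `l ≠ r` normalising a field of degree `r` -/
theorem ext_kill {r l : ℕ} (hr : r.Prime) (hl : l.Prime) (hne : r ≠ l)
    {E : Subalgebra F (Matrix (Fin n) (Fin n) F)} (hE : IsFieldSubalgebra r E) {x g : SU n F q} {s : ℕ}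
    (hx : toG n F q (g * x * g⁻¹) ∈ subalgebraNormalizer E) (hs : (x ^ s) ^ l = 1) : r ∣ fd (x ^ s) := by
  have h1 : toG n F q (g * x ^ s * g⁻¹) ∈ subalgebraNormalizer E := by
    rw [← conj_pow, map_pow]
    exact Subgroup.pow_mem _ hx s
  have h2 : toG n F q (g * x ^ s * g⁻¹) ^ l = 1 := by
    rw [← map_pow, conj_pow, hs, mul_one, mul_inv_cancel, map_one]
  have hco : Nat.Coprime (orderOf (toG n F q (g * x ^ s * g⁻¹))) r := by
    rcases (Nat.dvd_prime hl).1 (orderOf_dvd_of_pow_eq_one h2) with h | h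
    · rw [h]; exact Nat.coprime_one_left r
    · rw [h]; exact (Nat.coprime_primes hl hr).2 (Ne.symm hne)
  have h3 := Cfsg.Agent.H906.Cov.ext_dvd hr hE h1 hco (X - 1)
  rw [← fd_conj (x ^ s) g]
  have h4 : aeval (Matrix.toLin' (toG n F q (g * x ^ s * g⁻¹) : Matrix (Fin n) (Fin n) F)) (X - 1 : F[X]) =
      rho n F q (g * x ^ s * g⁻¹) - 1 := by
    rw [map_sub, aeval_X, map_one]
    rfl
  rw [h4] at h3
  exact h3

/-- the dimensions of the invariant subspaces of `x` satisfy `D` -/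
def IsD (x : SU n F q) (D : ℕ → Prop) : Prop :=
  ∀ W : Submodule F (Fin n → F), (∀ w ∈ W, rho n F q x w ∈ W) → D (finrank F W)

/-- **the criterion** : `x` has a power with `Num` -/
theorem inc_of (hP : Cfsg.Agent.H659.CovCore.S5948Stmt.{0}) (hF : Fintype.card F = q ^ 2) {x y : SU n F q}
    {D₁ D₂ : ℕ → Prop} (hx : IsD x D₁) (hy : IsD y D₂)
    (hD : ∀ i, 0 < i → i < n → D₁ i → D₂ i → False)
    {k s : ℕ} (hnum : Num (q ^ 2) n k (orderOf (x ^ s)))
    (hE : ∀ (r : ℕ) (E : Subalgebra F (Matrix (Fin n) (Fin n) F)) (g g' : SU n F q), r.Prime → r ∣ Nat.gcd n k →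
      IsFieldSubalgebra r E → toG n F q (g * x * g⁻¹) ∈ subalgebraNormalizer E →
      toG n F q (g' * y * g'⁻¹) ∈ subalgebraNormalizer E → False) : Inc x y := by
  intro H hH
  by_contra hcon
  rw [not_or] at hcon
  obtain ⟨h1, h2⟩ := hcon
  obtain ⟨g, hg⟩ := not_av h1
  obtain ⟨g', hg'⟩ := not_av h2
  set K := H.map (toG n F q) with hK
  have hgK : toG n F q (g * x * g⁻¹) ∈ K := ⟨_, hg, rfl⟩
  have hgK' : toG n F q (g' * y * g'⁻¹) ∈ K := ⟨_, hg', rfl⟩
  have hfix : FixesForm (matrixSet K) (hermForm n F q) := by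
    rintro _ ⟨_, ⟨z, hz, rfl⟩, rfl⟩ u v
    exact z.2 u v
  have hdet : ∀ z ∈ K, Matrix.GeneralLinearGroup.det z = 1 := by
    rintro _ ⟨z, hz, rfl⟩
    apply Units.ext
    exact det_cm z
  have hne : ∃ z : GL (Fin n) F, FixesForm {(z : Matrix (Fin n) (Fin n) F)} (hermForm n F q) ∧
      Matrix.GeneralLinearGroup.det z = 1 ∧ z ∉ K := by
    obtain ⟨z, hz⟩ : ∃ z, z ∉ H := by
      by_contra hc
      push Not at hc
      exact hH (Subgroup.eq_top_iff' H |>.2 hc)
    refine ⟨toG n F q z, ?_, ?_, ?_⟩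
    · intro w hw u v
      rw [Set.mem_singleton_iff.1 hw]
      exact z.2 u v
    · apply Units.ext
      exact det_cm z
    · rintro ⟨w, hw, hwz⟩
      rw [toG_injective hwz] at hw
      exact hz hw
  have hgs : toG n F q (g * x * g⁻¹) ^ s ∈ K := Subgroup.pow_mem _ hgK s
  have hos : orderOf (toG n F q (g * x * g⁻¹) ^ s) = orderOf (x ^ s) := by
    rw [← map_pow, orderOf_injective _ toG_injective, conj_pow]
    exact orderOf_injective (MulAut.conj g).toMonoidHom (MulAut.conj g).injective (x ^ s)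
  have hog := Cfsg.Agent.H89.Cov.og_su hP hF (isUnitaryForm_herm hF) hfix hdet hne hgs (k := k)
    (by rw [hos, Fintype.card_fin, hF]; exact hnum)
  rcases hog with ⟨W, hW0, hW1, hW⟩ | ⟨r, E, hr, hrd, hEf, hEK⟩
  · have hinv : ∀ z : SU n F q, toG n F q z ∈ K → ∀ w ∈ W, rho n F q z w ∈ W := by
      intro z hz w hw
      exact ((hW hz) w).1 hw
    obtain ⟨W₁, hW₁, hW₁'⟩ := exists_inv_conj (hinv _ hgK)
    obtain ⟨W₂, hW₂, hW₂'⟩ := exists_inv_conj (hinv _ hgK')
    have h3 := hx W₁ hW₁'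
    have h4 := hy W₂ hW₂'
    rw [hW₁] at h3
    rw [hW₂] at h4
    refine hD _ ?_ ?_ h3 h4
    · rw [Nat.pos_iff_ne_zero]
      intro h
      exact hW0 (Submodule.finrank_eq_zero.1 h)
    · have h5 := Submodule.finrank_lt hW1
      rwa [finrank_fin_fun] at h5
  · rw [Fintype.card_fin] at hrd
    exact hE r E g g' hr hrd hEf (hEK hgK) (hEK hgK')

/-! ### the elements -/

theorem num_ord (hF : Fintype.card F = q ^ 2) {k m l : ℕ} (hk : 0 < k) (hnum : Num (q ^ 2) n k m) (hl : l.Prime)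
    (hlm : l ∣ m) : orderOf ((Nat.card F : ℕ) : ZMod l) = k := by
  have hq := two_le_q hF
  have key : ∀ i, ((Nat.card F : ℕ) : ZMod l) ^ i = 1 ↔ l ∣ (q ^ 2) ^ i - 1 := by
    intro i
    have h1 : 1 ≤ (q ^ 2) ^ i := Nat.one_le_pow _ _ (by positivity)
    rw [Nat.card_eq_fintype_card, hF, ← Nat.cast_pow, ← Nat.modEq_iff_dvd' h1,
      ← ZMod.natCast_eq_natCast_iff, Nat.cast_one]
    exact eq_comm
  rw [orderOf_eq_iff hk]
  refine ⟨(key k).2 (hlm.trans hnum.dvd), fun i hi hi0 h => ?_⟩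
  have h1 := (key i).1 h
  exact Nat.not_coprime_of_dvd_of_dvd hl.one_lt hlm h1 (hnum.prim i hi0 hi)

theorem num_coprime (hF : Fintype.card F = q ^ 2) {k m : ℕ} (hk : 1 < k) (hnum : Num (q ^ 2) n k m) :
    Nat.Coprime m (q + 1) := by
  have h1 := hnum.prim 1 le_rfl hk
  rw [pow_one] at h1
  refine Nat.Coprime.coprime_dvd_right ?_ h1
  have := Nat.sq_sub_sq q 1
  rw [one_pow] at this
  rw [this]
  exact Dvd.intro _ rfl

/-- elements `1 + [k]`, `k` odd -/
theorem exists_big (hF : Fintype.card F = q ^ 2) {c k m : ℕ} (hn : n = c + k) (hk : Odd k) (hk3 : 3 ≤ k)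
    (hex : ¬ (q = 2 ∧ k = 3)) (hm : m ∣ q ^ k + 1) (hnum : Num (q ^ 2) n k m) :
    ∃ x : SU n F q, orderOf (x ^ 1) = m ∧ IsD x (fun t => ∃ i j, t = k * i + j ∧ i ≤ 1 ∧ j ≤ c) := by
  subst hn
  obtain ⟨v, hv⟩ := exists_tor hF hk hk3 hex hm (num_coprime hF (by omega) hnum)
  obtain ⟨l, hl, hlm, -⟩ := hnum.sub
  have ho : orderOf ((Nat.card F : ℕ) : ZMod l) = k := num_ord hF (by omega) hnum hl hlm
  have B : Bl F q k k l := Bl.self hl (by omega) ho
  have hm0 : 0 < m := by rw [← hv]; exact orderOf_pos v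
  have hv2 : orderOf (v ^ (m / l)) = l := by
    rw [← hv]
    exact orderOf_pow_orderOf_div (orderOf_pos v).ne' (by rw [hv]; exact hlm)
  have hvl : (v ^ (m / l)) ^ l = 1 := by
    nth_rewrite 2 [← hv2]
    exact pow_orderOf_eq_one _
  have hvne : v ^ (m / l) ≠ 1 := by
    intro h
    rw [h, orderOf_one] at hv2
    exact B.pr.one_lt.ne hv2
  have hfv := B.ff _ hvl hvne
  refine ⟨bk hF ((1 : SU c F q), v), ?_, ?_⟩
  · rw [pow_one, orderOf_injective _ (bk_injective hF), Prod.orderOf_mk, orderOf_one, Nat.lcm_one_left, hv]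
  · intro W hW
    have hpow : bk hF ((1 : SU c F q), v) ^ (m / l) = bk hF ((1 : SU c F q), v ^ (m / l)) := by
      rw [← map_pow, Prod.pow_mk, one_pow]
    have hT : (rho (c + k) F q (bk hF ((1 : SU c F q), v) ^ (m / l))) ^ l = 1 := by
      rw [← map_pow, hpow, ← map_pow, Prod.pow_mk, hvl, one_pow]
      have : bk hF ((1 : SU c F q), (1 : SU k F q)) = 1 := map_one (bk hF)
      rw [this, map_one]
    have hpw : ∀ s : ℕ, ∀ w ∈ W, rho (c + k) F q (bk hF ((1 : SU c F q), v) ^ s) w ∈ W := by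
      intro s
      induction s with
      | zero => intro w hw; rw [pow_zero, rho_one_apply]; exact hw
      | succ s ih => intro w hw; rw [pow_succ', rho_mul_apply]; exact hW _ (ih w hw)
    have hfd : finrank F (fx (rho (c + k) F q (bk hF ((1 : SU c F q), v) ^ (m / l)))) = c := by
      change fd _ = c
      rw [hpow, fd_bk, hfv, fd_one, add_zero]
    obtain ⟨i, j, h1, h2, h3, -⟩ := dim_one hl (by omega) ho hT (hpw (m / l))
    rw [hfd, finrank_fin_fun] at h2
    rw [hfd] at h3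
    refine ⟨i, j, h1, ?_, h3⟩
    rcases Nat.lt_or_ge 1 i with h4 | h4
    · have : k * 2 ≤ k * i := Nat.mul_le_mul_left k h4
      omega
    · exact h4

/-- elements `[k] + [k]` : one element without fixed points -/
theorem exists_double (hF : Fintype.card F = q ^ 2) {k l : ℕ} (hn : n = k + k) (B : Bl F q k k l)
    (h : ∃ u : SU k F q, orderOf u = l) :
    ∃ x : SU n F q, IsD x (fun t => ∃ i, t = k * i) := by
  subst hn
  obtain ⟨u, hu⟩ := h
  have hul : u ^ l = 1 := by rw [← hu, pow_orderOf_eq_one]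
  have hune : u ≠ 1 := by
    intro h
    rw [h, orderOf_one] at hu
    exact B.pr.one_lt.ne hu
  refine ⟨bk hF (u, u), fun W hW => ?_⟩
  have hT : (rho (k + k) F q (bk hF (u, u))) ^ l = 1 := by
    rw [← map_pow, ← map_pow, Prod.pow_mk, hul]
    have : bk hF ((1 : SU k F q), (1 : SU k F q)) = 1 := map_one (bk hF)
    rw [this, map_one]
  obtain ⟨i, j, h1, h2, h3, -⟩ := dim_one B.pr B.pos B.ord hT hW
  have hfd : finrank F (fx (rho (k + k) F q (bk hF (u, u)))) = 0 := by
    change fd _ = 0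
    rw [fd_bk, B.ff u hul hune]
  rw [hfd] at h3
  exact ⟨i, by omega⟩

/-- one fixed point free element -/
theorem exists_single {k l : ℕ} (B : Bl F q n k l) (h : ∃ u : SU n F q, orderOf u = l) :
    ∃ x : SU n F q, IsD x (fun t => ∃ i, t = k * i) := by
  obtain ⟨u, hu⟩ := h
  have hul : u ^ l = 1 := by rw [← hu, pow_orderOf_eq_one]
  have hune : u ≠ 1 := by
    intro h
    rw [h, orderOf_one] at hu
    exact B.pr.one_lt.ne hu
  refine ⟨u, fun W hW => ?_⟩
  have hT : (rho n F q u) ^ l = 1 := by rw [← map_pow, hul, map_one]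
  obtain ⟨i, j, h1, h2, h3, -⟩ := dim_one B.pr B.pos B.ord hT hW
  have hfd : finrank F (fx (rho n F q u)) = 0 := B.ff u hul hune
  rw [hfd] at h3
  exact ⟨i, by omega⟩

/-- two blocks -/
theorem exists_pair (hF : Fintype.card F = q ^ 2) (hn : n = d + e) {m₁ m₂ k₁ l₁ k₂ l₂ : ℕ}
    (h₁ : ∃ u : SU d F q, orderOf u = m₁) (h₂ : ∃ v : SU e F q, orderOf v = m₂) (hco : m₁.Coprime m₂)
    (hl₁ : l₁ ∣ m₁) (hl₂ : l₂ ∣ m₂) (B₁ : Bl F q d k₁ l₁) (B₂ : Bl F q e k₂ l₂) :
    ∃ x : SU n F q, IsD x (fun t => ∃ i j, t = k₁ * i + k₂ * j ∧ k₁ * i ≤ d ∧ k₂ * j ≤ e) ∧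
      (∀ (r : ℕ) (E : Subalgebra F (Matrix (Fin n) (Fin n) F)) (g : SU n F q), r.Prime →
        IsFieldSubalgebra r E → toG n F q (g * x * g⁻¹) ∈ subalgebraNormalizer E → r ∣ d ∨ r ∣ e) ∧
      (∃ s, orderOf (x ^ s) = m₂) := by
  obtain ⟨x, s₁, s₂, h1, h2, h3, h4, h5, h6, h7⟩ := exists_two hF hn h₁ h₂ hco hl₁ hl₂ B₁ B₂
  refine ⟨x, ?_, ?_, m₁, h7⟩
  · intro W hW
    have hpw : ∀ s : ℕ, ∀ w ∈ W, rho n F q (x ^ s) w ∈ W := by
      intro s
      induction s with
      | zero => intro w hw; rw [pow_zero, rho_one_apply]; exact hw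
      | succ s ih => intro w hw; rw [pow_succ', rho_mul_apply]; exact hW _ (ih w hw)
    obtain ⟨i, j, h8, h9, h10⟩ := dim_two B₁.pr B₁.pos B₁.ord B₂.pr B₂.pos B₂.ord
      (T₁ := rho n F q (x ^ s₁)) (T₂ := rho n F q (x ^ s₂)) (by rw [← map_pow, h1, map_one])
      (by rw [← map_pow, h2, map_one]) (by rw [← map_mul, ← map_mul, ← pow_add, ← pow_add, add_comm]) h3
      (hpw s₁) (hpw s₂)
    rw [finrank_fin_fun] at h9
    change k₁ * i + fd (x ^ s₁) ≤ n at h9
    change k₂ * j ≤ fd (x ^ s₁) at h10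
    rw [h4] at h9 h10
    exact ⟨i, j, h8, by omega, h10⟩
  · intro r E g hr hE hg
    by_cases hne : r = l₁
    · left
      have hne2 : r ≠ l₂ := by
        intro h
        have h9 : l₁ = l₂ := by rw [← hne, h]
        have h10 := Nat.not_coprime_of_dvd_of_dvd B₁.pr.one_lt hl₁ (h9 ▸ hl₂)
        exact h10 hco
      have h8 := ext_kill hr B₂.pr hne2 hE hg h2
      rwa [h5] at h8
    · right
      have h8 := ext_kill hr B₁.pr hne hE hg h1
      rwa [h4] at h8

theorem dvd_eight_cases {r : ℕ} (hr : r.Prime) (h : r ∣ 8) : r = 2 := by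
  have : (8 : ℕ) = 2 ^ 3 := by norm_num
  rw [this] at h
  exact (Nat.prime_dvd_prime_iff_eq hr Nat.prime_two).1 (hr.dvd_of_dvd_pow h)

/-- two primitive primes with different exponents -/
theorem ne_of_prim {l₁ l₂ e₁ e₂ : ℕ} (h₁ : ∀ m, l₁ ∣ q ^ m - 1 ↔ e₁ ∣ m) (h₂ : ∀ m, l₂ ∣ q ^ m - 1 ↔ e₂ ∣ m)
    (hne : e₁ ≠ e₂) : l₁ ≠ l₂ := by
  rintro rfl
  apply hne
  apply Nat.dvd_antisymm
  · rw [← h₁, h₂]
  · rw [← h₂, h₁]

end Cfsg.Agent.H981.Cov
end

private theorem dce_cdb1afc67e09 : _root_.True := by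
  try have : _root_.True := by simp only [_root_.Cfsg.Agent.H981.Cov.fx.eq_1]
  try have : _root_.True := by simp only [_root_.Cfsg.Agent.H981.Cov.fd.eq_1]
  try have : _root_.True := by simp only [_root_.Cfsg.Agent.H981.Cov.nu.eq_1]
  exact _root_.True.intro
end
end
end
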